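import Cfsg.Prelude.Def_BlockFusion
import Cfsg.Prelude.Def_BlockRank
import Cfsg.Agent.Characters.Core
import Cfsg.Agent.Blocks.Basic

/-!
# Transport of blocks along group isomorphisms

For `e : G ≃* H`: `irrMap e χ` is the irreducible character `h ↦ χ (e⁻¹ h)` of `H`, `blkMap e B` the
image of a set of irreducible characters.  Blocks, block idempotent coefficients, defect classes,
defect groups, defect, heights, rank, principal block, all transport.
-/

set_option autoImplicit false

open Cfsg

namespace Cfsg.Agent.H649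

universe u v w

variable {G : Type u} {H : Type v} {K : Type w} [Group G] [Group H] [Group K]

/-- Transport of an irreducible character along an isomorphism. -/
def irrMap (e : G ≃* H) (χ : IrrCharacter G) : IrrCharacter H :=
  ⟨fun h => (χ : G → ℂ) (e.symm h),
    Cfsg.Agent.Characters.Core.isIrr_comp e.symm.toMonoidHom e.symm.surjective χ.2⟩

theorem irrMap_apply (e : G ≃* H) (χ : IrrCharacter G) (h : H) :
    (irrMap e χ : H → ℂ) h = (χ : G → ℂ) (e.symm h) := rfl

theorem irrMap_apply' (e : G ≃* H) (χ : IrrCharacter G) (g : G) :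
    (irrMap e χ : H → ℂ) (e g) = (χ : G → ℂ) g := by
  rw [irrMap_apply, e.symm_apply_apply]

theorem irrMap_one (e : G ≃* H) (χ : IrrCharacter G) :
    (irrMap e χ : H → ℂ) 1 = (χ : G → ℂ) 1 := by
  rw [irrMap_apply, map_one]

theorem irrMap_refl (χ : IrrCharacter G) : irrMap (MulEquiv.refl G) χ = χ := rfl

theorem irrMap_irrMap (e : G ≃* H) (f : H ≃* K) (χ : IrrCharacter G) :
    irrMap f (irrMap e χ) = irrMap (e.trans f) χ := rfl

theorem irrMap_symm_irrMap (e : G ≃* H) (χ : IrrCharacter G) : irrMap e.symm (irrMap e χ) = χ :=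
  Subtype.ext (funext fun g => by
    rw [irrMap_apply, irrMap_apply, e.symm_symm, e.symm_apply_apply])

theorem irrMap_irrMap_symm (e : G ≃* H) (χ : IrrCharacter H) : irrMap e (irrMap e.symm χ) = χ :=
  Subtype.ext (funext fun g => by
    rw [irrMap_apply, irrMap_apply, e.symm_symm, e.apply_symm_apply])

/-- Transport of irreducible characters as an equivalence. -/
def irrEquiv (e : G ≃* H) : IrrCharacter G ≃ IrrCharacter H where
  toFun := irrMap e
  invFun := irrMap e.symm
  left_inv := irrMap_symm_irrMap e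
  right_inv := irrMap_irrMap_symm e

theorem irrEquiv_apply (e : G ≃* H) (χ : IrrCharacter G) : irrEquiv e χ = irrMap e χ := rfl

theorem irrMap_injective (e : G ≃* H) : Function.Injective (irrMap e) := (irrEquiv e).injective

/-- Transport of a set of irreducible characters. -/
def blkMap (e : G ≃* H) (B : Set (IrrCharacter G)) : Set (IrrCharacter H) := irrMap e '' B

theorem mem_blkMap {e : G ≃* H} {B : Set (IrrCharacter G)} {ξ : IrrCharacter H} :
    ξ ∈ blkMap e B ↔ irrMap e.symm ξ ∈ B := by
  constructor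
  · rintro ⟨χ, hχ, rfl⟩
    rwa [irrMap_symm_irrMap]
  · intro h
    exact ⟨_, h, irrMap_irrMap_symm e ξ⟩

theorem irrMap_mem_blkMap {e : G ≃* H} {B : Set (IrrCharacter G)} {χ : IrrCharacter G} :
    irrMap e χ ∈ blkMap e B ↔ χ ∈ B := by
  rw [mem_blkMap, irrMap_symm_irrMap]

theorem blkMap_refl (B : Set (IrrCharacter G)) : blkMap (MulEquiv.refl G) B = B := by
  ext χ
  rw [mem_blkMap]
  exact Iff.rfl

theorem blkMap_blkMap (e : G ≃* H) (f : H ≃* K) (B : Set (IrrCharacter G)) :
    blkMap f (blkMap e B) = blkMap (e.trans f) B := by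
  ext χ
  rw [mem_blkMap, mem_blkMap, mem_blkMap]
  exact Iff.rfl

theorem blkMap_symm_blkMap (e : G ≃* H) (B : Set (IrrCharacter G)) :
    blkMap e.symm (blkMap e B) = B := by
  ext χ
  rw [mem_blkMap, mem_blkMap, e.symm_symm, irrMap_symm_irrMap]

theorem blkMap_blkMap_symm (e : G ≃* H) (B : Set (IrrCharacter H)) :
    blkMap e (blkMap e.symm B) = B := by
  ext χ
  rw [mem_blkMap, mem_blkMap, e.symm_symm, irrMap_irrMap_symm]

theorem blkMap_injective (e : G ≃* H) : Function.Injective (blkMap e) := by
  intro A B h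
  rw [← blkMap_symm_blkMap e A, h, blkMap_symm_blkMap]

/-! ### Centralizers -/

theorem centralizer_map (e : G ≃* H) (Q : Subgroup G) :
    Subgroup.centralizer ((Q.map e.toMonoidHom : Subgroup H) : Set H) =
      (Subgroup.centralizer (Q : Set G)).map e.toMonoidHom := by
  ext x
  rw [Subgroup.mem_centralizer_iff, Subgroup.mem_map]
  constructor
  · intro h
    refine ⟨e.symm x, ?_, e.apply_symm_apply x⟩
    rw [Subgroup.mem_centralizer_iff]
    intro q hq
    have h1 := h (e q) ⟨q, hq, rfl⟩
    apply e.injective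
    rw [map_mul, map_mul, e.apply_symm_apply, h1]
  · rintro ⟨y, hy, rfl⟩ _ ⟨q, hq, rfl⟩
    rw [Subgroup.mem_centralizer_iff] at hy
    have h1 := hy q hq
    change e q * e y = e y * e q
    rw [← map_mul, h1, map_mul]

theorem centralizer_singleton_map (e : G ≃* H) (g : G) :
    Subgroup.centralizer ({e g} : Set H) =
      (Subgroup.centralizer ({g} : Set G)).map e.toMonoidHom := by
  ext x
  rw [Subgroup.mem_map]
  constructor
  · intro h
    refine ⟨e.symm x, ?_, e.apply_symm_apply x⟩
    rw [Subgroup.mem_centralizer_singleton_iff] at h ⊢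
    apply e.injective
    rw [map_mul, map_mul, e.apply_symm_apply, h]
  · rintro ⟨y, hy, rfl⟩
    rw [Subgroup.mem_centralizer_singleton_iff] at hy ⊢
    change e y * e g = e g * e y
    rw [← map_mul, hy, map_mul]

theorem normalizer_map (e : G ≃* H) (Q : Subgroup G) :
    Subgroup.normalizer ((Q.map e.toMonoidHom : Subgroup H) : Set H) =
      (Subgroup.normalizer (Q : Set G)).map e.toMonoidHom := by
  ext x
  rw [Subgroup.mem_map_equiv, Subgroup.mem_normalizer_iff, Subgroup.mem_normalizer_iff]
  constructor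
  · intro h q
    have h1 := h (e q)
    rw [Subgroup.mem_map_equiv, Subgroup.mem_map_equiv] at h1
    simpa using h1
  · intro h q
    have h1 := h (e.symm q)
    rw [Subgroup.mem_map_equiv, Subgroup.mem_map_equiv]
    simpa using h1

theorem index_centralizer_map (e : G ≃* H) (g : G) :
    (Subgroup.centralizer ({e g} : Set H)).index =
      (Subgroup.centralizer ({g} : Set G)).index := by
  rw [centralizer_singleton_map]
  exact Subgroup.index_map_equiv _ e

/-! ### Central characters and blocks -/

theorem centralChar_map (e : G ≃* H) (φ : G → ℂ) (h : H) :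
    centralChar (fun x : H => φ (e.symm x)) h = centralChar φ (e.symm h) := by
  rw [centralChar, centralChar, map_one, ← index_centralizer_map e (e.symm h),
    e.apply_symm_apply]

theorem sameBlock_map_iff (e : G ≃* H) {M : Ideal AlgInt} (φ ψ : G → ℂ) :
    SameBlock M (fun x : H => φ (e.symm x)) (fun x : H => ψ (e.symm x)) ↔ SameBlock M φ ψ := by
  constructor
  · intro h g
    have h1 := h (e g)
    rwa [centralChar_map, centralChar_map, e.symm_apply_apply] at h1
  · intro h x
    rw [centralChar_map, centralChar_map]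
    exact h _

theorem sameBlock_irrMap_iff (e : G ≃* H) {M : Ideal AlgInt} (χ ψ : IrrCharacter G) :
    SameBlock M (irrMap e χ : H → ℂ) (irrMap e ψ : H → ℂ) ↔
      SameBlock M (χ : G → ℂ) (ψ : G → ℂ) := sameBlock_map_iff e _ _

theorem blkMap_blockOf (e : G ≃* H) {M : Ideal AlgInt} (φ : G → ℂ) :
    blkMap e (blockOf M φ) = blockOf M (fun x : H => φ (e.symm x)) := by
  ext ξ
  rw [mem_blkMap]
  change SameBlock M φ (irrMap e.symm ξ : G → ℂ) ↔ SameBlock M _ (ξ : H → ℂ)
  rw [← sameBlock_map_iff e]
  have h : (fun x : H => (irrMap e.symm ξ : G → ℂ) (e.symm x)) = (ξ : H → ℂ) := by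
    funext x
    rw [irrMap_apply, e.symm_symm, e.apply_symm_apply]
  rw [h]

theorem isPBlock_blkMap {e : G ≃* H} {M : Ideal AlgInt} {B : Set (IrrCharacter G)}
    (h : IsPBlock M B) : IsPBlock M (blkMap e B) := by
  obtain ⟨χ, rfl⟩ := h
  exact ⟨irrMap e χ, blkMap_blockOf e _⟩

theorem isPBlock_blkMap_iff {e : G ≃* H} {M : Ideal AlgInt} {B : Set (IrrCharacter G)} :
    IsPBlock M (blkMap e B) ↔ IsPBlock M B := by
  refine ⟨fun h => ?_, isPBlock_blkMap⟩
  have h1 := isPBlock_blkMap (e := e.symm) h
  rwa [blkMap_symm_blkMap] at h1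

theorem blkMap_principalBlock (e : G ≃* H) {M : Ideal AlgInt} :
    blkMap e (principalBlock M G) = principalBlock M H := blkMap_blockOf e _

theorem charDegree_irrMap (e : G ≃* H) (χ : IrrCharacter G) :
    charDegree (irrMap e χ : H → ℂ) = charDegree (χ : G → ℂ) := by
  rw [charDegree, charDegree, irrMap_one]

theorem image_degree_blkMap (e : G ≃* H) (p : ℕ) (B : Set (IrrCharacter G)) :
    (fun χ : IrrCharacter H => (charDegree (χ : H → ℂ)).factorization p) '' blkMap e B =
      (fun χ : IrrCharacter G => (charDegree (χ : G → ℂ)).factorization p) '' B := by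
  rw [blkMap, Set.image_image]
  simp only [charDegree_irrMap]

theorem blockDefect_blkMap (e : G ≃* H) (p : ℕ) (B : Set (IrrCharacter G)) :
    blockDefect p (blkMap e B) = blockDefect p B := by
  rw [blockDefect, blockDefect, image_degree_blkMap, Nat.card_congr e.symm.toEquiv]

theorem blockHeight_blkMap (e : G ≃* H) (p : ℕ) (B : Set (IrrCharacter G)) (χ : IrrCharacter G) :
    blockHeight p (blkMap e B) (irrMap e χ : H → ℂ) = blockHeight p B (χ : G → ℂ) := by
  rw [blockHeight, blockHeight, image_degree_blkMap, charDegree_irrMap]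

open scoped ComplexConjugate in
theorem blockCoeff_blkMap (e : G ≃* H) (B : Set (IrrCharacter G)) (g : G) :
    blockCoeff (blkMap e B) (e g) = blockCoeff B g := by
  rw [blockCoeff, blockCoeff, Nat.card_congr e.symm.toEquiv, blkMap,
    finsum_mem_image ((irrMap_injective e).injOn)]
  simp only [irrMap_one, irrMap_apply']

theorem blockCoeff_blkMap' (e : G ≃* H) (B : Set (IrrCharacter G)) (h : H) :
    blockCoeff (blkMap e B) h = blockCoeff B (e.symm h) := by
  rw [← blockCoeff_blkMap e B (e.symm h), e.apply_symm_apply]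

theorem isDefectClass_blkMap {e : G ≃* H} {M : Ideal AlgInt} {B : Set (IrrCharacter G)} {g : G}
    (h : IsDefectClass M B g) : IsDefectClass M (blkMap e B) (e g) := by
  obtain ⟨h1, h2, h3⟩ := h
  refine ⟨by rwa [blockCoeff_blkMap], by rwa [blockCoeff_blkMap], ?_⟩
  rintro _ ⟨χ, hχ, rfl⟩
  have h4 := centralChar_map e (χ : G → ℂ) (e g)
  rw [e.symm_apply_apply] at h4
  change ¬ MemLocalIdeal M (centralChar (fun x : H => (χ : G → ℂ) (e.symm x)) (e g))
  rw [h4]
  exact h3 χ hχ

open Cfsg.Agent.Blocks.Basic in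
theorem isSylowCentralizer_map {e : G ≃* H} {p : ℕ} {g : G} {D : Subgroup G}
    (h : IsSylowCentralizer p g D) :
    IsSylowCentralizer p (e g) (D.map e.toMonoidHom) := by
  rw [isSylowCentralizer_iff] at h ⊢
  obtain ⟨h1, h2, h3⟩ := h
  refine ⟨h1.map _, ?_, ?_⟩
  · rw [centralizer_singleton_map]
    exact Subgroup.map_mono h2
  · intro Q hQ hQC hDQ
    have h4 := h3 (Q.map e.symm.toMonoidHom) (hQ.map _) (by
        rintro _ ⟨x, hx, rfl⟩
        have h5 := hQC hx
        rw [centralizer_singleton_map] at h5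
        obtain ⟨y, hy, rfl⟩ := h5
        change e.symm (e y) ∈ _
        rwa [e.symm_apply_apply]) (by
        intro x hx
        exact ⟨e x, hDQ ⟨x, hx, rfl⟩, e.symm_apply_apply x⟩)
    rw [← h4, Subgroup.map_map]
    have h5 : e.toMonoidHom.comp e.symm.toMonoidHom = MonoidHom.id H := by
      ext x
      exact e.apply_symm_apply x
    rw [h5, Subgroup.map_id]

theorem isDefectGroup_blkMap {e : G ≃* H} {p : ℕ} {M : Ideal AlgInt}
    {B : Set (IrrCharacter G)} {D : Subgroup G} (h : IsDefectGroup p M B D) :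
    IsDefectGroup p M (blkMap e B) (D.map e.toMonoidHom) := by
  obtain ⟨g, hg, hD⟩ := Cfsg.Agent.Blocks.Basic.isDefectGroup_iff.1 h
  exact Cfsg.Agent.Blocks.Basic.isDefectGroup_iff.2
    ⟨e g, isDefectClass_blkMap hg, isSylowCentralizer_map hD⟩

theorem map_symm_map (e : G ≃* H) (D : Subgroup G) :
    (D.map e.toMonoidHom).map e.symm.toMonoidHom = D := by
  rw [Subgroup.map_map]
  have h5 : e.symm.toMonoidHom.comp e.toMonoidHom = MonoidHom.id G := by
    ext x
    exact e.symm_apply_apply x
  rw [h5, Subgroup.map_id]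

theorem map_map_symm (e : G ≃* H) (D : Subgroup H) :
    (D.map e.symm.toMonoidHom).map e.toMonoidHom = D := by
  rw [Subgroup.map_map]
  have h5 : e.toMonoidHom.comp e.symm.toMonoidHom = MonoidHom.id H := by
    ext x
    exact e.apply_symm_apply x
  rw [h5, Subgroup.map_id]

theorem isDefectGroup_blkMap_iff {e : G ≃* H} {p : ℕ} {M : Ideal AlgInt}
    {B : Set (IrrCharacter G)} {D : Subgroup G} :
    IsDefectGroup p M (blkMap e B) (D.map e.toMonoidHom) ↔ IsDefectGroup p M B D := by
  refine ⟨fun h => ?_, isDefectGroup_blkMap⟩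
  have h1 := isDefectGroup_blkMap (e := e.symm) h
  rwa [blkMap_symm_blkMap, map_symm_map] at h1

/-- A defect group of the transported block is the image of a defect group. -/
theorem isDefectGroup_blkMap_iff' {e : G ≃* H} {p : ℕ} {M : Ideal AlgInt}
    {B : Set (IrrCharacter G)} {D : Subgroup H} :
    IsDefectGroup p M (blkMap e B) D ↔ IsDefectGroup p M B (D.map e.symm.toMonoidHom) := by
  rw [← isDefectGroup_blkMap_iff (e := e) (D := D.map e.symm.toMonoidHom), map_map_symm]

/-! ### Rank -/

theorem isPRegular_map_iff (e : G ≃* H) (p : ℕ) (g : G) :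
    IsPRegular p (e g) ↔ IsPRegular p g := by
  rw [IsPRegular, IsPRegular, MulEquiv.orderOf_eq]

theorem isPPart_map_iff (e : G ≃* H) (p : ℕ) (g x : G) :
    IsPPart p (e g) (e x) ↔ IsPPart p g x := by
  constructor
  · rintro ⟨y, h1, h2, h3, h4⟩
    refine ⟨e.symm y, ?_, ?_, ?_, ?_⟩
    · apply e.injective
      rw [map_mul, e.apply_symm_apply, h1]
    · have h5 : e (x * e.symm y) = e (e.symm y * x) := by
        rw [map_mul, map_mul, e.apply_symm_apply]
        exact h2
      exact e.injective h5
    · rwa [MulEquiv.orderOf_eq] at h3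
    · rwa [MulEquiv.orderOf_eq]
  · rintro ⟨y, h1, h2, h3, h4⟩
    refine ⟨e y, by rw [← map_mul, h1], h2.map e, ?_, ?_⟩
    · rwa [MulEquiv.orderOf_eq]
    · rwa [MulEquiv.orderOf_eq]

theorem pRegularPart_map (e : G ≃* H) (p : ℕ) (φ : G → ℂ) :
    pRegularPart p (fun x : H => φ (e.symm x)) = fun x : H => pRegularPart p φ (e.symm x) := by
  funext x
  have h : IsPRegular p (e.symm x) ↔ IsPRegular p x := isPRegular_map_iff e.symm p x
  unfold pRegularPart
  by_cases h1 : IsPRegular p x
  · rw [if_pos h1, if_pos (h.2 h1)]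
  · rw [if_neg h1, if_neg (fun h2 => h1 (h.1 h2))]

theorem blockRank_blkMap (e : G ≃* H) (p : ℕ) (B : Set (IrrCharacter G)) :
    blockRank p (blkMap e B) = blockRank p B := by
  let L : (G → ℂ) ≃ₗ[ℂ] (H → ℂ) := LinearEquiv.funCongrLeft ℂ ℂ e.symm.toEquiv
  have hL : ∀ φ : G → ℂ, L φ = fun x : H => φ (e.symm x) := fun φ => rfl
  have h1 : (fun χ : IrrCharacter H => pRegularPart p (χ : H → ℂ)) '' blkMap e B =
      L '' ((fun χ : IrrCharacter G => pRegularPart p (χ : G → ℂ)) '' B) := by
    rw [blkMap, Set.image_image, Set.image_image]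
    apply Set.image_congr
    intro χ _
    rw [hL]
    exact pRegularPart_map e p (χ : G → ℂ)
  rw [blockRank, blockRank, h1]
  have h2 : Submodule.span ℂ (L '' ((fun χ : IrrCharacter G => pRegularPart p (χ : G → ℂ)) '' B)) =
      (Submodule.span ℂ ((fun χ : IrrCharacter G => pRegularPart p (χ : G → ℂ)) '' B)).map
        L.toLinearMap := by
    rw [Submodule.map_span]
    rfl
  rw [h2]
  exact LinearEquiv.finrank_eq (L.submoduleMap _).symm

end Cfsg.Agent.H649
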