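import Cfsg.Agent.H649.FusBlock
import Cfsg.Agent.H644.Uniq
import Cfsg.Agent.H646.DefectBasic
import Cfsg.Agent.S0959

/-!
# Brauer pairs and defect groups

* `exists_defect_ge`: the subgroup of a Brauer pair of `B` is contained in a defect group of `B`;
* `exists_pair_of_isDefectGroup`: a defect group of `B` carries a Brauer pair of `B`.
-/

set_option autoImplicit false
set_option linter.unusedSectionVars false

open Cfsg

namespace Cfsg.Agent.H649

open Cfsg.Agent.H644 Cfsg.Agent.Blocks.Local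
open Cfsg.Agent.Blocks.Basic (isPBlock_nonempty isPBlock_blockOf)

variable {p : ℕ} [Fact p.Prime] {M : Ideal AlgInt} {G : Type*} [Group G] [Finite G]

/-- The subgroup of a Brauer pair of `B` is contained in a defect group of `B`. -/
theorem exists_defect_ge (hM : IsPModular p M) {B : Set (IrrCharacter G)} {Q : Subgroup G}
    {e : Set (IrrCharacter (Subgroup.centralizer (Q : Set G)))}
    (h : IsBrauerPairOf p M B Q e) : ∃ D : Subgroup G, IsDefectGroup p M B D ∧ Q ≤ D := by
  have hp : M.IsPrime := isPrime_of_isPModular hM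
  obtain ⟨D, hD⟩ := Cfsg.Agent.H646.DefectBasic.exists_isDefectGroup hM h.2.1
  obtain ⟨h1, hB, h2⟩ := (isBrauerPairOf_iff hM).1 h
  obtain ⟨ξ, hξ⟩ := isPBlock_nonempty h1.2
  have h3 := h2 ξ hξ
  have h4 : ∃ c : Subgroup.centralizer (Q : Set G), (br Q (idem M B)).coeff c ≠ 0 := by
    by_contra hne
    push Not at hne
    have h5 : br Q (idem M B) = 0 := ext_coeff fun c => by rw [hne c]; rfl
    rw [h5, map_zero] at h3
    exact zero_ne_one h3
  obtain ⟨c, hc⟩ := h4
  rw [coeff_br, coeff_idem] at hc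
  have h5 : MemLocalRing M (blockCoeff B (c : G)) :=
    memLocalRing_blockCoeff hM (isUnion_of_isPBlock hB) _
  have h6 : ¬ MemLocalIdeal M (blockCoeff B (c : G)) := fun h =>
    hc ((redC_eq_zero_iff h5).2 h)
  obtain ⟨x, hx⟩ := (Cfsg.Agent.S0959.result p M hM B hB D hD Q h1.1).1
    ⟨c, h5, h6, c, IsConj.refl _, c.2⟩
  refine ⟨D.map (MulAut.conj x⁻¹).toMonoidHom,
    Cfsg.Agent.Blocks.Basic.isDefectGroup_conj hD x⁻¹, ?_⟩
  have h7 := Subgroup.map_mono (f := (MulAut.conj x⁻¹).toMonoidHom) hx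
  rwa [Cfsg.Agent.Blocks.Basic.map_conj_map_conj, inv_mul_cancel,
    Cfsg.Agent.Blocks.Basic.map_conj_one] at h7

/-- A `p`-subgroup of a defect group of `B` carries a Brauer pair of `B`. -/
theorem exists_pair_of_le (hM : IsPModular p M) {B : Set (IrrCharacter G)}
    (hB : IsPBlock M B) {D Q : Subgroup G} (hD : IsDefectGroup p M B D) (hQD : Q ≤ D) :
    ∃ e : Set (IrrCharacter (Subgroup.centralizer (Q : Set G))), IsBrauerPairOf p M B Q e := by
  have hp : M.IsPrime := isPrime_of_isPModular hM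
  have : CharP (ResField M) p := charP_resField hM
  have hQ : IsPGroup p Q :=
    isPGroup_of_le (Cfsg.Agent.Blocks.Basic.isPGroup_of_isDefectGroup hD) hQD
  obtain ⟨g, h1, h2, c, hgc, hc⟩ := (Cfsg.Agent.S0959.result p M hM B hB D hD Q hQ).2
    ⟨1, by rwa [Cfsg.Agent.Blocks.Basic.map_conj_one]⟩
  have h3 : br Q (idem M B) ≠ 0 := by
    intro h0
    have h4 : (br Q (idem M B)).coeff ⟨c, hc⟩ = 0 := by rw [h0]; rfl
    rw [coeff_br, coeff_idem] at h4
    change redC M (blockCoeff B c) = 0 at h4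
    rw [← Cfsg.Agent.Blocks.Basic.blockCoeff_isConj B hgc, redC_eq_zero_iff h1] at h4
    exact h2 h4
  have hU := isUnion_of_isPBlock (M := M) hB
  have h4 : br Q (idem M B) * br Q (idem M B) = br Q (idem M B) := by
    rw [← br_mul hQ (isInv_of_isCls (isCls_idem B) Q) (isInv_of_isCls (isCls_idem B) Q),
      idem_mul_self hM hU]
  obtain ⟨χ, hχ⟩ := exists_lam_eq_one (isCls_br_of_isCls (isCls_idem B)) h4 h3
  refine ⟨(blkOf M χ).1, (isBrauerPairOf_iff_of_mem hM ⟨hQ, (blkOf M χ).2⟩ hB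
    (mem_blkOf χ)).2 hχ⟩

/-- A defect group of `B` carries a Brauer pair of `B`. -/
theorem exists_pair_of_isDefectGroup (hM : IsPModular p M) {B : Set (IrrCharacter G)}
    (hB : IsPBlock M B) {D : Subgroup G} (hD : IsDefectGroup p M B D) :
    ∃ e : Set (IrrCharacter (Subgroup.centralizer (D : Set G))), IsBrauerPairOf p M B D e :=
  exists_pair_of_le hM hB hD le_rfl

end Cfsg.Agent.H649
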