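import Cfsg.Agent.H644.Brauer
import Cfsg.Agent.S0936

/-!
# Brauer pairs and induced blocks

For a `p`-subgroup `Q`, a block `e` of `C_G(Q)` and a block `B` of `G`: `(Q, e)` is a Brauer pair of
`B` iff `e` induces `B` (`isBrauerPairOf_iff_isInducedBlock`).  The induced block of a block of
`C_G(Q)` is always defined.
-/

set_option autoImplicit false
set_option linter.unusedSectionVars false

open Cfsg

namespace Cfsg.Agent.H649

open Cfsg.Agent.H644 Cfsg.Agent.Blocks.Local Cfsg.Agent.Blocks.ConvCentral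
open Cfsg.Agent.Blocks.MinMax
open Cfsg.Agent.Blocks.Basic (isPBlock_nonempty isPBlock_mem_iff isPBlock_eq_of_mem
  isPBlock_eq_blockOf isPBlock_sameBlock isPBlock_mem_of_sameBlock isPBlock_blockOf
  mem_blockOf_self)

variable {p : ℕ} [Fact p.Prime] {M : Ideal AlgInt} [M.IsPrime] {G : Type*} [Group G] [Finite G]

/-- The class sum restricted to a centralizer, and the induced central character. -/
theorem lam_br_clsSum (Q : Subgroup G) (ξ : IrrCharacter (Subgroup.centralizer (Q : Set G)))
    (g : G) :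
    MemLocalRing M (inducedCentralChar (Subgroup.centralizer (Q : Set G)) (ξ : _ → ℂ) g) ∧
    lam M (ξ : _ → ℂ) (br Q (clsSum M g)) =
      redC M (inducedCentralChar (Subgroup.centralizer (Q : Set G)) (ξ : _ → ℂ) g) := by
  classical
  have := Fintype.ofFinite (Subgroup.centralizer (Q : Set G))
  let f : Subgroup.centralizer (Q : Set G) → ℂ := fun h => if IsConj g (h : G) then 1 else 0
  have hf : IsClassFunction (Subgroup.centralizer (Q : Set G)) f := by
    intro h k
    have h1 : IsConj g ((k * h * k⁻¹ : Subgroup.centralizer (Q : Set G)) : G) ↔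
        IsConj g (h : G) := by
      have h2 : IsConj (h : G) ((k * h * k⁻¹ : Subgroup.centralizer (Q : Set G)) : G) :=
        isConj_iff.2 ⟨k, rfl⟩
      exact ⟨fun h3 => h3.trans h2.symm, fun h3 => h3.trans h2⟩
    change (if _ then (1 : ℂ) else 0) = if _ then (1 : ℂ) else 0
    rw [if_congr h1 rfl rfl]
  have hfR : ∀ h, MemLocalRing M (f h) := by
    intro h
    change MemLocalRing M (if _ then (1 : ℂ) else 0)
    split_ifs
    · exact memLocalRing_one
    · exact memLocalRing_zero
  have h1 : br Q (clsSum M g) = toK M f := by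
    refine ext_coeff fun h => ?_
    rw [coeff_br, coeff_clsSum, coeff_toK]
    change (if _ then (1 : ResField M) else 0) = redC M (if _ then (1 : ℂ) else 0)
    split_ifs
    · rw [redC_one]
    · rw [redC_zero]
  have h2 : inducedCentralChar (Subgroup.centralizer (Q : Set G)) (ξ : _ → ℂ) g =
      omega (ξ : _ → ℂ) f := by
    rw [Cfsg.Agent.Blocks.Basic.inducedCentralChar_def, omega_def, lin_def, Finset.sum_div,
      finsum_mem_def, finsum_eq_sum_of_fintype]
    refine Finset.sum_congr rfl fun h _ => ?_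
    by_cases hg : IsConj g (h : G)
    · rw [Set.indicator_of_mem (show h ∈ {h : Subgroup.centralizer (Q : Set G) |
        IsConj g (h : G)} from hg)]
      change _ = (if _ then (1 : ℂ) else 0) * _ / _
      rw [if_pos hg, one_mul]
    · rw [Set.indicator_of_notMem (show h ∉ {h : Subgroup.centralizer (Q : Set G) |
        IsConj g (h : G)} from hg)]
      change _ = (if _ then (1 : ℂ) else 0) * _ / _
      rw [if_neg hg, zero_mul, zero_div]
  rw [h2, h1, lam_toK ξ.2 hf hfR]
  exact ⟨memLocalRing_omega ξ.2 hf hfR, rfl⟩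

theorem memLocalRing_centralChar (χ : IrrCharacter G) (g : G) :
    MemLocalRing M (centralChar (χ : G → ℂ) g) := by
  have := Fintype.ofFinite G
  exact memLocalRing_of_isIntegral (isIntegral_centralChar χ.2 g)

/-- The functional `x ↦ λ_ξ (Br_Q x)` is the central character of one block of `G`. -/
theorem exists_block_br (hM : IsPModular p M) {Q : Subgroup G} (hQ : IsPGroup p Q)
    (ξ : IrrCharacter (Subgroup.centralizer (Q : Set G))) :
    ∃ B : Set (IrrCharacter G), IsPBlock M B ∧
      lam M (ξ : _ → ℂ) (br Q (idem M B)) = 1 ∧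
      (∀ B' : Set (IrrCharacter G), IsPBlock M B' →
        lam M (ξ : _ → ℂ) (br Q (idem M B')) = 1 → B' = B) ∧
      ∀ χ ∈ B, ∀ x : MonoidAlgebra (ResField M) G, IsCls x →
        lam M (ξ : _ → ℂ) (br Q x) = lam M (χ : G → ℂ) x := by
  have : CharP (ResField M) p := charP_resField hM
  obtain ⟨B, h1, h2, h3, h4⟩ := exists_block_of_functional (H := G) hM
    ((lam M (ξ : _ → ℂ)).comp (br Q)) (fun x y hx hy => by
      rw [LinearMap.comp_apply, LinearMap.comp_apply, LinearMap.comp_apply,
        br_mul hQ (isInv_of_isCls hx Q) (isInv_of_isCls hy Q),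
        lam_mul ξ (isCls_br_of_isCls hx) (isCls_br_of_isCls hy)]) (by
      rw [LinearMap.comp_apply, br_one, lam_one])
  exact ⟨B, h1, h2, h3, h4⟩

/-- `(Q, e)` is a Brauer pair of `B` iff the block `e` of `C_G(Q)` induces `B`. -/
theorem isBrauerPairOf_iff_isInducedBlock (hM : IsPModular p M) {B : Set (IrrCharacter G)}
    (hB : IsPBlock M B) {Q : Subgroup G} (hQ : IsPGroup p Q)
    {e : Set (IrrCharacter (Subgroup.centralizer (Q : Set G)))} (he : IsPBlock M e) :
    IsBrauerPairOf p M B Q e ↔ IsInducedBlock M (Subgroup.centralizer (Q : Set G)) e B := by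
  rw [isBrauerPairOf_iff hM]
  constructor
  · rintro ⟨-, -, h⟩
    refine ⟨he, hB, fun ξ hξ χ hχ g => ?_⟩
    obtain ⟨B', hB', -, h2, h3⟩ := exists_block_br hM hQ ξ
    have hBB : B = B' := h2 B hB (h ξ hξ)
    rw [← hBB] at h3
    have h4 := h3 χ hχ (clsSum M g) (isCls_clsSum g)
    obtain ⟨h5, h6⟩ := lam_br_clsSum (M := M) Q ξ g
    rw [h6, lam_clsSum, redC_eq_iff h5 (memLocalRing_centralChar χ g)] at h4
    exact h4
  · rintro ⟨-, -, h⟩
    refine ⟨⟨hQ, he⟩, hB, fun ξ hξ => ?_⟩
    obtain ⟨B', hB', h1, h2, h3⟩ := exists_block_br hM hQ ξ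
    obtain ⟨χ, hχ⟩ := isPBlock_nonempty hB
    obtain ⟨χ', hχ'⟩ := isPBlock_nonempty hB'
    have h4 : SameBlock M (χ : G → ℂ) (χ' : G → ℂ) := by
      intro g
      obtain ⟨h5, h6⟩ := lam_br_clsSum (M := M) Q ξ g
      have h7 := h3 χ' hχ' (clsSum M g) (isCls_clsSum g)
      rw [h6, lam_clsSum] at h7
      have h8 := (redC_eq_iff h5 (memLocalRing_centralChar χ g)).2 (h ξ hξ χ hχ g)
      rw [← redC_eq_iff (memLocalRing_centralChar χ g) (memLocalRing_centralChar χ' g), ← h7, h8]
    have h5 : B = B' :=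
      Cfsg.Agent.Blocks.Basic.isPBlock_eq_of_sameBlock hB hB' hχ hχ' h4
    rw [h5]
    exact h1

/-- The induced block of a block of `C_G(Q)` is defined. -/
theorem inducedBlockDefined_centralizer (hM : IsPModular p M) {Q : Subgroup G}
    (hQ : IsPGroup p Q) {e : Set (IrrCharacter (Subgroup.centralizer (Q : Set G)))}
    (he : IsPBlock M e) : InducedBlockDefined M (Subgroup.centralizer (Q : Set G)) e := by
  obtain ⟨ξ, hξ⟩ := isPBlock_nonempty he
  obtain ⟨B, hB, h1, -, -⟩ := exists_block_br hM hQ ξ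
  refine ⟨B, (isBrauerPairOf_iff_isInducedBlock hM hB hQ he).1 ?_⟩
  rw [isBrauerPairOf_iff hM]
  exact ⟨⟨hQ, he⟩, hB, (forall_lam_iff he hξ _ _).2 h1⟩

end Cfsg.Agent.H649
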