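import Cfsg.Agent.H649.Transport

/-!
# Transport of Brauer pairs along group isomorphisms, and conjugation of Brauer pairs

`cenIso e Q : C_G(Q) ≃* C_H(e Q)`, `pairMap e Q f` the transported block, `idxMap e` the map on pairs;
`conjBlock Q x f = pairMap (conj x) Q f`.  All notions of `Def_BrauerPairs` transport; conjugation
by elements of `G` fixes the blocks of `G`.
-/

set_option autoImplicit false

open Cfsg

namespace Cfsg.Agent.H649

universe u v w

variable {G : Type u} {H : Type v} {K : Type w} [Group G] [Group H] [Group K]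

/-- Restriction of an isomorphism to the centralizer of a subgroup. -/
def cenIso (e : G ≃* H) (Q : Subgroup G) :
    Subgroup.centralizer (Q : Set G) ≃*
      Subgroup.centralizer ((Q.map e.toMonoidHom : Subgroup H) : Set H) where
  toFun c := ⟨e c, by rw [centralizer_map]; exact ⟨c, c.2, rfl⟩⟩
  invFun c := ⟨e.symm c, by
    obtain ⟨c, hc⟩ := c
    rw [centralizer_map] at hc
    obtain ⟨y, hy, rfl⟩ := hc
    change e.symm (e y) ∈ _
    rwa [e.symm_apply_apply]⟩
  left_inv c := Subtype.ext (e.symm_apply_apply _)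
  right_inv c := Subtype.ext (e.apply_symm_apply _)
  map_mul' a b := Subtype.ext (map_mul e _ _)

theorem cenIso_coe (e : G ≃* H) (Q : Subgroup G) (c : Subgroup.centralizer (Q : Set G)) :
    ((cenIso e Q c : Subgroup.centralizer ((Q.map e.toMonoidHom : Subgroup H) : Set H)) : H) =
      e c := rfl

theorem cenIso_symm_coe (e : G ≃* H) (Q : Subgroup G)
    (c : Subgroup.centralizer ((Q.map e.toMonoidHom : Subgroup H) : Set H)) :
    (((cenIso e Q).symm c : Subgroup.centralizer (Q : Set G)) : G) = e.symm c := rfl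

/-- Transport of a set of irreducible characters of `C_G(Q)`. -/
def pairMap (e : G ≃* H) (Q : Subgroup G)
    (f : Set (IrrCharacter (Subgroup.centralizer (Q : Set G)))) :
    Set (IrrCharacter (Subgroup.centralizer ((Q.map e.toMonoidHom : Subgroup H) : Set H))) :=
  blkMap (cenIso e Q) f

/-- Transport of an indexed pair. -/
def idxMap (e : G ≃* H) (a : BrauerPairIdx G) : BrauerPairIdx H :=
  ⟨a.1.map e.toMonoidHom, pairMap e a.1 a.2⟩

theorem conjBlock_eq (Q : Subgroup G) (x : G)
    (f : Set (IrrCharacter (Subgroup.centralizer (Q : Set G)))) :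
    conjBlock Q x f = pairMap (MulAut.conj x) Q f := by
  ext ξ
  constructor
  · rintro ⟨χ, hχ, h⟩
    refine ⟨χ, hχ, ?_⟩
    apply Subtype.ext
    funext c
    rw [irrMap_apply]
    refine (h _ c ?_).symm
    rw [cenIso_symm_coe, MulAut.conj_symm_apply]
    group
  · rintro ⟨χ, hχ, rfl⟩
    refine ⟨χ, hχ, fun c c' hc => ?_⟩
    rw [irrMap_apply]
    have h1 : (cenIso (MulAut.conj x) Q).symm c' = c := by
      apply Subtype.ext
      rw [cenIso_symm_coe, hc, MulAut.conj_symm_apply]
      group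
    rw [h1]

/-- Two sets of irreducible characters of two equal subgroups, compared on `G`. -/
theorem heq_of_forall {A B : Subgroup G} (h : A = B) (f : Set (IrrCharacter A))
    (f' : Set (IrrCharacter B))
    (h2 : ∀ φ : G → ℂ, (∃ ξ ∈ f, ∀ k : A, φ k = (ξ : A → ℂ) k) ↔
      (∃ ξ ∈ f', ∀ k : B, φ k = (ξ : B → ℂ) k)) : HEq f f' := by
  subst h
  apply heq_of_eq
  ext ξ
  have h3 : ∀ g : Set (IrrCharacter A),
      (∃ η ∈ g, ∀ k : A, extendByZero A (ξ : A → ℂ) k = (η : A → ℂ) k) ↔ ξ ∈ g := by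
    intro g
    constructor
    · rintro ⟨η, hη, h⟩
      have h4 : ξ = η := by
        apply Subtype.ext
        funext k
        rw [← h k, Cfsg.Agent.Characters.Core.extendByZero_of_mem A (ξ : A → ℂ) k.2]
      rwa [h4]
    · intro h
      exact ⟨ξ, h, fun k => Cfsg.Agent.Characters.Core.extendByZero_of_mem A (ξ : A → ℂ) k.2⟩
  rw [← h3 f, ← h3 f']
  exact h2 _

/-- `φ` restricts to a member of the pair. -/
def Tst (a : BrauerPairIdx G) (φ : G → ℂ) : Prop :=
  ∃ ξ ∈ a.2, ∀ k : Subgroup.centralizer (a.1 : Set G), φ k = (ξ : _ → ℂ) k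

theorem idx_ext {a b : BrauerPairIdx G} (h1 : a.1 = b.1)
    (h2 : ∀ φ : G → ℂ, Tst a φ ↔ Tst b φ) : a = b := by
  obtain ⟨Q, f⟩ := a
  obtain ⟨Q', f'⟩ := b
  have h1' : Q = Q' := h1
  subst h1'
  have h3 := heq_of_forall rfl f f' h2
  rw [eq_of_heq h3]

theorem idxMap_test (e : G ≃* H) (a : BrauerPairIdx G) (φ : H → ℂ) :
    Tst (idxMap e a) φ ↔ Tst a (fun k => φ (e k)) := by
  constructor
  · rintro ⟨_, ⟨ξ, hξ, rfl⟩, h⟩
    refine ⟨ξ, hξ, fun k => ?_⟩
    have h1 := h (cenIso e a.1 k)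
    rwa [irrMap_apply, (cenIso e a.1).symm_apply_apply] at h1
  · rintro ⟨ξ, hξ, h⟩
    refine ⟨irrMap (cenIso e a.1) ξ, ⟨ξ, hξ, rfl⟩, fun k => ?_⟩
    exact (congrArg φ (e.apply_symm_apply (k : H))).symm.trans (h ((cenIso e a.1).symm k))

theorem idxMap_idxMap (e : G ≃* H) (f : H ≃* K) (a : BrauerPairIdx G) :
    idxMap f (idxMap e a) = idxMap (e.trans f) a := by
  refine idx_ext ?_ fun φ => ?_
  · change (a.1.map e.toMonoidHom).map f.toMonoidHom = a.1.map (e.trans f).toMonoidHom
    rw [Subgroup.map_map]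
    rfl
  · refine (idxMap_test f _ φ).trans ((idxMap_test e a (fun k => φ (f k))).trans ?_)
    exact (idxMap_test (e.trans f) a φ).symm

theorem idxMap_refl (a : BrauerPairIdx G) : idxMap (MulEquiv.refl G) a = a := by
  refine idx_ext ?_ fun φ => ?_
  · change a.1.map (MonoidHom.id G) = a.1
    rw [Subgroup.map_id]
  · exact idxMap_test (MulEquiv.refl G) a φ

theorem idxMap_symm_idxMap (e : G ≃* H) (a : BrauerPairIdx G) :
    idxMap e.symm (idxMap e a) = a := by
  rw [idxMap_idxMap, e.self_trans_symm, idxMap_refl]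

theorem idxMap_idxMap_symm (e : G ≃* H) (a : BrauerPairIdx H) :
    idxMap e (idxMap e.symm a) = a := by
  rw [idxMap_idxMap, e.symm_trans_self, idxMap_refl]

/-- Conjugation of a pair by an element. -/
def conjIdx (x : G) (a : BrauerPairIdx G) : BrauerPairIdx G := idxMap (MulAut.conj x) a

theorem conjIdx_mk (x : G) (Q : Subgroup G)
    (f : Set (IrrCharacter (Subgroup.centralizer (Q : Set G)))) :
    conjIdx x ⟨Q, f⟩ = ⟨Q.map (MulAut.conj x).toMonoidHom, conjBlock Q x f⟩ := by
  rw [conjBlock_eq]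
  rfl

theorem conjIdx_one (a : BrauerPairIdx G) : conjIdx 1 a = a := by
  rw [conjIdx, map_one]
  exact idxMap_refl a

theorem conjIdx_conjIdx (x y : G) (a : BrauerPairIdx G) :
    conjIdx y (conjIdx x a) = conjIdx (y * x) a := by
  rw [conjIdx, conjIdx, conjIdx, idxMap_idxMap, map_mul]
  rfl

theorem conjIdx_inv_conjIdx (x : G) (a : BrauerPairIdx G) : conjIdx x⁻¹ (conjIdx x a) = a := by
  rw [conjIdx_conjIdx, inv_mul_cancel, conjIdx_one]

theorem conjIdx_conjIdx_inv (x : G) (a : BrauerPairIdx G) : conjIdx x (conjIdx x⁻¹ a) = a := by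
  rw [conjIdx_conjIdx, mul_inv_cancel, conjIdx_one]

theorem conjIdx_fst (x : G) (a : BrauerPairIdx G) :
    (conjIdx x a).1 = a.1.map (MulAut.conj x).toMonoidHom := rfl

/-! ### Transport of the notions of `Def_BrauerPairs` -/

open Classical in
theorem subgroupBlockCoeff_apply (L : Subgroup G) (e : Set (IrrCharacter L)) (g : G) :
    subgroupBlockCoeff L e g = if h : g ∈ L then blockCoeff e ⟨g, h⟩ else 0 := rfl

theorem subgroupBlockCoeff_of_mem (L : Subgroup G) (e : Set (IrrCharacter L)) {g : G}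
    (h : g ∈ L) : subgroupBlockCoeff L e g = blockCoeff e ⟨g, h⟩ := by
  rw [subgroupBlockCoeff_apply, dif_pos h]

theorem subgroupBlockCoeff_of_notMem (L : Subgroup G) (e : Set (IrrCharacter L)) {g : G}
    (h : g ∉ L) : subgroupBlockCoeff L e g = 0 := by
  rw [subgroupBlockCoeff_apply, dif_neg h]

theorem subgroupBlockCoeff_coe (L : Subgroup G) (e : Set (IrrCharacter L)) (g : L) :
    subgroupBlockCoeff L e (g : G) = blockCoeff e g := subgroupBlockCoeff_of_mem L e g.2

theorem map_mem_centralizer_iff (e : G ≃* H) (Q : Subgroup G) (g : G) :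
    e g ∈ Subgroup.centralizer ((Q.map e.toMonoidHom : Subgroup H) : Set H) ↔
      g ∈ Subgroup.centralizer (Q : Set G) := by
  rw [centralizer_map]
  constructor
  · rintro ⟨y, hy, h⟩
    have h' : e y = e g := h
    rwa [← e.injective h']
  · intro h
    exact ⟨g, h, rfl⟩

theorem map_mem_map_iff (e : G ≃* H) (Q : Subgroup G) (g : G) :
    e g ∈ Q.map e.toMonoidHom ↔ g ∈ Q := by
  constructor
  · rintro ⟨y, hy, h⟩
    have h' : e y = e g := h
    rwa [← e.injective h']
  · intro h
    exact ⟨g, h, rfl⟩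

theorem map_mem_normalizer_iff (e : G ≃* H) (Q : Subgroup G) (g : G) :
    e g ∈ Subgroup.normalizer ((Q.map e.toMonoidHom : Subgroup H) : Set H) ↔
      g ∈ Subgroup.normalizer (Q : Set G) := by
  rw [normalizer_map]
  exact map_mem_map_iff e _ g

theorem subgroupBlockCoeff_map (e : G ≃* H) (Q : Subgroup G)
    (f : Set (IrrCharacter (Subgroup.centralizer (Q : Set G)))) (g : G) :
    subgroupBlockCoeff (Subgroup.centralizer ((Q.map e.toMonoidHom : Subgroup H) : Set H))
      (pairMap e Q f) (e g) = subgroupBlockCoeff (Subgroup.centralizer (Q : Set G)) f g := by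
  by_cases h : g ∈ Subgroup.centralizer (Q : Set G)
  · rw [subgroupBlockCoeff_of_mem _ _ h,
      subgroupBlockCoeff_of_mem _ _ ((map_mem_centralizer_iff e Q g).2 h)]
    exact blockCoeff_blkMap (cenIso e Q) f ⟨g, h⟩
  · rw [subgroupBlockCoeff_of_notMem _ _ h, subgroupBlockCoeff_of_notMem _ _
      (fun h1 => h ((map_mem_centralizer_iff e Q g).1 h1))]

theorem brauerOmega_map (e : G ≃* H) (P : Subgroup G) (β : G → ℂ) (β' : H → ℂ)
    (hβ : ∀ g, β' (e g) = β g) (ξ : IrrCharacter (Subgroup.centralizer (P : Set G))) :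
    brauerOmega (P.map e.toMonoidHom) β' (irrMap (cenIso e P) ξ : _ → ℂ) =
      brauerOmega P β (ξ : _ → ℂ) := by
  rw [brauerOmega, brauerOmega]
  refine (finsum_eq_of_bijective (cenIso e P) (cenIso e P).bijective fun x => ?_).symm
  rw [irrMap_apply', irrMap_one, cenIso_coe, hβ]

theorem isPGroup_map_iff (e : G ≃* H) (p : ℕ) (Q : Subgroup G) :
    IsPGroup p (Q.map e.toMonoidHom : Subgroup H) ↔ IsPGroup p Q := by
  constructor
  · intro h
    have h1 := h.map e.symm.toMonoidHom
    rwa [map_symm_map] at h1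
  · intro h
    exact h.map _

variable {p : ℕ} {M : Ideal AlgInt}

theorem isBrauerPair_map_iff (e : G ≃* H) (Q : Subgroup G)
    (f : Set (IrrCharacter (Subgroup.centralizer (Q : Set G)))) :
    IsBrauerPair p M (Q.map e.toMonoidHom) (pairMap e Q f) ↔ IsBrauerPair p M Q f := by
  rw [IsBrauerPair, IsBrauerPair, isPGroup_map_iff, pairMap, isPBlock_blkMap_iff]

theorem isBrauerPairOf_map_iff (e : G ≃* H) (B : Set (IrrCharacter G)) (Q : Subgroup G)
    (f : Set (IrrCharacter (Subgroup.centralizer (Q : Set G)))) :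
    IsBrauerPairOf p M (blkMap e B) (Q.map e.toMonoidHom) (pairMap e Q f) ↔
      IsBrauerPairOf p M B Q f := by
  rw [IsBrauerPairOf, IsBrauerPairOf, isBrauerPair_map_iff, isPBlock_blkMap_iff]
  refine and_congr_right fun _ => and_congr_right fun _ => ?_
  constructor
  · intro h ξ hξ
    have h1 := h _ (irrMap_mem_blkMap (e := cenIso e Q).2 hξ)
    rwa [brauerOmega_map e Q (blockCoeff B) (blockCoeff (blkMap e B))
      (blockCoeff_blkMap e B)] at h1
  · rintro h _ ⟨ξ, hξ, rfl⟩
    rw [brauerOmega_map e Q (blockCoeff B) (blockCoeff (blkMap e B)) (blockCoeff_blkMap e B)]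
    exact h ξ hξ

theorem stabilizesBlock_map_iff (e : G ≃* H) (Q : Subgroup G)
    (f : Set (IrrCharacter (Subgroup.centralizer (Q : Set G)))) (x : G) :
    StabilizesBlock (Subgroup.centralizer ((Q.map e.toMonoidHom : Subgroup H) : Set H))
      (pairMap e Q f) (e x) ↔ StabilizesBlock (Subgroup.centralizer (Q : Set G)) f x := by
  have h0 : e x ∈ Subgroup.normalizer
      ((Subgroup.centralizer ((Q.map e.toMonoidHom : Subgroup H) : Set H) : Subgroup H) : Set H) ↔
      x ∈ Subgroup.normalizer ((Subgroup.centralizer (Q : Set G) : Subgroup G) : Set G) := by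
    rw [centralizer_map]
    exact map_mem_normalizer_iff e _ x
  rw [StabilizesBlock, StabilizesBlock, h0]
  refine and_congr_right fun _ => ?_
  constructor
  · intro h χ hχ
    obtain ⟨χ', hχ', h1⟩ := h _ (irrMap_mem_blkMap (e := cenIso e Q).2 hχ)
    refine ⟨irrMap (cenIso e Q).symm χ', mem_blkMap.1 hχ', fun k k' hk => ?_⟩
    have h2 := h1 (cenIso e Q k) (cenIso e Q k') (by
      rw [cenIso_coe, cenIso_coe, hk, map_mul, map_mul, map_inv])
    rw [irrMap_apply'] at h2
    rw [← h2]
    rfl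
  · rintro h _ ⟨χ, hχ, rfl⟩
    obtain ⟨χ', hχ', h1⟩ := h χ hχ
    refine ⟨irrMap (cenIso e Q) χ', irrMap_mem_blkMap.2 hχ', fun k k' hk => ?_⟩
    rw [irrMap_apply, irrMap_apply]
    apply h1
    rw [cenIso_symm_coe, cenIso_symm_coe, hk, map_mul, map_mul, map_inv, e.symm_apply_apply]

theorem isNormalSubpair_map (e : G ≃* H) (Q P : Subgroup G)
    (f : Set (IrrCharacter (Subgroup.centralizer (Q : Set G))))
    (g : Set (IrrCharacter (Subgroup.centralizer (P : Set G))))
    (h : IsNormalSubpair p M Q f P g) :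
    IsNormalSubpair p M (Q.map e.toMonoidHom) (pairMap e Q f) (P.map e.toMonoidHom)
      (pairMap e P g) := by
  obtain ⟨h1, h2, h3, h4, h5, h6⟩ := h
  refine ⟨(isBrauerPair_map_iff e Q f).2 h1, (isBrauerPair_map_iff e P g).2 h2,
    Subgroup.map_mono h3, ?_, ?_, ?_⟩
  · rw [normalizer_map]
    exact Subgroup.map_mono h4
  · rintro _ ⟨x, hx, rfl⟩
    exact (stabilizesBlock_map_iff e Q f x).2 (h5 x hx)
  · rintro _ ⟨ξ, hξ, rfl⟩
    rw [brauerOmega_map e P (subgroupBlockCoeff (Subgroup.centralizer (Q : Set G)) f) _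
      (subgroupBlockCoeff_map e Q f)]
    exact h6 ξ hξ

theorem normalSubpairRel_idxMap (e : G ≃* H) {a b : BrauerPairIdx G}
    (h : NormalSubpairRel p M a b) : NormalSubpairRel p M (idxMap e a) (idxMap e b) :=
  isNormalSubpair_map e _ _ _ _ h

/-- Inclusion of pairs on the index type. -/
def LEIdx (p : ℕ) (M : Ideal AlgInt) (a b : BrauerPairIdx G) : Prop :=
  Relation.ReflTransGen (NormalSubpairRel p M) a b

theorem leIdx_iff {Q P : Subgroup G} {f : Set (IrrCharacter (Subgroup.centralizer (Q : Set G)))}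
    {e : Set (IrrCharacter (Subgroup.centralizer (P : Set G)))} :
    LEIdx p M ⟨Q, f⟩ ⟨P, e⟩ ↔ SubpairLE p M Q f P e := Iff.rfl

theorem leIdx_idxMap (e : G ≃* H) {a b : BrauerPairIdx G} (h : LEIdx p M a b) :
    LEIdx p M (idxMap e a) (idxMap e b) :=
  Relation.ReflTransGen.lift (idxMap e) (fun _ _ => normalSubpairRel_idxMap e) _ _ h

theorem leIdx_idxMap_iff (e : G ≃* H) {a b : BrauerPairIdx G} :
    LEIdx p M (idxMap e a) (idxMap e b) ↔ LEIdx p M a b := by
  refine ⟨fun h => ?_, leIdx_idxMap e⟩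
  have h1 := leIdx_idxMap e.symm h
  rwa [idxMap_symm_idxMap, idxMap_symm_idxMap] at h1

theorem leIdx_conjIdx_iff (x : G) {a b : BrauerPairIdx G} :
    LEIdx p M (conjIdx x a) (conjIdx x b) ↔ LEIdx p M a b := leIdx_idxMap_iff _

theorem subpairLE_map_iff (e : G ≃* H) (Q P : Subgroup G)
    (f : Set (IrrCharacter (Subgroup.centralizer (Q : Set G))))
    (g : Set (IrrCharacter (Subgroup.centralizer (P : Set G)))) :
    SubpairLE p M (Q.map e.toMonoidHom) (pairMap e Q f) (P.map e.toMonoidHom) (pairMap e P g) ↔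
      SubpairLE p M Q f P g := leIdx_idxMap_iff (a := ⟨Q, f⟩) (b := ⟨P, g⟩) e

theorem LEIdx.le {a b : BrauerPairIdx G} (h : LEIdx p M a b) : a.1 ≤ b.1 := by
  induction h with
  | refl => exact le_rfl
  | tail _ h ih => exact ih.trans h.2.2.1

theorem SubpairLE.le {Q P : Subgroup G}
    {f : Set (IrrCharacter (Subgroup.centralizer (Q : Set G)))}
    {e : Set (IrrCharacter (Subgroup.centralizer (P : Set G)))}
    (h : SubpairLE p M Q f P e) : Q ≤ P := LEIdx.le (a := ⟨Q, f⟩) (b := ⟨P, e⟩) h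

/-- The lower pair of an inclusion is a Brauer pair if the upper one is. -/
theorem LEIdx.isBrauerPair {a b : BrauerPairIdx G} (h : LEIdx p M a b)
    (hb : IsBrauerPair p M b.1 b.2) : IsBrauerPair p M a.1 a.2 := by
  rcases Relation.ReflTransGen.cases_head h with rfl | ⟨c, h1, _⟩
  · exact hb
  · exact h1.1

/-- The upper pair of an inclusion is a Brauer pair if the lower one is. -/
theorem LEIdx.isBrauerPair_right {a b : BrauerPairIdx G} (h : LEIdx p M a b)
    (ha : IsBrauerPair p M a.1 a.2) : IsBrauerPair p M b.1 b.2 := by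
  rcases Relation.ReflTransGen.cases_tail h with rfl | ⟨c, _, h1⟩
  · exact ha
  · exact h1.2.1

theorem SubpairLE.isBrauerPair {Q P : Subgroup G}
    {f : Set (IrrCharacter (Subgroup.centralizer (Q : Set G)))}
    {e : Set (IrrCharacter (Subgroup.centralizer (P : Set G)))}
    (h : SubpairLE p M Q f P e) (hP : IsBrauerPair p M P e) : IsBrauerPair p M Q f :=
  LEIdx.isBrauerPair (a := ⟨Q, f⟩) (b := ⟨P, e⟩) h hP

theorem SubpairLE.isBrauerPair_right {Q P : Subgroup G}
    {f : Set (IrrCharacter (Subgroup.centralizer (Q : Set G)))}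
    {e : Set (IrrCharacter (Subgroup.centralizer (P : Set G)))}
    (h : SubpairLE p M Q f P e) (hQ : IsBrauerPair p M Q f) : IsBrauerPair p M P e :=
  LEIdx.isBrauerPair_right (a := ⟨Q, f⟩) (b := ⟨P, e⟩) h hQ

theorem isMaximalBrauerPair_map (e : G ≃* H) (B : Set (IrrCharacter G)) (P : Subgroup G)
    (f : Set (IrrCharacter (Subgroup.centralizer (P : Set G))))
    (h : IsMaximalBrauerPair p M B P f) :
    IsMaximalBrauerPair p M (blkMap e B) (P.map e.toMonoidHom) (pairMap e P f) := by
  obtain ⟨h1, h2⟩ := h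
  refine ⟨(isBrauerPairOf_map_iff e B P f).2 h1, fun R g hg hle => ?_⟩
  have h3 := h2 (R.map e.symm.toMonoidHom) (pairMap e.symm R g) (by
    have h4 := (isBrauerPairOf_map_iff e.symm (blkMap e B) R g).2 hg
    rwa [blkMap_symm_blkMap] at h4) (by
    have h4 : LEIdx p M (idxMap e.symm (idxMap e ⟨P, f⟩)) (idxMap e.symm ⟨R, g⟩) :=
      leIdx_idxMap e.symm hle
    rw [idxMap_symm_idxMap] at h4
    exact h4)
  rw [← h3, map_map_symm]

theorem isMaximalBrauerPair_map_iff (e : G ≃* H) (B : Set (IrrCharacter G)) (P : Subgroup G)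
    (f : Set (IrrCharacter (Subgroup.centralizer (P : Set G)))) :
    IsMaximalBrauerPair p M (blkMap e B) (P.map e.toMonoidHom) (pairMap e P f) ↔
      IsMaximalBrauerPair p M B P f := by
  refine ⟨fun h => ?_, isMaximalBrauerPair_map e B P f⟩
  obtain ⟨h1, h2⟩ := h
  refine ⟨(isBrauerPairOf_map_iff e B P f).1 h1, fun R g hg hle => ?_⟩
  have h3 := h2 (R.map e.toMonoidHom) (pairMap e R g) ((isBrauerPairOf_map_iff e B R g).2 hg)
    ((subpairLE_map_iff e P R f g).2 hle)
  rw [← map_symm_map e R, h3, map_symm_map]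

theorem isNilpotentBlock_map (e : G ≃* H) {B : Set (IrrCharacter G)}
    (h : IsNilpotentBlock p M B) : IsNilpotentBlock p M (blkMap e B) := by
  obtain ⟨h1, h2⟩ := h
  refine ⟨isPBlock_blkMap h1, fun Q f hQf x hx hst hreg => ?_⟩
  have h3 := h2 (Q.map e.symm.toMonoidHom) (pairMap e.symm Q f) (by
    have h4 := (isBrauerPairOf_map_iff e.symm (blkMap e B) Q f).2 hQf
    rwa [blkMap_symm_blkMap] at h4) (e.symm x) ((map_mem_normalizer_iff e.symm Q x).2 hx)
    ((stabilizesBlock_map_iff e.symm Q f x).2 hst) ((isPRegular_map_iff e.symm p x).2 hreg)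
  exact (map_mem_centralizer_iff e.symm Q x).1 h3

theorem isNilpotentBlock_map_iff (e : G ≃* H) {B : Set (IrrCharacter G)} :
    IsNilpotentBlock p M (blkMap e B) ↔ IsNilpotentBlock p M B := by
  refine ⟨fun h => ?_, isNilpotentBlock_map e⟩
  have h1 := isNilpotentBlock_map e.symm h
  rwa [blkMap_symm_blkMap] at h1

/-! ### Conjugation by elements of `G` -/

theorem irrMap_conj (x : G) (χ : IrrCharacter G) : irrMap (MulAut.conj x) χ = χ := by
  apply Subtype.ext
  funext g
  rw [irrMap_apply, MulAut.conj_symm_apply]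
  have h := Cfsg.Agent.Blocks.Basic.irr_conj χ.2 g x⁻¹
  rwa [inv_inv] at h

theorem blkMap_conj (x : G) (B : Set (IrrCharacter G)) : blkMap (MulAut.conj x) B = B := by
  ext χ
  rw [blkMap]
  constructor
  · rintro ⟨ψ, hψ, rfl⟩
    rwa [irrMap_conj]
  · intro h
    exact ⟨χ, h, irrMap_conj x χ⟩

theorem isPBlock_conjBlock_iff (Q : Subgroup G) (x : G)
    (f : Set (IrrCharacter (Subgroup.centralizer (Q : Set G)))) :
    IsPBlock M (conjBlock Q x f) ↔ IsPBlock M f := by
  rw [conjBlock_eq]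
  exact isPBlock_blkMap_iff

theorem isBrauerPair_conj_iff (Q : Subgroup G) (x : G)
    (f : Set (IrrCharacter (Subgroup.centralizer (Q : Set G)))) :
    IsBrauerPair p M (Q.map (MulAut.conj x).toMonoidHom) (conjBlock Q x f) ↔
      IsBrauerPair p M Q f := by
  rw [conjBlock_eq]
  exact isBrauerPair_map_iff _ _ _

theorem isBrauerPairOf_conj_iff (B : Set (IrrCharacter G)) (Q : Subgroup G) (x : G)
    (f : Set (IrrCharacter (Subgroup.centralizer (Q : Set G)))) :
    IsBrauerPairOf p M B (Q.map (MulAut.conj x).toMonoidHom) (conjBlock Q x f) ↔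
      IsBrauerPairOf p M B Q f := by
  have h := isBrauerPairOf_map_iff (p := p) (M := M) (MulAut.conj x) B Q f
  rwa [blkMap_conj, ← conjBlock_eq] at h

theorem isMaximalBrauerPair_conj_iff (B : Set (IrrCharacter G)) (Q : Subgroup G) (x : G)
    (f : Set (IrrCharacter (Subgroup.centralizer (Q : Set G)))) :
    IsMaximalBrauerPair p M B (Q.map (MulAut.conj x).toMonoidHom) (conjBlock Q x f) ↔
      IsMaximalBrauerPair p M B Q f := by
  have h := isMaximalBrauerPair_map_iff (p := p) (M := M) (MulAut.conj x) B Q f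
  rwa [blkMap_conj, ← conjBlock_eq] at h

theorem subpairLE_conj_iff (Q P : Subgroup G) (x : G)
    (f : Set (IrrCharacter (Subgroup.centralizer (Q : Set G))))
    (g : Set (IrrCharacter (Subgroup.centralizer (P : Set G)))) :
    SubpairLE p M (Q.map (MulAut.conj x).toMonoidHom) (conjBlock Q x f)
      (P.map (MulAut.conj x).toMonoidHom) (conjBlock P x g) ↔ SubpairLE p M Q f P g := by
  rw [conjBlock_eq, conjBlock_eq]
  exact subpairLE_map_iff _ _ _ _ _

theorem isNilpotentBlock_conjBlock_iff (Q : Subgroup G) (x : G)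
    (f : Set (IrrCharacter (Subgroup.centralizer (Q : Set G)))) :
    IsNilpotentBlock p M (conjBlock Q x f) ↔ IsNilpotentBlock p M f := by
  rw [conjBlock_eq]
  exact isNilpotentBlock_map_iff _

/-- Defect groups of a conjugate block of a centralizer, seen in `G`. -/
theorem isDefectGroup_conjBlock {Q : Subgroup G} (x : G)
    {f : Set (IrrCharacter (Subgroup.centralizer (Q : Set G)))} {D : Subgroup G}
    (h : IsDefectGroup p M f (D.subgroupOf (Subgroup.centralizer (Q : Set G)))) :
    IsDefectGroup p M (conjBlock Q x f) ((D.map (MulAut.conj x).toMonoidHom).subgroupOf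
      (Subgroup.centralizer
        ((Q.map (MulAut.conj x).toMonoidHom : Subgroup G) : Set G))) := by
  rw [conjBlock_eq]
  have h1 := isDefectGroup_blkMap (e := cenIso (MulAut.conj x) Q) h
  have h2 : (D.subgroupOf (Subgroup.centralizer (Q : Set G))).map
      (cenIso (MulAut.conj x) Q).toMonoidHom = (D.map (MulAut.conj x).toMonoidHom).subgroupOf
      (Subgroup.centralizer
        ((Q.map (MulAut.conj x).toMonoidHom : Subgroup G) : Set G)) := by
    ext c
    rw [Subgroup.mem_map_equiv, Subgroup.mem_subgroupOf, Subgroup.mem_subgroupOf,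
      cenIso_symm_coe, Subgroup.mem_map_equiv]
  rw [h2] at h1
  exact h1

/-- Conjugation by an element normalizing `L`, as an automorphism of `L`. -/
def conjAut (L : Subgroup G) (x : G) (hx : x ∈ Subgroup.normalizer (L : Set G)) : L ≃* L where
  toFun k := ⟨x * k * x⁻¹, (Subgroup.mem_normalizer_iff.1 hx k).1 k.2⟩
  invFun k := ⟨x⁻¹ * k * x, by
    have h := (Subgroup.mem_normalizer_iff.1 (Subgroup.inv_mem _ hx) k).1 k.2
    rwa [inv_inv] at h⟩
  left_inv k := Subtype.ext (by simp [mul_assoc])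
  right_inv k := Subtype.ext (by simp [mul_assoc])
  map_mul' a b := Subtype.ext (by simp [mul_assoc])

theorem conjAut_coe (L : Subgroup G) (x : G) (hx : x ∈ Subgroup.normalizer (L : Set G)) (k : L) :
    ((conjAut L x hx k : L) : G) = x * k * x⁻¹ := rfl

theorem conjAut_symm_coe (L : Subgroup G) (x : G) (hx : x ∈ Subgroup.normalizer (L : Set G))
    (k : L) : (((conjAut L x hx).symm k : L) : G) = x⁻¹ * k * x := rfl

theorem isConjCharOf_iff (L : Subgroup G) {x : G} (hx : x ∈ Subgroup.normalizer (L : Set G))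
    (χ χ' : IrrCharacter L) :
    IsConjCharOf L x (χ : L → ℂ) (χ' : L → ℂ) ↔ irrMap (conjAut L x hx) χ = χ' := by
  constructor
  · intro h
    apply Subtype.ext
    funext k
    rw [irrMap_apply]
    refine (h _ k ?_).symm
    rw [conjAut_symm_coe]
    group
  · rintro rfl k k' hk
    rw [irrMap_apply]
    have h1 : (conjAut L x hx).symm k' = k := by
      apply Subtype.ext
      rw [conjAut_symm_coe, hk]
      group
    rw [h1]

/-- For a block, `x` stabilizes it iff conjugation by `x` maps it onto itself. -/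
theorem stabilizesBlock_iff [M.IsPrime] {L : Subgroup G} {f : Set (IrrCharacter L)}
    (hf : IsPBlock M f) (x : G) :
    StabilizesBlock L f x ↔
      ∃ hx : x ∈ Subgroup.normalizer (L : Set G), blkMap (conjAut L x hx) f = f := by
  constructor
  · rintro ⟨hx, h⟩
    refine ⟨hx, ?_⟩
    obtain ⟨χ, hχ⟩ := Cfsg.Agent.Blocks.Basic.isPBlock_nonempty hf
    obtain ⟨χ', hχ', h1⟩ := h χ hχ
    rw [isConjCharOf_iff L hx] at h1
    refine Cfsg.Agent.Blocks.Basic.isPBlock_eq_of_mem (isPBlock_blkMap hf) hf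
      (χ := χ') ?_ hχ'
    rw [← h1]
    exact irrMap_mem_blkMap.2 hχ
  · rintro ⟨hx, h⟩
    refine ⟨hx, fun χ hχ => ⟨irrMap (conjAut L x hx) χ, ?_, (isConjCharOf_iff L hx _ _).2 rfl⟩⟩
    rw [← h]
    exact irrMap_mem_blkMap.2 hχ

theorem mem_normalizer_centralizer {Q : Subgroup G} {x : G}
    (hx : x ∈ Subgroup.normalizer (Q : Set G)) :
    x ∈ Subgroup.normalizer ((Subgroup.centralizer (Q : Set G) : Subgroup G) : Set G) := by
  rw [Subgroup.mem_normalizer_iff] at hx ⊢
  intro c
  rw [Subgroup.mem_centralizer_iff, Subgroup.mem_centralizer_iff]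
  constructor
  · intro h q hq
    have h1 : x⁻¹ * q * x ∈ Q := (hx _).2 (by simpa [mul_assoc] using hq)
    have h2 := h _ h1
    have h3 : x * (x⁻¹ * q * x * c) * x⁻¹ = x * (c * (x⁻¹ * q * x)) * x⁻¹ := by rw [h2]
    simpa [mul_assoc] using h3
  · intro h q hq
    have h2 := h _ ((hx q).1 hq)
    have h3 : x⁻¹ * (x * q * x⁻¹ * (x * c * x⁻¹)) * x =
      x⁻¹ * (x * c * x⁻¹ * (x * q * x⁻¹)) * x := by rw [h2]
    simpa [mul_assoc] using h3

theorem mem_normalizer_iff_map_conj (Q : Subgroup G) (x : G) :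
    x ∈ Subgroup.normalizer (Q : Set G) ↔ Q.map (MulAut.conj x).toMonoidHom = Q := by
  rw [Subgroup.mem_normalizer_iff]
  constructor
  · intro h
    ext y
    rw [Subgroup.mem_map_equiv, MulAut.conj_symm_apply, h]
    simp [mul_assoc]
  · intro h y
    have h1 : x * y * x⁻¹ ∈ Q.map (MulAut.conj x).toMonoidHom ↔ y ∈ Q := by
      rw [Subgroup.mem_map_equiv, MulAut.conj_symm_apply]
      simp [mul_assoc]
    rw [h] at h1
    exact h1.symm

/-- An element of `N_G(Q)` stabilizes the block `f` of `C_G(Q)` iff conjugation by it fixes the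
pair `(Q, f)`. -/
theorem conjIdx_eq_iff [M.IsPrime] {Q : Subgroup G}
    {f : Set (IrrCharacter (Subgroup.centralizer (Q : Set G)))} (hf : IsPBlock M f) (x : G) :
    conjIdx x ⟨Q, f⟩ = ⟨Q, f⟩ ↔
      x ∈ Subgroup.normalizer (Q : Set G) ∧
        StabilizesBlock (Subgroup.centralizer (Q : Set G)) f x := by
  constructor
  · intro h
    have h1 : Q.map (MulAut.conj x).toMonoidHom = Q := congrArg (fun a => a.1) h
    have hx : x ∈ Subgroup.normalizer (Q : Set G) := (mem_normalizer_iff_map_conj Q x).2 h1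
    have hx' := mem_normalizer_centralizer hx
    refine ⟨hx, hx', fun χ hχ => ?_⟩
    have h2 := idxMap_test (MulAut.conj x) ⟨Q, f⟩ (fun k => extendByZero
      (Subgroup.centralizer (Q : Set G)) (χ : _ → ℂ) (x⁻¹ * k * x))
    change Tst (conjIdx x ⟨Q, f⟩) _ ↔ _ at h2
    rw [h] at h2
    obtain ⟨ξ, hξ, h3⟩ := h2.2 ⟨χ, hχ, fun k => by
      change extendByZero (Subgroup.centralizer (Q : Set G)) (χ : _ → ℂ)
        (x⁻¹ * (x * k * x⁻¹) * x) = _
      have h4 : x⁻¹ * (x * (k : G) * x⁻¹) * x = k := by group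
      rw [h4, Cfsg.Agent.Characters.Core.extendByZero_of_mem _ _ k.2]⟩
    refine ⟨ξ, hξ, fun k k' hk => ?_⟩
    have h4 := h3 k'
    have h5 : x⁻¹ * (k' : G) * x = k := by rw [hk]; group
    change extendByZero (Subgroup.centralizer (Q : Set G)) (χ : _ → ℂ) (x⁻¹ * k' * x) = _ at h4
    rw [h5, Cfsg.Agent.Characters.Core.extendByZero_of_mem _ _ k.2] at h4
    exact h4.symm
  · rintro ⟨hx, hst⟩
    obtain ⟨hx', h1⟩ := (stabilizesBlock_iff hf x).1 hst
    refine idx_ext ((mem_normalizer_iff_map_conj Q x).1 hx) fun φ => ?_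
    refine (idxMap_test (MulAut.conj x) ⟨Q, f⟩ φ).trans ?_
    constructor
    · rintro ⟨ξ, hξ, h2⟩
      refine ⟨irrMap (conjAut _ x hx') ξ, ?_, fun k => ?_⟩
      · have h3 := irrMap_mem_blkMap (e := conjAut _ x hx').2 hξ
        rwa [h1] at h3
      · rw [irrMap_apply, ← h2]
        have h3 : (MulAut.conj x) (((conjAut _ x hx').symm k :
            Subgroup.centralizer (Q : Set G)) : G) = k := by
          rw [conjAut_symm_coe, MulAut.conj_apply]
          group
        exact (congrArg φ h3).symm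
    · rintro ⟨ξ, hξ, h2⟩
      change ξ ∈ f at hξ
      rw [← h1, mem_blkMap] at hξ
      refine ⟨_, hξ, fun k => ?_⟩
      have h3 := h2 (conjAut _ x hx' k)
      rw [conjAut_coe] at h3
      rw [irrMap_apply, MulEquiv.symm_symm, ← h3]
      rfl

end Cfsg.Agent.H649
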