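import Cfsg.Agent.H649.DefectPair
import Cfsg.Agent.H651.LocalPair
import Cfsg.Agent.S4660

/-!
# Defect groups of the blocks of the centralizers in a maximal Brauer pair

* `exists_centralizer_defect` (first part of S4661): `C_P(Q)` lies in a defect group of `f`;
* `exists_conj_centralizer_defect` (second part of S4661).
-/

set_option autoImplicit false
set_option linter.unusedSectionVars false

open Cfsg

namespace Cfsg.Agent.H649

open Cfsg.Agent.H644 Cfsg.Agent.Blocks.Local Cfsg.Agent.H651

universe u

variable {p : ℕ} [Fact p.Prime] {M : Ideal AlgInt} {G : Type u} [Group G] [Finite G]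

/-- For `(Q, f) ≤ (P, e)` the group `C_P(Q)` carries a Brauer pair of `f`, which in `G` is the pair
on `Q C_P(Q)` below `(P, e)`. -/
theorem exists_local_pair (hM : IsPModular p M) {P : Subgroup G}
    {e : Set (IrrCharacter (Subgroup.centralizer (P : Set G)))} (hPe : IsBrauerPair p M P e)
    {Q : Subgroup G} {f : Set (IrrCharacter (Subgroup.centralizer (Q : Set G)))}
    (hle : SubpairLE p M Q f P e) {R : Subgroup (Subgroup.centralizer (Q : Set G))}
    (hR : R.map (Subgroup.centralizer (Q : Set G)).subtype ≤ P) :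
    ∃ h : Set (IrrCharacter (Subgroup.centralizer (R : Set (Subgroup.centralizer (Q : Set G))))),
      IsBrauerPairOf p M f R h ∧ SubpairLE p M (locSub Q R) (locBlk Q R h) P e := by
  have hp : M.IsPrime := isPrime_of_isPModular hM
  have hQf := SubpairLE.isBrauerPair hle hPe
  have hLP : locSub Q R ≤ P := sup_le (SubpairLE.le hle) hR
  have hRp : IsPGroup p R := by
    have h1 : IsPGroup p (R.map (Subgroup.centralizer (Q : Set G)).subtype) :=
      isPGroup_of_le hPe.1 hR
    have h2 : (R.map (Subgroup.centralizer (Q : Set G)).subtype).comap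
        (Subgroup.centralizer (Q : Set G)).subtype = R :=
      Subgroup.comap_map_eq_self_of_injective (Subgroup.subtype_injective _) R
    rw [← h2]
    exact h1.comap_of_injective _ (Subgroup.subtype_injective _)
  obtain ⟨g, hg, -⟩ := existsUnique_subpairLE hM hPe hLP
  have hgb := SubpairLE.isBrauerPair hg hPe
  have hle' : SubpairLE p M Q f (locSub Q R) g :=
    subpairLE_of_subpairLE hM hPe hle hg (le_locSub Q R)
  have hnorm : IsNormalSubpair p M Q f (locSub Q R) g :=
    isNormalSubpair_of_subpairLE hM hgb hle' (locSub_le_normalizer Q R)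
  refine ⟨blkMap (locIso Q R).symm g, ?_, ?_⟩
  · rw [← isNormalSubpair_locBlk_iff hQf.1 hQf.2 hRp]
    have h1 : locBlk Q R (blkMap (locIso Q R).symm g) = g := blkMap_blkMap_symm (locIso Q R) g
    rw [h1]
    exact hnorm
  · have h1 : locBlk Q R (blkMap (locIso Q R).symm g) = g := blkMap_blkMap_symm (locIso Q R) g
    rw [h1]
    exact hg

/-- `C_P(Q)` lies in a defect group of `f`. -/
theorem exists_centralizer_defect (hM : IsPModular p M) {P : Subgroup G}
    {e : Set (IrrCharacter (Subgroup.centralizer (P : Set G)))} (hPe : IsBrauerPair p M P e)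
    {Q : Subgroup G} {f : Set (IrrCharacter (Subgroup.centralizer (Q : Set G)))}
    (hle : SubpairLE p M Q f P e) :
    ∃ D : Subgroup (Subgroup.centralizer (Q : Set G)), IsDefectGroup p M f D ∧
      (P ⊓ Subgroup.centralizer (Q : Set G)).subgroupOf (Subgroup.centralizer (Q : Set G)) ≤ D := by
  obtain ⟨h, hh, -⟩ := exists_local_pair hM hPe hle
    (R := (P ⊓ Subgroup.centralizer (Q : Set G)).subgroupOf (Subgroup.centralizer (Q : Set G)))
    (by
      rw [Subgroup.subgroupOf_map_subtype]
      exact inf_le_left.trans inf_le_left)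
  exact exists_defect_ge hM hh

/-- Some conjugate `(xQx⁻¹, xf)` lies below the maximal pair `(P, e)` and `C_P(xQx⁻¹)` is a defect
group of `xf`. -/
theorem exists_conj_centralizer_defect (hM : IsPModular p M) {B : Set (IrrCharacter G)}
    {P : Subgroup G} {e : Set (IrrCharacter (Subgroup.centralizer (P : Set G)))}
    (hmax : IsMaximalBrauerPair p M B P e)
    {Q : Subgroup G} {f : Set (IrrCharacter (Subgroup.centralizer (Q : Set G)))}
    (hQf : IsBrauerPairOf p M B Q f) :
    ∃ x : G, SubpairLE p M (Q.map (MulAut.conj x).toMonoidHom) (conjBlock Q x f) P e ∧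
      IsDefectGroup p M (conjBlock Q x f)
        ((P ⊓ Subgroup.centralizer ((Q.map (MulAut.conj x).toMonoidHom) : Set G)).subgroupOf
          (Subgroup.centralizer ((Q.map (MulAut.conj x).toMonoidHom) : Set G))) := by
  have hp : M.IsPrime := isPrime_of_isPModular hM
  have := Fintype.ofFinite G
  have hf : IsPBlock M f := hQf.1.2
  obtain ⟨D, hD⟩ := Cfsg.Agent.H646.DefectBasic.exists_isDefectGroup hM hf
  obtain ⟨h, hh⟩ := exists_pair_of_isDefectGroup hM hf hD
  have hn := (isNormalSubpair_locBlk_iff hQf.1.1 hf hh.1.1).2 hh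
  have hB := isBrauerPairOf_of_isNormalSubpair hM hn hQf
  obtain ⟨x, hx⟩ := Cfsg.Agent.S4660.result p M hM B P _ e _ hmax hB
  have hx2 : SubpairLE p M (Q.map (MulAut.conj x).toMonoidHom) (conjBlock Q x f) P e :=
    subpairLE_trans ((subpairLE_conj_iff _ _ x _ _).2 (subpairLE_of_isNormalSubpair hn)) hx
  refine ⟨x, hx2, ?_⟩
  obtain ⟨E, hE, hCE⟩ := exists_centralizer_defect hM hmax.1.1 hx2
  have h1 := card_defect_conj hM hf x hD hE
  have h2 : (D.map (Subgroup.centralizer (Q : Set G)).subtype).map (MulAut.conj x).toMonoidHom ≤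
      P ⊓ Subgroup.centralizer ((Q.map (MulAut.conj x).toMonoidHom : Subgroup G) : Set G) := by
    refine le_inf ?_ ?_
    · exact (Subgroup.map_mono (le_sup_right : _ ≤ locSub Q D)).trans (SubpairLE.le hx)
    · rw [centralizer_map]
      exact Subgroup.map_mono (Subgroup.map_subtype_le D)
  have h3 : (P ⊓ Subgroup.centralizer
      ((Q.map (MulAut.conj x).toMonoidHom : Subgroup G) : Set G)).subgroupOf
      (Subgroup.centralizer ((Q.map (MulAut.conj x).toMonoidHom : Subgroup G) : Set G)) = E := by
    refine Subgroup.eq_of_le_of_card_ge hCE ?_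
    rw [h1, card_subgroupOf inf_le_right]
    have h4 := Subgroup.card_le_of_le h2
    rw [Nat.card_congr ((D.map (Subgroup.centralizer (Q : Set G)).subtype).equivMapOfInjective
      (MulAut.conj x).toMonoidHom (MulAut.conj x).injective).symm.toEquiv,
      Nat.card_congr (D.equivMapOfInjective (Subgroup.centralizer (Q : Set G)).subtype
      (Subgroup.subtype_injective _)).symm.toEquiv] at h4
    exact h4
  rw [h3]
  exact hE

end Cfsg.Agent.H649
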