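import Cfsg.Agent.H649.LocalDefect
import Cfsg.Agent.S4659

/-!
# Stabilizers of pairs below a maximal pair with abelian subgroup (S4682)
-/

set_option autoImplicit false
set_option linter.unusedSectionVars false

open Cfsg

namespace Cfsg.Agent.H649

open Cfsg.Agent.H644 Cfsg.Agent.Blocks.Local Cfsg.Agent.H651

universe u

variable {p : ℕ} [Fact p.Prime] {M : Ideal AlgInt} {G : Type u} [Group G]

/-- The pair of `G` attached to a pair of `C_G(Q)`. -/
def locIdx (Q : Subgroup G) (a : BrauerPairIdx (Subgroup.centralizer (Q : Set G))) :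
    BrauerPairIdx G := ⟨locSub Q a.1, locBlk Q a.1 a.2⟩

theorem locIdx_test (Q : Subgroup G) (a : BrauerPairIdx (Subgroup.centralizer (Q : Set G)))
    (φ : G → ℂ) : Tst (locIdx Q a) φ ↔ Tst a (fun c => φ (c : G)) := by
  constructor
  · rintro ⟨_, ⟨ξ, hξ, rfl⟩, h⟩
    refine ⟨ξ, hξ, fun k => ?_⟩
    have h1 := h (locIso Q a.1 k)
    rwa [irrMap_apply'] at h1
  · rintro ⟨ξ, hξ, h⟩
    refine ⟨irrMap (locIso Q a.1) ξ, ⟨ξ, hξ, rfl⟩, fun k => ?_⟩
    exact h ((locIso Q a.1).symm k)

theorem conjIdx_locIdx (Q : Subgroup G) (a : BrauerPairIdx (Subgroup.centralizer (Q : Set G)))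
    (x : Subgroup.centralizer (Q : Set G)) :
    conjIdx (x : G) (locIdx Q a) = locIdx Q (conjIdx x a) := by
  refine idx_ext ?_ fun φ => ?_
  · change (locSub Q a.1).map (MulAut.conj (x : G)).toMonoidHom =
      locSub Q (a.1.map (MulAut.conj x).toMonoidHom)
    rw [locSub, locSub, Subgroup.map_sup,
      (mem_normalizer_iff_map_conj Q (x : G)).1 (Subgroup.centralizer_le_normalizer _ x.2),
      Subgroup.map_map, Subgroup.map_map]
    rfl
  · rw [locIdx_test]
    refine (idxMap_test (MulAut.conj (x : G)) _ φ).trans ((locIdx_test Q a _).trans ?_)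
    exact (idxMap_test (MulAut.conj x) a (fun c => φ (c : G))).symm

/-- Two comparable pairs with the same subgroup are equal. -/
theorem idx_eq_of_le [Finite G] (hM : IsPModular p M) {a b : BrauerPairIdx G}
    (hb : IsBrauerPair p M b.1 b.2) (h : LEIdx p M a b) (h1 : a.1 = b.1) : a = b := by
  have := Fintype.ofFinite G
  obtain ⟨Q, f⟩ := a
  obtain ⟨P, e⟩ := b
  have h2 : Q = P := h1
  subst h2
  have h3 : f = e := subpair_unique hM hb h Relation.ReflTransGen.refl
  rw [h3]

section Abel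

variable [Finite G] {B : Set (IrrCharacter G)} {P : Subgroup G}
  {e : Set (IrrCharacter (Subgroup.centralizer (P : Set G)))}

/-- A pair of `G` above `(Q, f)` whose subgroup centralizes `Q` comes from a pair of the block `f`
of `C_G(Q)`. -/
theorem exists_locIdx_eq (hM : IsPModular p M) {Q : Subgroup G}
    {f : Set (IrrCharacter (Subgroup.centralizer (Q : Set G)))} {P' : Subgroup G}
    {e' : Set (IrrCharacter (Subgroup.centralizer (P' : Set G)))} (hPe : IsBrauerPair p M P' e')
    (hPC : P' ≤ Subgroup.centralizer (Q : Set G)) (hle : SubpairLE p M Q f P' e') :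
    ∃ h, IsBrauerPairOf p M f (P'.subgroupOf (Subgroup.centralizer (Q : Set G))) h ∧
      locIdx Q ⟨P'.subgroupOf (Subgroup.centralizer (Q : Set G)), h⟩ = ⟨P', e'⟩ := by
  have hmap : (P'.subgroupOf (Subgroup.centralizer (Q : Set G))).map
      (Subgroup.centralizer (Q : Set G)).subtype = P' := Subgroup.map_subgroupOf_eq_of_le hPC
  obtain ⟨h, h1, h2⟩ := exists_local_pair hM hPe hle
    (R := P'.subgroupOf (Subgroup.centralizer (Q : Set G))) (le_of_eq hmap)
  refine ⟨h, h1, idx_eq_of_le hM hPe h2 ?_⟩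
  change locSub Q (P'.subgroupOf (Subgroup.centralizer (Q : Set G))) = P'
  rw [locSub, hmap]
  exact sup_eq_right.2 (SubpairLE.le hle)

/-- If `P` centralizes `Q`, the pair of `f` attached to a maximal pair `(P, e)` is maximal. -/
theorem isMaximal_local (hM : IsPModular p M) (hmax : IsMaximalBrauerPair p M B P e)
    {Q : Subgroup G} {f : Set (IrrCharacter (Subgroup.centralizer (Q : Set G)))}
    (hPC : P ≤ Subgroup.centralizer (Q : Set G)) (hle : SubpairLE p M Q f P e)
    {h : Set (IrrCharacter (Subgroup.centralizer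
      ((P.subgroupOf (Subgroup.centralizer (Q : Set G)) :
        Subgroup (Subgroup.centralizer (Q : Set G))) :
          Set (Subgroup.centralizer (Q : Set G)))))}
    (hh : IsBrauerPairOf p M f (P.subgroupOf (Subgroup.centralizer (Q : Set G))) h) :
    IsMaximalBrauerPair p M f (P.subgroupOf (Subgroup.centralizer (Q : Set G))) h := by
  have hp : M.IsPrime := isPrime_of_isPModular hM
  have := Fintype.ofFinite G
  have hQf : IsBrauerPairOf p M B Q f := (isBrauerPairOf_iff_of_subpairLE hM hle).1 hmax.1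
  refine ⟨hh, fun R g hg hRg => ?_⟩
  have hle2 : P.subgroupOf (Subgroup.centralizer (Q : Set G)) ≤ R := SubpairLE.le hRg
  have hn := (isNormalSubpair_locBlk_iff hQf.1.1 hQf.1.2 hg.1.1).2 hg
  have hB := isBrauerPairOf_of_isNormalSubpair hM hn hQf
  obtain ⟨D, hD, hRD⟩ := exists_defect_ge hM hB
  have hPD := Cfsg.Agent.S4659.result p M hM B P e hmax
  have hcard : Nat.card (locSub Q R) ≤ Nat.card P := by
    refine (Subgroup.card_le_of_le hRD).trans (le_of_eq ?_)
    rw [Cfsg.Agent.S0908.result p M hM B hmax.1.2.1 D hD,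
      Cfsg.Agent.S0908.result p M hM B hmax.1.2.1 P hPD]
  have h1 : P ≤ locSub Q R := by
    have h2 := Subgroup.map_mono (f := (Subgroup.centralizer (Q : Set G)).subtype) hle2
    rw [Subgroup.map_subgroupOf_eq_of_le hPC] at h2
    exact h2.trans le_sup_right
  have h2 : P = locSub Q R := Subgroup.eq_of_le_of_card_ge h1 hcard
  refine le_antisymm (fun r hr => ?_) hle2
  rw [Subgroup.mem_subgroupOf, h2]
  exact coe_mem_locSub hr

/-- Two pairs above `(Q, f)` whose subgroups centralize `Q`, of which the first is a maximal Brauer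
pair of `B` and the second has the same order, are conjugate under `C_G(Q)`. -/
theorem exists_conj_of_centralizes (hM : IsPModular p M) (hmax : IsMaximalBrauerPair p M B P e)
    {Q : Subgroup G} {f : Set (IrrCharacter (Subgroup.centralizer (Q : Set G)))}
    (hPC : P ≤ Subgroup.centralizer (Q : Set G)) (hle : SubpairLE p M Q f P e)
    {P' : Subgroup G} {e' : Set (IrrCharacter (Subgroup.centralizer (P' : Set G)))}
    (hP'C : P' ≤ Subgroup.centralizer (Q : Set G)) (hle' : SubpairLE p M Q f P' e')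
    (hcard : Nat.card P' = Nat.card P) (hPe' : IsBrauerPair p M P' e') :
    ∃ c ∈ Subgroup.centralizer (Q : Set G), conjIdx c ⟨P', e'⟩ = ⟨P, e⟩ := by
  have hp : M.IsPrime := isPrime_of_isPModular hM
  have := Fintype.ofFinite G
  have := Fintype.ofFinite (Subgroup.centralizer (Q : Set G))
  obtain ⟨h, h1, h2⟩ := exists_locIdx_eq hM hmax.1.1 hPC hle
  obtain ⟨h', h1', h2'⟩ := exists_locIdx_eq hM hPe' hP'C hle'
  have h3 := isMaximal_local hM hmax hPC hle h1
  obtain ⟨c, hc⟩ := Cfsg.Agent.S4660.result p M hM f _ _ h h' h3 h1'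
  refine ⟨c, c.2, ?_⟩
  rw [← h2', conjIdx_locIdx, ← h2]
  congr 1
  refine idx_eq_of_le hM h1.1 (by rw [conjIdx_mk]; exact hc) ?_
  have h4 := SubpairLE.le hc
  refine Subgroup.eq_of_le_of_card_ge h4 ?_
  rw [card_subgroupOf hPC]
  have h5 : Nat.card ((P'.subgroupOf (Subgroup.centralizer (Q : Set G))).map
      (MulAut.conj c).toMonoidHom) = Nat.card P' := by
    rw [← card_subgroupOf hP'C]
    exact (Nat.card_congr ((P'.subgroupOf (Subgroup.centralizer (Q : Set G))).equivMapOfInjective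
      (MulAut.conj c).toMonoidHom (MulAut.conj c).injective).toEquiv).symm
  exact (hcard.symm.trans h5.symm).le

/-- If `P` is abelian then the stabilizer of a pair `(Q, f)` below the maximal pair `(P, e)` is the
product of its intersection with the stabilizer of `(P, e)` and of `C_G(Q)`. -/
theorem exists_mul_of_abelian (hM : IsPModular p M) (hmax : IsMaximalBrauerPair p M B P e)
    (hab : ∀ x ∈ P, ∀ y ∈ P, x * y = y * x) {Q : Subgroup G}
    {f : Set (IrrCharacter (Subgroup.centralizer (Q : Set G)))} (hle : SubpairLE p M Q f P e)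
    {x : G} (hx : conjIdx x ⟨Q, f⟩ = ⟨Q, f⟩) :
    ∃ y : G, conjIdx y ⟨P, e⟩ = ⟨P, e⟩ ∧ conjIdx y ⟨Q, f⟩ = ⟨Q, f⟩ ∧
      ∃ c ∈ Subgroup.centralizer (Q : Set G), x = y * c := by
  have hp : M.IsPrime := isPrime_of_isPModular hM
  have hQP := SubpairLE.le hle
  have hf : IsPBlock M f := (SubpairLE.isBrauerPair hle hmax.1.1).2
  have hPC : P ≤ Subgroup.centralizer (Q : Set G) := fun y hy =>
    Subgroup.mem_centralizer_iff.2 fun q hq => hab q (hQP hq) y hy
  have hxQ : Q.map (MulAut.conj x).toMonoidHom = Q := congrArg Sigma.fst hx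
  have hP'C : P.map (MulAut.conj x).toMonoidHom ≤ Subgroup.centralizer (Q : Set G) := by
    conv_rhs => rw [← hxQ, centralizer_map]
    exact Subgroup.map_mono hPC
  have hle' : LEIdx p M ⟨Q, f⟩ (conjIdx x ⟨P, e⟩) := by
    have h := (leIdx_conjIdx_iff (p := p) (M := M) x (a := ⟨Q, f⟩) (b := ⟨P, e⟩)).2 hle
    rwa [hx] at h
  have hle2 : SubpairLE p M Q f (P.map (MulAut.conj x).toMonoidHom) (conjBlock P x e) := by
    rw [conjIdx_mk] at hle'
    exact hle'
  obtain ⟨c, hc, hce⟩ := exists_conj_of_centralizes hM hmax hPC hle hP'C hle2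
    (Nat.card_congr (P.equivMapOfInjective _ (MulAut.conj x).injective).toEquiv).symm
    ((isBrauerPair_conj_iff P x e).2 hmax.1.1)
  rw [← conjIdx_mk, conjIdx_conjIdx] at hce
  have hcQ : conjIdx c ⟨Q, f⟩ = ⟨Q, f⟩ :=
    (conjIdx_eq_iff hf c).2 ⟨Subgroup.centralizer_le_normalizer _ hc, stabilizesBlock_of_mem f hc⟩
  have hyQ : conjIdx (c * x) ⟨Q, f⟩ = ⟨Q, f⟩ := by rw [← conjIdx_conjIdx, hx, hcQ]
  refine ⟨c * x, hce, hyQ, x⁻¹ * c⁻¹ * x, ?_, by group⟩
  have hxn : x⁻¹ ∈ Subgroup.normalizer (Q : Set G) :=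
    inv_mem ((conjIdx_eq_iff hf x).1 hx).1
  have h1 := (Subgroup.mem_normalizer_iff.1 (mem_normalizer_centralizer hxn) c⁻¹).1
    (inv_mem hc)
  rwa [inv_inv] at h1

end Abel

end Cfsg.Agent.H649
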