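import Mathlib
import Cfsg.Prelude.Def_Characters

/-!
# Monomial irreducible characters of almost simple groups: the rows of S4572

`Mono A χ`: the class function `χ` is induced from a linear character of a subgroup (the wording of
S4572).  `GoodMono S`: every almost simple group `A` with socle `S` (given by an embedding
`f : S →* A` with normal image and trivial centraliser; `A / S` solvable) has two irreducible
characters, both non-monomial and both nontrivial on `S`, of different degrees.
-/

set_option autoImplicit false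

open Cfsg

namespace Cfsg.Agent.H649.MN

/-- `χ` is monomial: induced from a homomorphism of a subgroup into `ℂˣ`. -/
def Mono (A : Type*) [Group A] [Fintype A] (χ : A → ℂ) : Prop :=
  ∃ (H : Subgroup A) (lam : ↥H →* ℂˣ), χ = Cfsg.indFun H (fun h => (lam h : ℂ))

/-- `χ` is an irreducible character of `A`, nontrivial on the image of `f : S →* A`, and not
monomial. -/
structure NonMono {S A : Type*} [Group S] [Group A] [Fintype A] (f : S →* A) (χ : A → ℂ) :
    Prop where
  irr : IsIrrCharacter A χ
  nontriv : ∃ s : S, χ (f s) ≠ χ 1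
  nm : ¬ Mono A χ

/-- The row of S4572 for the simple group `S`. -/
def GoodMono (S : Type*) [Group S] : Prop :=
  ∀ (A : Type) [Group A] [Fintype A] (f : S →* A), Function.Injective f →
    ∀ _hN : (f.range).Normal, Subgroup.centralizer (f.range : Set A) = ⊥ →
    Group.IsSolvable (A ⧸ f.range) →
    ∃ χ ψ : A → ℂ, NonMono f χ ∧ NonMono f ψ ∧ χ 1 ≠ ψ 1

/-- `GoodMono` is invariant under isomorphism. -/
theorem GoodMono.congr {S T : Type*} [Group S] [Group T] (e : S ≃* T) (h : GoodMono S) :
    GoodMono T := by
  intro A _ _ f hf hN hC hs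
  have hr : (f.comp e.toMonoidHom).range = f.range := by
    rw [MonoidHom.range_comp, MonoidHom.range_eq_top.2 e.surjective, ← MonoidHom.range_eq_map]
  have key : ∀ (R : Subgroup A) (_ : R = f.range) (hR : R.Normal), Group.IsSolvable (A ⧸ R) := by
    intro R h1 hR
    subst h1
    exact hs
  obtain ⟨χ, ψ, h1, h2, h3⟩ := h A (f.comp e.toMonoidHom) (hf.comp e.injective) (hr ▸ hN)
    (by rw [hr]; exact hC) (key _ hr _)
  refine ⟨χ, ψ, ⟨h1.irr, ?_, h1.nm⟩, ⟨h2.irr, ?_, h2.nm⟩, h3⟩
  · obtain ⟨s, hs⟩ := h1.nontriv
    exact ⟨e s, hs⟩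
  · obtain ⟨s, hs⟩ := h2.nontriv
    exact ⟨e s, hs⟩

end Cfsg.Agent.H649.MN
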