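import Cfsg.Agent.H649.MonoFinal
import Cfsg.Agent.H408.PPFinal
import Cfsg.Agent.H902.MonoPSU
import Cfsg.Agent.H902.MonoSz
import Cfsg.Agent.H902.MonoRee
import Cfsg.Agent.H902.MonoAlt
import Cfsg.Agent.H979.LieSplit
import Cfsg.Agent.H580.LieBad

/-!
# Rows `compl` and `u42` of S4572 from the own characteristic part of S3608
-/

set_option autoImplicit false

open Cfsg
open Cfsg.Agent.OrdDiv Cfsg.Agent.H408.Core
open Cfsg.Agent.FixBN Cfsg.Agent.Omega.ML.Ex.Typ

namespace Cfsg.Agent.H649.MN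

universe u

theorem dvd_card_of_lie {p : ℕ} (hp : p.Prime) {G : Type*} [Group G] [Finite G] [IsSimpleGroup G]
    (h : IsLieTypeChar p G) : p ∣ Nat.card G := by
  have := Fact.mk hp
  obtain ⟨P, U, ⟨s, hs⟩, hU⟩ := H979.LieSplit.hasSplit_of_isLieTypeChar hp h
  exact H580.LieBad.dvd_card hU hs

section

variable (T : OrderTable.{0}) (hS : ∀ (X : Type) [Group X] [Finite X] [IsSimpleGroup X], IsKnownSimple' X)
include T hS

/-- untwisted exceptional groups, own characteristic -/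
theorem exc_good {p : ℕ} (hp : p.Prime) {G : Type u} [Group G] [Finite G] (h : IsExceptionalChevChar p G) :
    Good p G := by
  obtain ⟨F, iF, iFin, iC, h⟩ := h
  have hpf : Fact p.Prime := ⟨hp⟩
  have hcF : Nat.card F = Fintype.card F := Nat.card_eq_fintype_card
  obtain ⟨n, -, hn⟩ := FiniteField.card F p
  have hpF : p ∣ Fintype.card F := by rw [hn]; exact dvd_pow_self p n.ne_zero
  have h1 : 1 < Fintype.card F := Fintype.one_lt_card
  have h2p : Nat.card F = 2 → p = 2 := fun h => by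
    rw [← hcF, h] at hpF
    exact (Nat.prime_dvd_prime_iff_eq hp Nat.prime_two).1 hpF
  have h3p : Nat.card F = 3 → p = 3 := fun h => by
    rw [← hcF, h] at hpF
    exact (Nat.prime_dvd_prime_iff_eq hp Nat.prime_three).1 hpF
  rcases h with ⟨h3, h⟩ | h | h | h | h
  · obtain ⟨e⟩ := h
    refine Good.of_equiv e.symm ?_
    by_cases h : Nat.card F = 3
    · have := h3p h
      subst this
      exact Cfsg.Agent.H392.GTwoGood.good h
    · exact Cfsg.Agent.H225.PPow.good_G2 F p (by omega)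
  · obtain ⟨e⟩ := h
    refine Good.of_equiv e.symm ?_
    by_cases h : Nat.card F = 2
    · have := h2p h
      subst this
      exact Cfsg.Agent.H392.FFourTwo.Good.good h
    · exact Cfsg.Agent.H225.PPow.good_F4 F p (by omega)
  · obtain ⟨e⟩ := h
    refine Good.of_equiv e.symm ?_
    by_cases h : Nat.card F = 2
    · have := h2p h
      subst this
      exact Cfsg.Agent.H249.PPEtwo.e6 T hS (by rw [← hcF, h])
    · exact Cfsg.Agent.H225.PPow.good_E6 F p (by omega)
  · obtain ⟨e⟩ := h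
    refine Good.of_equiv e.symm ?_
    by_cases h : Nat.card F = 2
    · have := h2p h
      subst this
      exact Cfsg.Agent.H249.PPEtwo.e7 T hS (by rw [← hcF, h])
    · exact Cfsg.Agent.H225.PPow.good_E7 F p (by omega)
  · obtain ⟨e⟩ := h
    refine Good.of_equiv e.symm ?_
    by_cases h : Nat.card F = 2
    · have := h2p h
      subst this
      exact Cfsg.Agent.H249.PPEtwo.e8 T hS (by rw [← hcF, h])
    · exact Cfsg.Agent.H225.PPow.good_E8 F p (by omega)

/-- The groups of Lie type have no proper subgroup of `p`-power index, up to the exceptions. -/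
theorem good_lie {p : ℕ} (hp : p.Prime) {G : Type u} [Group G] [Finite G] [IsSimpleGroup G]
    (h : IsLieTypeChar p G) :
    Good p G ∨
    (∃ (F : Type) (_ : Field F) (_ : Fintype F), 4 ≤ Fintype.card F ∧
      Nonempty (G ≃* Matrix.ProjectiveSpecialLinearGroup (Fin 2) F)) ∨
    (∃ (F : Type) (_ : Field F) (_ : Fintype F), Fintype.card F = 2 ∧
      Nonempty (G ≃* Matrix.ProjectiveSpecialLinearGroup (Fin 3) F)) ∨
    (∃ (F : Type) (_ : Field F) (_ : Fintype F), Fintype.card F = 2 ∧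
      Nonempty (G ≃* Matrix.ProjectiveSpecialLinearGroup (Fin 4) F)) ∨
    (∃ (F : Type) (_ : Field F) (_ : Fintype F), Fintype.card F = 3 ∧ Nonempty (G ≃* PSp 2 F)) := by
  have : Fact p.Prime := ⟨hp⟩
  rcases h with h | h | h | h | h | h | h | h | h | h | h
  · obtain ⟨F, _, _, _, n, hn, h4, ⟨e⟩⟩ := h
    by_cases h2 : n = 2
    · subst h2
      exact Or.inr (Or.inl ⟨F, _, _, h4 rfl, ⟨e⟩⟩)
    · by_cases hF : Nat.card F = 2 ∧ (n = 3 ∨ n = 4)
      · obtain ⟨hF, rfl | rfl⟩ := hF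
        · exact Or.inr (Or.inr (Or.inl ⟨F, _, _, by rw [← Nat.card_eq_fintype_card, hF], ⟨e⟩⟩))
        · exact Or.inr (Or.inr (Or.inr (Or.inl ⟨F, _, _, by rw [← Nat.card_eq_fintype_card, hF], ⟨e⟩⟩)))
      · exact Or.inl (Good.of_equiv e.symm (Cfsg.Agent.H221.PP.good hp (by omega) hF))
  · obtain ⟨F, _, _, _, m, hm, h3, ⟨e⟩⟩ := h
    by_cases hm2 : m = 2
    · subst hm2
      by_cases hF : Fintype.card F = 3
      · exact Or.inr (Or.inr (Or.inr (Or.inr ⟨F, _, _, hF, ⟨e⟩⟩)))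
      · have h1 : 1 < Fintype.card F := Fintype.one_lt_card
        have h3' := h3 rfl
        exact Or.inl (Good.of_equiv e.symm (Cfsg.Agent.H969.SpIdx.good_psp_all T hS hp hm
          (fun _ => by omega)))
    · exact Or.inl (Good.of_equiv e.symm (Cfsg.Agent.H969.SpIdx.good_psp_all T hS hp hm
          (fun h => absurd h hm2)))
  · obtain ⟨F, _, _, _, n, q, hF, hn, h32, ⟨e⟩⟩ := h
    exact Or.inl (Good.of_equiv e.symm (Cfsg.Agent.H408.BaseU.good_psu T hS hF hn h32))
  · obtain ⟨F, _, _, _, m, hm, hodd, ⟨e⟩⟩ := h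
    refine Or.inl (Good.of_equiv e.symm ((Cfsg.Agent.H125.OrthSame.base T hS F hp).odd hp ?_ hm))
    intro h2
    obtain ⟨j, hj⟩ := hodd
    have h3 : ((Fintype.card F : ℕ) : F) = 0 := Nat.cast_card_eq_zero F
    rw [hj] at h3
    push_cast at h3
    rw [h2, zero_mul, zero_add] at h3
    exact one_ne_zero h3
  · obtain ⟨F, _, _, _, m, hm, ⟨e⟩⟩ := h
    exact Or.inl (Good.of_equiv e.symm ((Cfsg.Agent.H125.OrthSame.base T hS F hp).plus hp hm))
  · obtain ⟨F, _, _, _, m, a, b, hm, hab, ⟨e⟩⟩ := h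
    exact Or.inl (Good.of_equiv e.symm ((Cfsg.Agent.H125.OrthSame.base T hS F hp).minus hp (by omega) hab))
  · exact Or.inl (exc_good T hS hp h)
  · obtain ⟨F, _, _, _, q, hq, h⟩ := h
    rcases h with ⟨hF, ⟨e⟩⟩ | ⟨hF, ⟨e⟩⟩
    · exact Or.inl (Good.of_equiv e.symm (Cfsg.Agent.H249.PPTwE6.all T hS p hq hF))
    · exact Or.inl (Good.of_equiv e.symm (Cfsg.Agent.H249.PPTwD4.all T hS p hq hF))
  · obtain ⟨rfl, F, _, _, m, hm, hF, ⟨e⟩⟩ := h
    exact Or.inl (Good.of_equiv e.symm (Cfsg.Agent.H249.PPSz.good hm hF))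
  · obtain ⟨rfl, h⟩ := h
    exact Or.inl (Cfsg.Agent.H249.PPTwF4.good h)
  · obtain ⟨rfl, h⟩ := h
    exact Or.inl (Cfsg.Agent.H249.PPRee.good h)

/-- All groups of Lie type, from `PSL_2(q)`. -/
theorem goodMono_lie (R : ∀ (F : Type) [Field F] [Fintype F], 4 ≤ Fintype.card F →
      GoodMono (Matrix.ProjectiveSpecialLinearGroup (Fin 2) F))
    {p : ℕ} (hp : p.Prime) {G : Type u} [Group G] [Finite G] [hs : IsSimpleGroup G]
    (hnab : ∃ a b : G, a * b ≠ b * a) (h : IsLieTypeChar p G) : GoodMono G := by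
  have hpf : Fact p.Prime := ⟨hp⟩
  have h8 : GoodMono (alternatingGroup (Fin 8)) := H902.MonoAlt.good_alt (by norm_num)
  rcases good_lie T hS hp h with hg | ⟨F, _, _, hF, ⟨e⟩⟩ | ⟨F, _, _, hF, ⟨e⟩⟩ | ⟨F, _, _, hF, ⟨e⟩⟩ |
      ⟨F, _, _, hF, ⟨e⟩⟩
  · rcases H580.LieFam.lie_cases h with h1 | h1 | h1 | h1 | h1 | h1
    · obtain ⟨F, _, _, _, hF, ⟨e⟩⟩ := h1
      exact (R F hF).congr e.symm
    · obtain ⟨F, _, _, _, q, hF, hq, ⟨e⟩⟩ := h1
      have hq3 : 3 ≤ q := by
        have h1 : 1 < Fintype.card F := Fintype.one_lt_card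
        rw [hF] at h1
        by_contra h2
        have h3 : q = 0 ∨ q = 1 := by omega
        rcases h3 with rfl | rfl <;> simp at h1
      have hfin : Finite (PSU 3 F q) := Finite.of_equiv _ e.toEquiv
      have hsim : IsSimpleGroup (PSU 3 F q) := e.symm.isSimpleGroup
      exact (H902.MonoPSU.good_psu3 hF hq3 (hg.of_equiv e)).congr e.symm
    · obtain ⟨rfl, F, _, _, m, hm, hF, ⟨e⟩⟩ := h1
      exact (H902.MonoSz.good_sz hm hF (hg.of_equiv e)).congr e.symm
    · obtain ⟨rfl, F, _, _, m, hm, hF, ⟨e⟩⟩ := h1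
      exact (H902.MonoRee.good_ree hm hF (hg.of_equiv e)).congr e.symm
    · obtain ⟨rfl, h1⟩ := h1
      exact goodMono_twF4 hnab h1 (NoCompl.of_good hp (dvd_card_of_lie hp h) hg)
    · exact goodMono_of_rgd2 hp hnab h1 (NoCompl.of_good hp (dvd_card_of_lie hp h) hg)
  · exact (R F hF).congr e.symm
  · obtain ⟨K, _, _, hK⟩ := exists_field (p := 7) (n := 1) (by norm_num) (by norm_num)
    have hK7 : Fintype.card K = 7 := by rw [hK]; norm_num
    obtain ⟨e'⟩ := Cfsg.Agent.S0255.result hK7 hF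
    exact (R K (by omega)).congr (e'.trans e.symm)
  · obtain ⟨e'⟩ := Cfsg.Agent.S0256.result hF
    exact h8.congr (e'.symm.trans e.symm)
  · obtain ⟨K, _, _, hK⟩ := exists_field (p := 2) (n := 2) Nat.prime_two (by norm_num)
    have hK4 : Fintype.card K = 4 := by rw [hK]; norm_num
    obtain ⟨e'⟩ := Cfsg.Agent.S0822.result hK4 hF
    have : Fact (Nat.Prime 2) := ⟨Nat.prime_two⟩
    have : CharP K 2 := by
      have h4 : Fintype.card K = 2 ^ 2 := by rw [hK4]; norm_num
      exact charP_of_card_eq_prime_pow h4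
    obtain ⟨m, hm, h5⟩ := typ_PSU (F := K) (q := 2) (N := 4) (p := 2) (by rw [hK4]; norm_num)
      (by norm_num)
    have h6 : HasRGDT 2 (CoxeterMatrix.B m) G := h5.of_equiv (e'.trans e.symm)
    have h7 : Good 2 (PSU 4 K 2) := Cfsg.Agent.H408.BaseU.good_psu T hS (by rw [hK4]; norm_num)
      (by norm_num) (by norm_num)
    exact goodMono_of_rgd2 Nat.prime_two hnab ⟨m, _, by omega, h6⟩
      (NoCompl.of_good Nat.prime_two (dvd_card_of_lie Nat.prime_two
        (Or.inr (Or.inr (Or.inl ⟨K, _, _, ‹_›, 4, 2, by rw [hK4]; norm_num, by norm_num, by norm_num,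
          ⟨(e'.trans e.symm).symm⟩⟩)))) (h7.of_equiv (e'.trans e.symm)))

end

/-- Every nonabelian finite simple group has the row of S4572. -/
theorem goodMono_all' (T : OrderTable.{0})
    (hS : ∀ (X : Type) [Group X] [Finite X] [IsSimpleGroup X], IsKnownSimple' X)
    (R : ∀ (F : Type) [Field F] [Fintype F], 4 ≤ Fintype.card F →
      GoodMono (Matrix.ProjectiveSpecialLinearGroup (Fin 2) F))
    (Rt : ∀ {G : Type u} [Group G] [Finite G] [IsSimpleGroup G], Lie.IsoTits G → GoodMono G)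
    (Rs : ∀ {G : Type u} [Group G] [Finite G] [IsSimpleGroup G], IsSporadicGroup G → GoodMono G)
    (S : Type u) [Group S] [Finite S] [IsSimpleGroup S]
    (hnab : ∃ a b : S, a * b ≠ b * a) (hk : IsKnownSimple' S) : GoodMono S := by
  have hc : ¬ IsPrimeCyclic S := by
    intro h1
    have : Fact (Nat.Prime (Nat.card S)) := ⟨h1⟩
    have h2 : IsCyclic S := isCyclic_of_prime_card (p := Nat.card S) rfl
    obtain ⟨a, b, hab⟩ := hnab
    obtain ⟨g, hg⟩ := h2.exists_generator
    obtain ⟨i, rfl⟩ := hg a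
    obtain ⟨j, rfl⟩ := hg b
    exact hab (by simp only [← zpow_add, add_comm])
  rcases H912.Known.known_split hk hc with h | ⟨p, hp, h⟩ | h | h
  · obtain ⟨n, hn, ⟨e⟩⟩ := h
    by_cases h7 : 7 ≤ n
    · exact (H902.MonoAlt.good_alt h7).congr e.symm
    · have h8 : n = 5 ∨ n = 6 := by omega
      rcases h8 with rfl | rfl
      · obtain ⟨F, _, _, hF⟩ := exists_field (p := 2) (n := 2) Nat.prime_two (by norm_num)
        have hF4 : Fintype.card F = 4 := by rw [hF]; norm_num
        obtain ⟨e'⟩ := Cfsg.Agent.S0252.result hF4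
        exact (R F (by omega)).congr (e'.trans e.symm)
      · obtain ⟨F, _, _, hF⟩ := exists_field (p := 3) (n := 2) Nat.prime_three (by norm_num)
        have hF9 : Fintype.card F = 9 := by rw [hF]; norm_num
        obtain ⟨e'⟩ := Cfsg.Agent.S0254.result hF9
        exact (R F (by omega)).congr (e'.trans e.symm)
  · exact goodMono_lie T hS R hp hnab h
  · exact Rt h
  · exact Rs h

/-- **S4572 from the rows `PSL_2(q)`, Tits and sporadic.** -/
theorem isSolvable_of_rows' (T : OrderTable.{0})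
    (hS : ∀ (X : Type) [Group X] [Finite X] [IsSimpleGroup X], IsKnownSimple' X)
    (R : ∀ (F : Type) [Field F] [Fintype F], 4 ≤ Fintype.card F →
      GoodMono (Matrix.ProjectiveSpecialLinearGroup (Fin 2) F))
    (Rt : ∀ {G : Type u} [Group G] [Finite G] [IsSimpleGroup G], Lie.IsoTits G → GoodMono G)
    (Rs : ∀ {G : Type u} [Group G] [Finite G] [IsSimpleGroup G], IsSporadicGroup G → GoodMono G)
    (hcfsg : ∀ (S : Type u) [Group S] [Finite S] [IsSimpleGroup S], IsKnownSimple' S)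
    {G : Type u} [Group G] [Fintype G] (h : EqDeg G) : Group.IsSolvable G :=
  isSolvable_of_eqDeg (fun S _ _ _ hnab => goodMono_all' T hS R Rt Rs S hnab (hcfsg S)) _ rfl h

end Cfsg.Agent.H649.MN
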