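import Cfsg.Agent.H649.SubBlock
import Cfsg.Agent.H649.LocalDefect

/-!
# Blocks of `Q C_G(Q)` for centric pairs (S4693)

* `isNilpotentBlock_of_centric`: if `Z(Q)` is a defect group of `f` then the block of `Q C_G(Q)`
  with the idempotent of `f` is nilpotent;
* `eq_of_stable`: if `Q` is normal in `G` and `f` is `G`-stable then the idempotent of a block `B`
  of which `(Q, f)` is a Brauer pair is that of `f`.
-/

set_option autoImplicit false
set_option linter.unusedSectionVars false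

open Cfsg

namespace Cfsg.Agent.H649

open Cfsg.Agent.H644 Cfsg.Agent.Blocks.Local Cfsg.Agent.H651

universe u

variable {p : ℕ} [Fact p.Prime] {M : Ideal AlgInt} {G : Type u} [Group G]

/-- Elements of `Q C_G(Q)`. -/
theorem exists_mul_of_mem_sup_centralizer {Q : Subgroup G} {x : G}
    (hx : x ∈ Q ⊔ Subgroup.centralizer (Q : Set G)) :
    ∃ q ∈ Q, q⁻¹ * x ∈ Subgroup.centralizer (Q : Set G) := by
  let K : Subgroup G :=
    { carrier := {x | ∃ q ∈ Q, q⁻¹ * x ∈ Subgroup.centralizer (Q : Set G)}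
      one_mem' := ⟨1, one_mem _, by rw [inv_one, one_mul]; exact one_mem _⟩
      mul_mem' := by
        rintro a b ⟨q, hq, h⟩ ⟨r, hr, h'⟩
        refine ⟨q * r, mul_mem hq hr, ?_⟩
        have h1 : r⁻¹ * (q⁻¹ * a) = (q⁻¹ * a) * r⁻¹ :=
          Subgroup.mem_centralizer_iff.1 h r⁻¹ (inv_mem hr)
        have h2 : (q * r)⁻¹ * (a * b) = (q⁻¹ * a) * (r⁻¹ * b) := by
          calc (q * r)⁻¹ * (a * b) = (r⁻¹ * (q⁻¹ * a)) * b := by group
            _ = (q⁻¹ * a) * (r⁻¹ * b) := by rw [h1]; group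
        rw [h2]
        exact mul_mem h h'
      inv_mem' := by
        rintro a ⟨q, hq, h⟩
        refine ⟨q⁻¹, inv_mem hq, ?_⟩
        have h1 : q * (q⁻¹ * a) = (q⁻¹ * a) * q := Subgroup.mem_centralizer_iff.1 h q hq
        have h2 : q⁻¹⁻¹ * a⁻¹ = (q⁻¹ * a)⁻¹ := by
          have h3 : a = q⁻¹ * a * q := by rw [← h1]; group
          calc q⁻¹⁻¹ * a⁻¹ = q * (q⁻¹ * a * q)⁻¹ := by rw [← h3, inv_inv]
            _ = (q⁻¹ * a)⁻¹ := by group
        rw [h2]
        exact inv_mem h }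
  have h1 : Q ⊔ Subgroup.centralizer (Q : Set G) ≤ K := by
    refine sup_le (fun q hq => ⟨q, hq, ?_⟩) (fun c hc => ⟨1, one_mem _, ?_⟩)
    · rw [inv_mul_cancel]; exact one_mem _
    · rw [inv_one, one_mul]; exact hc
  exact h1 hx

/-- `p`-regular elements of `Q C_G(Q)` lie in `C_G(Q)`. -/
theorem mem_centralizer_of_isPRegular [Finite G] {Q : Subgroup G} (hQ : IsPGroup p Q) {x : G}
    (hx : x ∈ Q ⊔ Subgroup.centralizer (Q : Set G)) (hr : IsPRegular p x) :
    x ∈ Subgroup.centralizer (Q : Set G) := by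
  obtain ⟨q, hq, hc⟩ := exists_mul_of_mem_sup_centralizer hx
  have hcom : Commute q (q⁻¹ * x) := Subgroup.mem_centralizer_iff.1 hc q hq
  obtain ⟨k, hk⟩ := hQ ⟨q, hq⟩
  have hk' : q ^ p ^ k = 1 := congrArg Subtype.val hk
  have h1 : x ^ p ^ k = (q⁻¹ * x) ^ p ^ k := by
    have h2 : x = q * (q⁻¹ * x) := by group
    conv_lhs => rw [h2]
    rw [hcom.mul_pow, hk', one_mul]
  have h2 : x ^ p ^ k ∈ Subgroup.centralizer (Q : Set G) := by
    rw [h1]; exact pow_mem hc _
  have h3 : (orderOf x).Coprime (p ^ k) := by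
    refine Nat.Coprime.pow_right k ?_
    exact ((Nat.Prime.coprime_iff_not_dvd Fact.out).2 hr).symm
  obtain ⟨m, hm⟩ := exists_pow_eq_self_of_coprime h3.symm
  rw [← hm]
  exact pow_mem h2 m

section

variable [Finite G] {Q : Subgroup G} {f : Set (IrrCharacter (Subgroup.centralizer (Q : Set G)))}

/-- If `Z(Q)` is a defect group of `f` then the subgroups of the Brauer pairs of the block of
`Q C_G(Q)` over `f` lie in `Q`. -/
theorem map_le_of_centric (hM : IsPModular p M) (hQ : IsPGroup p Q) (hf : IsPBlock M f)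
    (hZ : IsDefectGroup p M f ((Q ⊓ Subgroup.centralizer (Q : Set G)).subgroupOf
      (Subgroup.centralizer (Q : Set G))))
    {F : Set (IrrCharacter ↥(Q ⊔ Subgroup.centralizer (Q : Set G)))} (hF : IsPBlock M F)
    (hFc : ∀ t : ↥(Q ⊔ Subgroup.centralizer (Q : Set G)), blockCoeff F t =
      subgroupBlockCoeff (Subgroup.centralizer (Q : Set G)) f (t : G))
    {R : Subgroup ↥(Q ⊔ Subgroup.centralizer (Q : Set G))}
    {h : Set (IrrCharacter (Subgroup.centralizer
      (R : Set ↥(Q ⊔ Subgroup.centralizer (Q : Set G)))))}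
    (hR : IsBrauerPairOf p M F R h) :
    R.map (Q ⊔ Subgroup.centralizer (Q : Set G)).subtype ≤ Q := by
  have hp : M.IsPrime := isPrime_of_isPModular hM
  have := Fintype.ofFinite G
  have hL : IsSub Q f (Q ⊔ Subgroup.centralizer (Q : Set G)) := isSub_sup Q f hf
  obtain ⟨D, hD, hRD⟩ := exists_defect_ge hM hR
  obtain ⟨hQD, g, hg⟩ := exists_pair_of_sub_defect hM hQ hf hL hF hFc hD
  refine (Subgroup.map_mono hRD).trans ?_
  obtain ⟨E, hE, hDE⟩ := exists_centralizer_defect hM hg.2.1 (subpairLE_of_isNormalSubpair hg)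
  have h1 : Nat.card E = Nat.card (Q ⊓ Subgroup.centralizer (Q : Set G) : Subgroup G) := by
    rw [Cfsg.Agent.S0908.result p M hM f hf E hE, ← card_subgroupOf inf_le_right,
      Cfsg.Agent.S0908.result p M hM f hf _ hZ]
  have h2 : Nat.card (D.map (Q ⊔ Subgroup.centralizer (Q : Set G)).subtype ⊓
      Subgroup.centralizer (Q : Set G) : Subgroup G) ≤
      Nat.card (Q ⊓ Subgroup.centralizer (Q : Set G) : Subgroup G) := by
    rw [← h1, ← card_subgroupOf inf_le_right]
    exact Subgroup.card_le_of_le hDE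
  have h3 : Q ⊓ Subgroup.centralizer (Q : Set G) =
      D.map (Q ⊔ Subgroup.centralizer (Q : Set G)).subtype ⊓
      Subgroup.centralizer (Q : Set G) :=
    Subgroup.eq_of_le_of_card_ge (inf_le_inf_right _ hQD) h2
  intro x hx
  obtain ⟨q, hq, hc⟩ := exists_mul_of_mem_sup_centralizer (Subgroup.map_subtype_le D hx)
  have h4 : q⁻¹ * x ∈ Q ⊓ Subgroup.centralizer (Q : Set G) := by
    rw [h3]
    exact Subgroup.mem_inf.2
      ⟨Subgroup.mul_mem _ (Subgroup.inv_mem _ (hQD hq)) hx, hc⟩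
  have h5 := mul_mem hq h4.1
  rwa [mul_inv_cancel_left] at h5

/-- If `Z(Q)` is a defect group of `f` then the block of `Q C_G(Q)` over `f` is nilpotent. -/
theorem isNilpotentBlock_of_centric (hM : IsPModular p M) (hQ : IsPGroup p Q) (hf : IsPBlock M f)
    (hZ : IsDefectGroup p M f ((Q ⊓ Subgroup.centralizer (Q : Set G)).subgroupOf
      (Subgroup.centralizer (Q : Set G))))
    {F : Set (IrrCharacter ↥(Q ⊔ Subgroup.centralizer (Q : Set G)))} (hF : IsPBlock M F)
    (hFc : ∀ t : ↥(Q ⊔ Subgroup.centralizer (Q : Set G)), blockCoeff F t =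
      subgroupBlockCoeff (Subgroup.centralizer (Q : Set G)) f (t : G)) :
    IsNilpotentBlock p M F := by
  refine ⟨hF, fun R h hR x _ _ hreg => ?_⟩
  have h1 := map_le_of_centric hM hQ hf hZ hF hFc hR
  have hreg' : IsPRegular p (x : G) := by
    rw [IsPRegular, Subgroup.orderOf_coe]
    exact hreg
  have h2 := mem_centralizer_of_isPRegular hQ x.2 hreg'
  rw [Subgroup.mem_centralizer_iff]
  intro r hr
  exact Subtype.ext (Subgroup.mem_centralizer_iff.1 h2 r (h1 ⟨r, hr, rfl⟩))

/-- If `Q` is normal in `G` and `f` is `G`-stable, the idempotent of the block `B` of which `(Q, f)`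
is a Brauer pair is that of `f`. -/
theorem blockCoeff_eq_of_stable (hM : IsPModular p M) {B : Set (IrrCharacter G)}
    (hQf : IsBrauerPairOf p M B Q f)
    (hG : ∀ x : G, x ∈ Subgroup.normalizer (Q : Set G) ∧
      StabilizesBlock (Subgroup.centralizer (Q : Set G)) f x) (g : G) :
    blockCoeff B g = subgroupBlockCoeff (Subgroup.centralizer (Q : Set G)) f g := by
  have hp : M.IsPrime := isPrime_of_isPModular hM
  have hT : IsSub Q f ⊤ := ⟨le_top, le_top, fun y _ => hG y⟩
  obtain ⟨F, hF, hFc⟩ := exists_block_of_isSub hM hQf.1.1 hQf.1.2 hT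
  have h1 : IsPBlock M (blkMap (Subgroup.topEquiv : (⊤ : Subgroup G) ≃* G) F) :=
    isPBlock_blkMap hF
  have h2 : ∀ y : G, blockCoeff (blkMap (Subgroup.topEquiv : (⊤ : Subgroup G) ≃* G) F) y =
      subgroupBlockCoeff (Subgroup.centralizer (Q : Set G)) f y := fun y => by
    rw [blockCoeff_blkMap', hFc]
    rfl
  have h3 : IsBrauerPairOf p M (blkMap (Subgroup.topEquiv : (⊤ : Subgroup G) ≃* G) F) Q f := by
    have h4 := isNormalSubpair_self hM hQf.1
    refine ⟨hQf.1, h1, fun ξ hξ => ?_⟩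
    have h5 := h4.2.2.2.2.2 ξ hξ
    have h6 : blockCoeff (blkMap (Subgroup.topEquiv : (⊤ : Subgroup G) ≃* G) F) =
        subgroupBlockCoeff (Subgroup.centralizer (Q : Set G)) f := funext h2
    rw [h6]
    exact h5
  have h4 : B = blkMap (Subgroup.topEquiv : (⊤ : Subgroup G) ≃* G) F :=
    (existsUnique_isBrauerPairOf hM hQf.1).unique hQf h3
  rw [h4, h2]

end

end Cfsg.Agent.H649
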