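import Mathlib

/-!
# A simple subgroup of a nonsolvable minimal normal subgroup
-/

set_option autoImplicit false

open Subgroup

namespace Cfsg.Agent.H649.MinSimple

variable {G : Type*} [Group G] [Finite G]

/-- If `G` is not solvable and all its proper quotients are, then `G` has a nonabelian simple
subgroup `S` commuting with each of its other conjugates, such that `G` modulo the normal closure of
`S` is solvable, and every nontrivial normal subgroup contains `S`. -/
theorem exists_simple (hG : ¬ Group.IsSolvable G)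
    (hq : ∀ (M : Subgroup G) [M.Normal], M ≠ ⊥ → Group.IsSolvable (G ⧸ M)) :
    ∃ S : Subgroup G, IsSimpleGroup S ∧ (∃ a b : S, a * b ≠ b * a) ∧
      (∀ g, g ∉ normalizer (S : Set G) → ∀ s ∈ S, ∀ t ∈ S,
        (g * s * g⁻¹) * t = t * (g * s * g⁻¹)) ∧
      Group.IsSolvable (G ⧸ normalClosure (S : Set G)) := by
  classical
  have hnt : Nontrivial G := by
    by_contra h
    rw [not_nontrivial_iff_subsingleton] at h
    exact hG inferInstance
  -- a minimal normal subgroup
  obtain ⟨N, ⟨hN, hN1⟩, hmin⟩ : ∃ N : Subgroup G, Minimal (fun M : Subgroup G => M.Normal ∧ M ≠ ⊥) N := by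
    obtain ⟨N, -, hN⟩ := Finite.exists_le_minimal (p := fun M : Subgroup G => M.Normal ∧ M ≠ ⊥)
      (a := ⊤) ⟨inferInstance, bot_ne_top.symm⟩
    exact ⟨N, hN⟩
  have hNs : ¬ Group.IsSolvable N := by
    intro h
    apply hG
    have h1 := hq N hN1
    exact Group.isSolvable_of_ker_le_range N.subtype (QuotientGroup.mk' N) (by
      rw [QuotientGroup.ker_mk', Subgroup.range_subtype])
  -- a minimal nontrivial subgroup of `N` normalised by `N`
  let P : Subgroup G → Prop := fun T => T ≠ ⊥ ∧ T ≤ N ∧ ∀ n ∈ N, ∀ t ∈ T, n * t * n⁻¹ ∈ T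
  obtain ⟨S, hS, hSmin⟩ : ∃ S : Subgroup G, P S ∧ ∀ T, P T → Nat.card S ≤ Nat.card T := by
    have h1 : ∃ n : ℕ, ∃ T, P T ∧ Nat.card T = n :=
      ⟨_, N, ⟨hN1, le_rfl, fun n hn t ht => mul_mem (mul_mem hn ht) (inv_mem hn)⟩, rfl⟩
    obtain ⟨T, hT, hc⟩ := Nat.find_spec h1
    refine ⟨T, hT, fun T' hT' => ?_⟩
    rw [hc]
    exact Nat.find_min' h1 ⟨T', hT', rfl⟩
  obtain ⟨hS1, hSN, hSn⟩ := hS
  have hconj : ∀ (g : G) (T : Subgroup G), P T → P (T.map (MulAut.conj g).toMonoidHom) := by
    rintro g T ⟨h1, h2, h3⟩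
    refine ⟨?_, ?_, ?_⟩
    · intro h4
      apply h1
      rw [Subgroup.map_eq_bot_iff] at h4
      rw [eq_bot_iff]
      refine h4.trans ?_
      rw [(MonoidHom.ker_eq_bot_iff _).2 (MulAut.conj g).injective]
    · rintro _ ⟨t, ht, rfl⟩
      exact hN.conj_mem t (h2 ht) g
    · rintro n hn _ ⟨t, ht, rfl⟩
      have h5 : g⁻¹ * n * g ∈ N := by simpa using hN.conj_mem n hn g⁻¹
      refine ⟨(g⁻¹ * n * g) * t * (g⁻¹ * n * g)⁻¹, h3 _ h5 t ht, ?_⟩
      show g * (g⁻¹ * n * g * t * (g⁻¹ * n * g)⁻¹) * g⁻¹ = n * (g * t * g⁻¹) * n⁻¹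
      group
  have hcardmap : ∀ (g : G), Nat.card (S.map (MulAut.conj g).toMonoidHom) = Nat.card S := by
    intro g
    exact Subgroup.card_map_of_injective (MulAut.conj g).injective
  have hcomm : ∀ g, g ∉ normalizer (S : Set G) → ∀ s ∈ S, ∀ t ∈ S,
      (g * s * g⁻¹) * t = t * (g * s * g⁻¹) := by
    intro g hg s hs t ht
    set T := S.map (MulAut.conj g).toMonoidHom with hT
    have hPT : P T := hconj g S ⟨hS1, hSN, hSn⟩
    have hinf : S ⊓ T = ⊥ := by
      by_contra hne
      have h1 : P (S ⊓ T) := by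
        refine ⟨hne, inf_le_left.trans hSN, ?_⟩
        intro n hn x hx
        exact ⟨hSn n hn x hx.1, hPT.2.2 n hn x hx.2⟩
      have h2 := hSmin _ h1
      have h3 : S ⊓ T = S := Subgroup.eq_of_le_of_card_ge inf_le_left h2
      have h4 : S ≤ T := by rw [← h3]; exact inf_le_right
      have h5 : S = T := Subgroup.eq_of_le_of_card_ge h4 (hcardmap g).le
      apply hg
      rw [mem_normalizer_iff]
      intro x
      constructor
      · intro hx
        have h7 : g * x * g⁻¹ ∈ T := ⟨x, hx, rfl⟩
        rwa [← h5] at h7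
      · intro hx
        rw [h5] at hx
        obtain ⟨y, hy, hyx⟩ := hx
        have h6 : y = x := (MulAut.conj g).injective hyx
        rw [← h6]
        exact hy
    have hmem : g * s * g⁻¹ ∈ T := ⟨s, hs, rfl⟩
    have h1 : (g * s * g⁻¹) * t * (g * s * g⁻¹)⁻¹ * t⁻¹ ∈ S ⊓ T := by
      rw [Subgroup.mem_inf]
      constructor
      · exact S.mul_mem (hSn _ (hPT.2.1 hmem) t ht) (S.inv_mem ht)
      · have h2 : g * s * g⁻¹ * (t * (g * s * g⁻¹)⁻¹ * t⁻¹) ∈ T :=
          T.mul_mem hmem (hPT.2.2 t (hSN ht) _ (T.inv_mem hmem))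
        have h3 : g * s * g⁻¹ * (t * (g * s * g⁻¹)⁻¹ * t⁻¹) =
          (g * s * g⁻¹) * t * (g * s * g⁻¹)⁻¹ * t⁻¹ := by group
        rwa [h3] at h2
    rw [hinf, mem_bot, mul_inv_eq_one, mul_inv_eq_iff_eq_mul] at h1
    exact h1
  -- the normal closure is `N`
  have hclosN : normalClosure (S : Set G) = N := by
    apply le_antisymm
    · exact normalClosure_le_normal hSN
    · refine hmin ⟨normalClosure_normal, ?_⟩ (normalClosure_le_normal hSN)
      intro h
      apply hS1
      rw [eq_bot_iff, ← h]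
      exact subset_normalClosure
  have hNcl : N = closure {x | ∃ g : G, ∃ s ∈ S, x = g * s * g⁻¹} := by
    rw [← hclosN, normalClosure]
    congr 1
    ext x
    rw [Group.mem_conjugatesOfSet_iff]
    constructor
    · rintro ⟨a, ha, hx⟩
      obtain ⟨c, hc⟩ := isConj_iff.1 hx
      exact ⟨c, a, ha, hc.symm⟩
    · rintro ⟨g, s, hs, rfl⟩
      exact ⟨s, hs, isConj_iff.2 ⟨g, rfl⟩⟩
  have hnab : ∃ a b : S, a * b ≠ b * a := by
    by_contra hcon
    push Not at hcon
    apply hNs
    have h1 : ∀ g : G, ∀ s ∈ S, ∀ t ∈ S, (g * s * g⁻¹) * t = t * (g * s * g⁻¹) := by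
      intro g s hs t ht
      by_cases hg : g ∈ normalizer (S : Set G)
      · have h2 : g * s * g⁻¹ ∈ S := (mem_normalizer_iff.1 hg s).1 hs
        exact congrArg Subtype.val (hcon ⟨_, h2⟩ ⟨t, ht⟩)
      · exact hcomm g hg s hs t ht
    have h2 : ∀ x ∈ N, ∀ y ∈ N, x * y = y * x := by
      have h3 : N ≤ centralizer (N : Set G) := by
        conv_lhs => rw [hNcl]
        rw [closure_le]
        rintro _ ⟨g, s, hs, rfl⟩
        rw [SetLike.mem_coe, mem_centralizer_iff]
        intro y hy
        have h4 : N ≤ centralizer ({g * s * g⁻¹} : Set G) := by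
          conv_lhs => rw [hNcl]
          rw [closure_le]
          rintro _ ⟨k, t, ht, rfl⟩
          rw [SetLike.mem_coe, mem_centralizer_iff]
          rintro _ rfl
          have h5 := h1 (k⁻¹ * g) s hs t ht
          have h6 := congrArg (fun z => k * z * k⁻¹) h5
          simp only [mul_inv_rev, inv_inv] at h6
          calc g * s * g⁻¹ * (k * t * k⁻¹) = k * (k⁻¹ * g * s * (g⁻¹ * k) * t) * k⁻¹ := by group
            _ = k * (t * (k⁻¹ * g * s * (g⁻¹ * k))) * k⁻¹ := h6
            _ = _ := by group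
        exact (mem_centralizer_iff.1 (h4 hy) _ rfl).symm
      intro x hx y hy
      exact (mem_centralizer_iff.1 (h3 hx) y hy).symm
    have : IsMulCommutative N := ⟨⟨fun a b => Subtype.ext (h2 a a.2 b b.2)⟩⟩
    exact Group.isSolvable_of_comm fun a b => Subtype.ext (h2 a a.2 b b.2)
  refine ⟨S, ?_, hnab, hcomm, ?_⟩
  · have hSnt : Nontrivial S := (Subgroup.nontrivial_iff_ne_bot S).2 hS1
    refine ⟨fun K hK => ?_⟩
    by_cases hK1 : K = ⊥
    · exact Or.inl hK1
    right
    have hKP : P (K.map S.subtype) := by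
      refine ⟨?_, ?_, ?_⟩
      · intro h
        apply hK1
        rwa [Subgroup.map_eq_bot_iff_of_injective _ S.subtype_injective] at h
      · exact (Subgroup.map_subtype_le K).trans hSN
      · have h1 : N ≤ normalizer ((K.map S.subtype : Subgroup G) : Set G) := by
          rw [hNcl, closure_le]
          rintro _ ⟨g, s, hs, rfl⟩
          rw [SetLike.mem_coe]
          by_cases hg : g ∈ normalizer (S : Set G)
          · have h2 : g * s * g⁻¹ ∈ S := (mem_normalizer_iff.1 hg s).1 hs
            have h3 : S ≤ normalizer ((K.map S.subtype : Subgroup G) : Set G) := by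
              intro a ha
              rw [mem_normalizer_iff]
              intro x
              constructor
              · rintro ⟨k, hk, rfl⟩
                exact ⟨⟨a, ha⟩ * k * ⟨a, ha⟩⁻¹, hK.conj_mem k hk _, rfl⟩
              · rintro ⟨k, hk, hkx⟩
                refine ⟨⟨a, ha⟩⁻¹ * k * ⟨a, ha⟩, ?_, ?_⟩
                · simpa using hK.conj_mem k hk (⟨a, ha⟩⁻¹ : S)
                · have h4 : (k : G) = a * x * a⁻¹ := hkx
                  show a⁻¹ * (k : G) * a = x
                  rw [h4]
                  group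
            exact h3 h2
          · rw [mem_normalizer_iff]
            have h2 : ∀ x ∈ K.map S.subtype, (g * s * g⁻¹) * x * (g * s * g⁻¹)⁻¹ = x := by
              intro x hx
              have h3 : x ∈ S := Subgroup.map_subtype_le K hx
              rw [hcomm g hg s hs x h3, mul_inv_cancel_right]
            intro x
            constructor
            · intro hx
              rw [h2 x hx]
              exact hx
            · intro hx
              have h3 := Subgroup.map_subtype_le K hx
              have h4 := hcomm g hg s hs _ h3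
              have h5 : x = (g * s * g⁻¹) * x * (g * s * g⁻¹)⁻¹ := by
                have h6 : (g * s * g⁻¹)⁻¹ * (g * s * g⁻¹ * x * (g * s * g⁻¹)⁻¹) * (g * s * g⁻¹)
                  = g * s * g⁻¹ * x * (g * s * g⁻¹)⁻¹ := by
                  rw [mul_assoc, ← h4, inv_mul_cancel_left]
                calc x = (g * s * g⁻¹)⁻¹ * (g * s * g⁻¹ * x * (g * s * g⁻¹)⁻¹) * (g * s * g⁻¹) := by
                      group
                  _ = _ := h6
              rw [h5]
              exact hx
        intro n hn t ht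
        exact (mem_normalizer_iff.1 (h1 hn) t).1 ht
    have h1 := hSmin _ hKP
    have h2 : K.map S.subtype = S := Subgroup.eq_of_le_of_card_ge (Subgroup.map_subtype_le K) h1
    rw [eq_top_iff]
    intro a _
    have h3 : (a : G) ∈ K.map S.subtype := by rw [h2]; exact a.2
    obtain ⟨k, hk, hka⟩ := h3
    have h4 : k = a := Subtype.ext hka
    rw [← h4]
    exact hk
  · refine hq _ ?_
    rw [hclosN]
    exact hN1

end Cfsg.Agent.H649.MinSimple
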