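import Cfsg.Agent.H649.MonoRankTwo

/-!
# The row of S4572 for groups with a split (B,N)-pair of rank at least two
-/

set_option autoImplicit false

open Cfsg Cfsg.Agent.Characters.Core Module Representation
open Cfsg.Agent.Blocks.Basic (irr_one_eq_charDegree charDegree_pos)
open Cfsg.Agent.FixBN Cfsg.Agent.Schreier.BNSch

namespace Cfsg.Agent.H649.MN

theorem nt_iff {S A : Type*} [Group S] [Group A] (f : S →* A) (χ : A → ℂ) :
    NT f.range χ ↔ ∃ s, χ (f s) ≠ χ 1 := by
  constructor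
  · rintro ⟨_, ⟨s, rfl⟩, h⟩
    exact ⟨s, h⟩
  · rintro ⟨s, h⟩
    exact ⟨f s, ⟨s, rfl⟩, h⟩

/-- **A general tool**: the negation of the row, in terms of the normal subgroup `T = f(S)`. -/
theorem goodMono_of {S : Type*} [Group S] [Finite S] [IsSimpleGroup S]
    (hnab : ∃ a b : S, a * b ≠ b * a)
    (h : ∀ (A : Type) [Group A] [Fintype A] (T : Subgroup A) [T.Normal] [IsSimpleGroup T]
      (_ : S ≃* T), Subgroup.centralizer (T : Set A) = ⊥ → Group.IsSolvable (A ⧸ T) →
      (∃ a b : T, a * b ≠ b * a) → (∀ f : T →* ℂˣ, f = 1) →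
      (∀ χ ψ : A → ℂ, IsIrrCharacter A χ → IsIrrCharacter A ψ → NT T χ → NT T ψ → ¬ Mono A χ →
        ¬ Mono A ψ → charDegree χ = charDegree ψ) → False) : GoodMono S := by
  intro A _ _ f hf hN hC hs
  by_contra hcon
  push Not at hcon
  have e : S ≃* f.range := MonoidHom.ofInjective hf
  have : Nontrivial f.range := e.symm.toEquiv.nontrivial
  have hsim : IsSimpleGroup f.range := IsSimpleGroup.isSimpleGroup_of_surjective e.toMonoidHom e.surjective
  have hnab' : ∃ a b : f.range, a * b ≠ b * a := by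
    obtain ⟨a, b, hab⟩ := hnab
    refine ⟨e a, e b, fun h1 => hab (e.injective ?_)⟩
    rw [map_mul, map_mul, h1]
  refine h A f.range e hC hs hnab' (fun g => lin_eq_one hnab' g) ?_
  intro χ ψ h1 h2 h3 h4 h5 h6
  have h7 := hcon χ ψ ⟨h1, (nt_iff f χ).1 h3, h5⟩ ⟨h2, (nt_iff f ψ).1 h4, h6⟩
  rw [irr_one_eq_charDegree h1, irr_one_eq_charDegree h2] at h7
  exact_mod_cast h7

/-- **The row in rank at least two.** -/
theorem goodMono_of_split {S : Type*} [Group S] [Finite S] [IsSimpleGroup S]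
    (hnab : ∃ a b : S, a * b ≠ b * a) {p : ℕ} [hp : Fact p.Prime] {P : Cfsg.BNPair S}
    {U : Subgroup S} (h : Split P p U) {s t : S} (hs : s ∈ P.S) (ht : t ∈ P.S) (hst : s ≠ t)
    (hno : ∀ H : Subgroup S, H.index ≠ Nat.card U) : GoodMono S := by
  refine goodMono_of hnab ?_
  intro A _ _ T hTn hTs e hC hsol hnabT hlin hE
  classical
  have : Fintype T := Fintype.ofFinite T
  -- transport
  have h' := FixBN.Transport.split e P h
  have hs' : e s ∈ (FixBN.Transport.mapBN e P).S := ⟨s, hs, rfl⟩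
  have ht' : e t ∈ (FixBN.Transport.mapBN e P).S := ⟨t, ht, rfl⟩
  have hst' : e s ≠ e t := fun h1 => hst (e.injective h1)
  obtain ⟨Q, hQ⟩ := H612.CharTwo.exists_sylow h'
  have hcU : Nat.card Q = Nat.card U := by
    have h1 : Nat.card (U.map e.toMonoidHom) = Nat.card U :=
      Subgroup.card_map_of_injective e.injective
    rw [← h1, ← hQ]
  -- the Steinberg character
  obtain ⟨χ₀, hχ₀, hres, hdeg⟩ := H691.StExt.exists_ext T (p := p) ⟨_, _, ⟨_, hs'⟩, h'⟩
  have hd₀ : charDegree χ₀ = Nat.card U := by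
    have h1 := hdeg Q
    rw [irr_one_eq_charDegree hχ₀, hcU] at h1
    exact_mod_cast h1
  have hU1 : 1 < Nat.card U := by
    obtain ⟨V, hV⟩ := h.node s hs
    obtain ⟨u, hu, huV⟩ := hV.ne
    rw [Subgroup.one_lt_card_iff_ne_bot]
    intro h1
    rw [h1, Subgroup.mem_bot] at hu
    exact huV (hu ▸ one_mem V)
  have hnt : NT T χ₀ := by
    by_contra hcon
    unfold NT at hcon
    push Not at hcon
    have h1 : (fun t : T => χ₀ t) = (χ₀ 1) • (1 : T → ℂ) := by
      funext x
      rw [hcon x x.2]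
      simp
    have h2 : (fun t : T => χ₀ t) = 1 := by
      by_contra hne
      have h6 := classInner_irr_ne hres isIrr_one hne
      rw [h1, classInner_smul_left, classInner_irr_self isIrr_one, mul_one] at h6
      exact isIrr_apply_one_ne_zero hχ₀ h6
    have h3 : χ₀ 1 = 1 := congrFun h2 1
    rw [irr_one_eq_charDegree hχ₀, hd₀] at h3
    have h4 : Nat.card U = 1 := by exact_mod_cast h3
    omega
  have hnm : ¬ Mono A χ₀ := by
    intro hm
    obtain ⟨H, hH⟩ := exists_index_of_mono hχ₀ hres hm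
    apply hno (H.comap e.toMonoidHom)
    rw [Subgroup.index_comap_of_surjective _ e.surjective, hH, hd₀]
  -- the subgroup of minimal index
  have hTb : T ≠ ⊥ := by
    intro h1
    have := hTs.toNontrivial
    exact (Subgroup.nontrivial_iff_ne_bot T).1 this h1
  obtain ⟨H, hH, hHc⟩ := exists_H hTb hlin (d := Nat.card U) (fun χ h1 h2 h3 => by
    rw [← hd₀]
    exact hE χ χ₀ h1 hχ₀ h2 hnt h3 hnm)
  have hH1 : H.subgroupOf T ≠ ⊤ := by
    intro h1
    apply hH
    rwa [Subgroup.subgroupOf_eq_top] at h1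
  obtain ⟨k, hk⟩ := IsPGroup.iff_card.1 h.isP
  refine exists_not_pow hnabT h' hs' ht' hst' hH1 k ?_
  intro θ hθ h1 h2
  obtain ⟨η, hη, hη1, hη2, hη3⟩ := exists_over hθ h1 h2
  have h3 := (H596.charDegree_dvd_of_over T hη hθ hη3).1
  rwa [hHc η hη hη1 hη2, hk] at h3

end Cfsg.Agent.H649.MN
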