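import Cfsg.Agent.H649.MonoRed
import Cfsg.Agent.H649.MonoRankTwoRow
import Cfsg.Agent.H912.KnownSplit
import Cfsg.Agent.H580.LieFam
import Cfsg.Agent.H410.TwFFourAS
import Cfsg.Agent.S0252
import Cfsg.Agent.S0254
import Cfsg.Agent.S0255
import Cfsg.Agent.S0256
import Cfsg.Agent.S0822

/-!
# S4572 from its rows
-/

set_option autoImplicit false

open Cfsg
open Cfsg.Agent.FixBN Cfsg.Agent.Omega.ML.Ex.Typ

namespace Cfsg.Agent.H649.MN

universe u

/-- `G` has no subgroup of index `|G|_p` (no complement of a Sylow `p`-subgroup). -/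
def NoCompl (p : ℕ) (G : Type*) [Group G] : Prop :=
  ∀ H : Subgroup G, H.index ≠ p ^ (Nat.card G).factorization p

theorem NoCompl.of_good {p : ℕ} (hp : p.Prime) {G : Type*} [Group G] [Finite G] (hG : p ∣ Nat.card G)
    (h : ∀ (H : Subgroup G) (k : ℕ), H.index = p ^ k → H = ⊤) : NoCompl p G := by
  intro H hH
  have h1 := h H _ hH
  rw [h1, Subgroup.index_top] at hH
  have h2 : 0 < (Nat.card G).factorization p := hp.factorization_pos_of_dvd Nat.card_pos.ne' hG
  exact (Nat.one_lt_pow h2.ne' hp.one_lt).ne hH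

theorem NoCompl.of_equiv {p : ℕ} {G G' : Type*} [Group G] [Group G'] (e : G ≃* G')
    (h : NoCompl p G) : NoCompl p G' := by
  intro H hH
  apply h (H.comap e.toMonoidHom)
  rw [Subgroup.index_comap_of_surjective _ e.surjective, hH, Nat.card_congr e.toEquiv]

theorem NoCompl.index_ne {p : ℕ} [Fact p.Prime] {G : Type*} [Group G] [Finite G] (h : NoCompl p G)
    {P : Cfsg.BNPair G} {U : Subgroup G} (hU : Split P p U) (H : Subgroup G) :
    H.index ≠ Nat.card U := by
  obtain ⟨Q, hQ⟩ := H612.CharTwo.exists_sylow hU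
  intro h1
  apply h H
  rw [h1, ← hQ]
  exact Sylow.card_eq_multiplicity Q

/-- Groups of Lie type with root group data of rank at least two. -/
theorem goodMono_of_rgd2 {p : ℕ} (hp : p.Prime) {G : Type*} [Group G] [Finite G] [IsSimpleGroup G]
    (hnab : ∃ a b : G, a * b ≠ b * a) (hG : H580.LieFam.Rgd2 p G) (hno : NoCompl p G) :
    GoodMono G := by
  have := Fact.mk hp
  obtain ⟨l, M, hl, h⟩ := hG
  obtain ⟨P, U, e, hs, -⟩ := h.hasSplitT hp (by omega)
  refine goodMono_of_split hnab hs (e ⟨0, by omega⟩).2 (e ⟨1, by omega⟩).2 ?_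
    (fun H => hno.index_ne hs H)
  intro h1
  have h2 := e.injective (Subtype.ext h1)
  simp at h2

/-- The Weyl group of a (B,N)-pair with one generator has order at most two. -/
theorem relIndex_dvd_two {K : Type*} [Group K] (P : Cfsg.BNPair K) {s : K} (hS : P.S = {s}) :
    (P.B ⊓ P.N).relIndex P.N ∣ 2 := by
  have hs : s ∈ P.S := by rw [hS]; rfl
  have hsN : s ∈ P.N := P.subset hs
  have hsq : s * s ∈ P.B := P.sq_mem s hs
  have hc : ∀ n ∈ P.N, ∀ t, t ∈ P.B → t ∈ P.N → n * t * n⁻¹ ∈ P.B := fun n hn t h1 h2 =>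
    P.conj_mem n hn t ⟨h1, h2⟩
  let D : Subgroup K :=
    { carrier := {n | n ∈ P.N ∧ (n ∈ P.B ∨ s⁻¹ * n ∈ P.B)}
      one_mem' := ⟨one_mem _, Or.inl (one_mem _)⟩
      mul_mem' := by
        rintro a b ⟨ha, ha'⟩ ⟨hb, hb'⟩
        refine ⟨mul_mem ha hb, ?_⟩
        rcases ha' with ha' | ha' <;> rcases hb' with hb' | hb'
        · exact Or.inl (mul_mem ha' hb')
        · right
          have h1 := hc s⁻¹ (inv_mem hsN) a ha' ha
          have h2 : s⁻¹ * (a * b) = (s⁻¹ * a * s⁻¹⁻¹) * (s⁻¹ * b) := by group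
          rw [h2]
          exact mul_mem h1 hb'
        · right
          rw [← mul_assoc]
          exact mul_mem ha' hb'
        · left
          have h1 := hc s hsN (s⁻¹ * a) ha' (mul_mem (inv_mem hsN) ha)
          have h2 : a * b = (s * (s⁻¹ * a) * s⁻¹) * ((s * s) * (s⁻¹ * b)) := by group
          rw [h2]
          exact mul_mem h1 (mul_mem hsq hb')
      inv_mem' := by
        rintro a ⟨ha, ha'⟩
        refine ⟨inv_mem ha, ?_⟩
        rcases ha' with ha' | ha'
        · exact Or.inl (inv_mem ha')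
        · right
          have h1 := hc s⁻¹ (inv_mem hsN) (s⁻¹ * a)⁻¹ (inv_mem ha')
            (inv_mem (mul_mem (inv_mem hsN) ha))
          have h2 : s⁻¹ * a⁻¹ = (s⁻¹ * (s⁻¹ * a)⁻¹ * s⁻¹⁻¹) * (s * s)⁻¹ := by group
          rw [h2]
          exact mul_mem h1 (inv_mem hsq) }
  have hND : P.N ≤ D := by
    conv_lhs => rw [← P.closure_sup]
    refine sup_le ?_ fun x hx => ⟨hx.2, Or.inl hx.1⟩
    rw [Subgroup.closure_le, hS]
    rintro _ rfl
    refine ⟨hsN, Or.inr ?_⟩
    rw [inv_mul_cancel]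
    exact one_mem _
  rw [Subgroup.relIndex_dvd_two_iff]
  refine ⟨s⁻¹, inv_mem hsN, fun b hb => ?_⟩
  rcases (hND hb).2 with h1 | h1
  · exact Or.inr ⟨h1, hb⟩
  · left
    have h2 := hc s hsN (s⁻¹ * b) h1 (mul_mem (inv_mem hsN) hb)
    rw [mul_inv_cancel_left] at h2
    exact Subgroup.mem_inf.2 ⟨h2, mul_mem hb (inv_mem hsN)⟩

/-- The groups `²F₄`. -/
theorem goodMono_twF4 {G : Type*} [Group G] [Finite G] [IsSimpleGroup G]
    (hnab : ∃ a b : G, a * b ≠ b * a) (hG : Lie.Iso2F4 G) (hno : NoCompl 2 G) :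
    GoodMono G := by
  have : Fact (Nat.Prime 2) := ⟨Nat.prime_two⟩
  obtain ⟨K, _, _, m, hm, hK, ⟨e⟩⟩ := hG
  obtain ⟨Q, UE, s, t, hs, hS, hW⟩ := H410.TwFFourAS.exists_split hm hK
  have hst : s ≠ t := by
    rintro rfl
    have h1 := relIndex_dvd_two Q (s := s) (by rw [hS]; simp)
    rw [hW] at h1
    omega
  have h' := FixBN.Transport.split e.symm Q hs
  refine goodMono_of_split hnab h' (s := e.symm s) (t := e.symm t) ⟨s, by rw [hS]; simp, rfl⟩
    ⟨t, by rw [hS]; simp, rfl⟩ (fun h1 => hst (e.symm.injective h1)) (fun H => hno.index_ne h' H)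

/-- The rows still needed. -/
structure Rows : Prop where
  alt : ∀ n, 7 ≤ n → GoodMono (alternatingGroup (Fin n))
  psl2 : ∀ (F : Type) [Field F] [Fintype F], 4 ≤ Fintype.card F →
    GoodMono (Matrix.ProjectiveSpecialLinearGroup (Fin 2) F)
  psu3 : ∀ (F : Type) [Field F] [Fintype F] (q : ℕ), Fintype.card F = q ^ 2 → q ≠ 2 →
    GoodMono (PSU 3 F q)
  sz : ∀ {G : Type u} [Group G] [Finite G] [IsSimpleGroup G], Lie.IsoSuzuki G → GoodMono G
  ree : ∀ {G : Type u} [Group G] [Finite G] [IsSimpleGroup G], Lie.IsoRee G → GoodMono G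
  tits : ∀ {G : Type u} [Group G] [Finite G] [IsSimpleGroup G], Lie.IsoTits G → GoodMono G
  spor : ∀ {G : Type u} [Group G] [Finite G] [IsSimpleGroup G], IsSporadicGroup G → GoodMono G
  compl : ∀ {G : Type u} [Group G] [Finite G] [IsSimpleGroup G] (p : ℕ), p.Prime →
    IsLieTypeChar p G → H580.LieFam.Rgd2 p G ∨ (p = 2 ∧ Lie.Iso2F4 G) → NoCompl p G ∨
    (∃ (F : Type) (_ : Field F) (_ : Fintype F), Fintype.card F = 2 ∧
      Nonempty (G ≃* Matrix.ProjectiveSpecialLinearGroup (Fin 3) F)) ∨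
    (∃ (F : Type) (_ : Field F) (_ : Fintype F), Fintype.card F = 2 ∧
      Nonempty (G ≃* Matrix.ProjectiveSpecialLinearGroup (Fin 4) F)) ∨
    (∃ (F : Type) (_ : Field F) (_ : Fintype F), Fintype.card F = 3 ∧ Nonempty (G ≃* PSp 2 F))
  u42 : ∀ (F : Type) [Field F] [Fintype F], Fintype.card F = 4 → NoCompl 2 (PSU 4 F 2)

theorem exists_field {p n : ℕ} (hp : p.Prime) (hn : n ≠ 0) :
    ∃ (F : Type) (_ : Field F) (_ : Fintype F), Fintype.card F = p ^ n := by
  have := Fact.mk hp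
  have : Fintype (GaloisField p n) := Fintype.ofFinite _
  refine ⟨GaloisField p n, inferInstance, inferInstance, ?_⟩
  rw [← Nat.card_eq_fintype_card, GaloisField.card p n hn]

/-- Every nonabelian finite simple group has the row of S4572. -/
theorem goodMono_all (R : Rows.{u}) (S : Type u) [Group S] [Finite S] [IsSimpleGroup S]
    (hnab : ∃ a b : S, a * b ≠ b * a) (hk : IsKnownSimple' S) : GoodMono S := by
  have hc : ¬ IsPrimeCyclic S := by
    intro h1
    have : Fact (Nat.Prime (Nat.card S)) := ⟨h1⟩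
    have h2 : IsCyclic S := isCyclic_of_prime_card (p := Nat.card S) rfl
    obtain ⟨a, b, hab⟩ := hnab
    obtain ⟨g, hg⟩ := h2.exists_generator
    obtain ⟨i, rfl⟩ := hg a
    obtain ⟨j, rfl⟩ := hg b
    exact hab (by simp only [← zpow_add, add_comm])
  have h5 : GoodMono (alternatingGroup (Fin 5)) := by
    obtain ⟨F, _, _, hF⟩ := exists_field (p := 2) (n := 2) Nat.prime_two (by norm_num)
    have hF4 : Fintype.card F = 4 := by rw [hF]; norm_num
    obtain ⟨e⟩ := Cfsg.Agent.S0252.result hF4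
    exact (R.psl2 F (by omega)).congr e
  have h6 : GoodMono (alternatingGroup (Fin 6)) := by
    obtain ⟨F, _, _, hF⟩ := exists_field (p := 3) (n := 2) Nat.prime_three (by norm_num)
    have hF9 : Fintype.card F = 9 := by rw [hF]; norm_num
    obtain ⟨e⟩ := Cfsg.Agent.S0254.result hF9
    exact (R.psl2 F (by omega)).congr e
  have h8 : GoodMono (alternatingGroup (Fin 8)) := R.alt 8 (by norm_num)
  have hcompl : ∀ p : ℕ, p.Prime → IsLieTypeChar p S →
      H580.LieFam.Rgd2 p S ∨ (p = 2 ∧ Lie.Iso2F4 S) → NoCompl p S ∨ GoodMono S := by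
    intro p hp h1 h2
    rcases R.compl p hp h1 h2 with h3 | ⟨F, _, _, hF, ⟨e⟩⟩ | ⟨F, _, _, hF, ⟨e⟩⟩ | ⟨F, _, _, hF, ⟨e⟩⟩
    · exact Or.inl h3
    · right
      obtain ⟨K, _, _, hK⟩ := exists_field (p := 7) (n := 1) (by norm_num) (by norm_num)
      have hK7 : Fintype.card K = 7 := by rw [hK]; norm_num
      obtain ⟨e'⟩ := Cfsg.Agent.S0255.result hK7 hF
      exact (R.psl2 K (by omega)).congr (e'.trans e.symm)
    · right
      obtain ⟨e'⟩ := Cfsg.Agent.S0256.result hF
      exact h8.congr (e'.symm.trans e.symm)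
    · right
      obtain ⟨K, _, _, hK⟩ := exists_field (p := 2) (n := 2) Nat.prime_two (by norm_num)
      have hK4 : Fintype.card K = 4 := by rw [hK]; norm_num
      obtain ⟨e'⟩ := Cfsg.Agent.S0822.result hK4 hF
      have : Fact (Nat.Prime 2) := ⟨Nat.prime_two⟩
      have : CharP K 2 := by
        have h4 : Fintype.card K = 2 ^ 2 := by rw [hK4]; norm_num
        exact charP_of_card_eq_prime_pow h4
      obtain ⟨m, hm, h5⟩ := typ_PSU (F := K) (q := 2) (N := 4) (p := 2) (by rw [hK4]; norm_num)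
        (by norm_num)
      have h6 : HasRGDT 2 (CoxeterMatrix.B m) S := h5.of_equiv (e'.trans e.symm)
      exact goodMono_of_rgd2 Nat.prime_two hnab ⟨m, _, by omega, h6⟩
        ((R.u42 K hK4).of_equiv (e'.trans e.symm))
  rcases H912.Known.known_split hk hc with h | ⟨p, hp, h⟩ | h | h
  · obtain ⟨n, hn, ⟨e⟩⟩ := h
    by_cases h7 : 7 ≤ n
    · exact (R.alt n h7).congr e.symm
    · have h8 : n = 5 ∨ n = 6 := by omega
      rcases h8 with rfl | rfl
      · exact h5.congr e.symm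
      · exact h6.congr e.symm
  · rcases H580.LieFam.lie_cases h with h1 | h1 | h1 | h1 | h1 | h1
    · obtain ⟨F, _, _, _, hF, ⟨e⟩⟩ := h1
      exact (R.psl2 F hF).congr e.symm
    · obtain ⟨F, _, _, _, q, hF, hq, ⟨e⟩⟩ := h1
      exact (R.psu3 F q hF hq).congr e.symm
    · exact R.sz h1.2
    · exact R.ree h1.2
    · rcases hcompl p hp h (Or.inr h1) with h2 | h2
      · obtain ⟨rfl, h1⟩ := h1
        exact goodMono_twF4 hnab h1 h2
      · exact h2
    · rcases hcompl p hp h (Or.inl h1) with h2 | h2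
      · exact goodMono_of_rgd2 hp hnab h1 h2
      · exact h2
  · exact R.tits h
  · exact R.spor h

/-- **S4572 from its rows.** -/
theorem isSolvable_of_rows (R : Rows.{u})
    (hcfsg : ∀ (S : Type u) [Group S] [Finite S] [IsSimpleGroup S], IsKnownSimple' S)
    {G : Type u} [Group G] [Fintype G] (h : EqDeg G) : Group.IsSolvable G :=
  isSolvable_of_eqDeg (fun S _ _ _ hnab => goodMono_all R S hnab (hcfsg S)) _ rfl h

end Cfsg.Agent.H649.MN
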