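import Cfsg.Agent.H649.MonoV

/-!
# Irreducible modules induced from the normaliser of a component; stabilised lines
-/

set_option autoImplicit false

open Cfsg Module Representation
open Cfsg.Agent.Characters.Core

namespace Cfsg.Agent.H649.MN

universe u v

variable {G : Type u} [Group G] {V : Type v} [AddCommGroup V] [Module ℂ V]

/-- The dimension of an internal direct sum. -/
theorem finrank_of_indep {ι : Type*} [Finite ι] [FiniteDimensional ℂ V] {A : ι → Submodule ℂ V}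
    (hi : iSupIndep A) (ht : ⨆ i, A i = ⊤) {d : ℕ} (hd : ∀ i, finrank ℂ (A i) = d) :
    finrank ℂ V = Nat.card ι * d := by
  classical
  have : Fintype ι := Fintype.ofFinite ι
  have h1 : DirectSum.IsInternal A :=
    DirectSum.isInternal_submodule_of_iSupIndep_of_iSup_eq_top hi ht
  have h2 := Module.finrank_eq_card_basis
    (h1.collectedBasis fun i => Module.finBasis ℂ (A i))
  rw [h2, Fintype.card_sigma]
  simp [hd, Nat.card_eq_fintype_card]

/-- The situation: a simple subgroup `S` whose other conjugates centralise it, an irreducible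
module `V`, and a subspace `W` invariant under `N(S)`, centralised by `C(S)` and not by `S`. -/
structure Sit (ρ : Representation ℂ G V) (S : Subgroup G) (W : Submodule ℂ V) : Prop where
  irr : ρ.IsIrreducible
  simple : IsSimpleGroup S
  nab : ∃ a b : S, a * b ≠ b * a
  comm : ∀ g, g ∉ Subgroup.normalizer (S : Set G) → ∀ s ∈ S, ∀ t ∈ S,
    (g * s * g⁻¹) * t = t * (g * s * g⁻¹)
  inv : ∀ g ∈ Subgroup.normalizer (S : Set G), ∀ w ∈ W, ρ g w ∈ W
  triv : ∀ c ∈ Subgroup.centralizer (S : Set G), ∀ w ∈ W, ρ c w = w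
  ne : ∃ s ∈ S, ∃ w ∈ W, ρ s w ≠ w

namespace Sit

variable {ρ : Representation ℂ G V} {S : Subgroup G} {W : Submodule ℂ V}

/-- The translate `g W`. -/
def F (ρ : Representation ℂ G V) (W : Submodule ℂ V) (g : G) : Submodule ℂ V := W.map (ρ g)

theorem mem_F {g : G} {v : V} : v ∈ F ρ W g ↔ ∃ w ∈ W, ρ g w = v := Submodule.mem_map

/-- The sum of the other translates. -/
def X (ρ : Representation ℂ G V) (S : Subgroup G) (W : Submodule ℂ V) (g₀ : G) :
    Submodule ℂ V :=
  ⨆ (g : G) (_ : g₀⁻¹ * g ∉ Subgroup.normalizer (S : Set G)), F ρ W g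

/-- No nonzero vector is fixed by all conjugates of `S`. -/
theorem eq_zero_of_fix (h : Sit ρ S W) {v : V}
    (hv : ∀ g : G, ∀ s ∈ S, ρ (g * s * g⁻¹) v = v) : v = 0 := by
  let T : Subrepresentation ρ :=
    { toSubmodule :=
        { carrier := {x | ∀ g : G, ∀ s ∈ S, ρ (g * s * g⁻¹) x = x}
          add_mem' := by
            intro a b ha hb g s hs
            rw [map_add, ha g s hs, hb g s hs]
          zero_mem' := by
            intro g s hs
            rw [map_zero]
          smul_mem' := by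
            intro c x hx g s hs
            rw [map_smul, hx g s hs] }
      apply_mem_toSubmodule := by
        intro g x hx g' s hs
        have h1 : ρ (g' * s * g'⁻¹) (ρ g x) = ρ g (ρ ((g⁻¹ * g') * s * (g⁻¹ * g')⁻¹) x) := by
          rw [← Module.End.mul_apply, ← Module.End.mul_apply, ← map_mul, ← map_mul]
          congr 2
          group
        rw [h1]
        exact congrArg _ (hx _ s hs) }
  rcases h.irr.eq_bot_or_eq_top T with hT | hT
  · have h1 : v ∈ T.toSubmodule := hv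
    rw [hT] at h1
    exact (Submodule.mem_bot ℂ).mp h1
  · exfalso
    obtain ⟨s, hs, w, hw, hne⟩ := h.ne
    apply hne
    have h1 : w ∈ T.toSubmodule := by
      rw [hT]
      exact Submodule.mem_top
    have h2 := h1 1 s hs
    simpa using h2

/-- A conjugate of `S` acts trivially on the other translates. -/
theorem act (h : Sit ρ S W) {g g' : G} (hg : g⁻¹ * g' ∉ Subgroup.normalizer (S : Set G))
    {s : G} (hs : s ∈ S) {v : V} (hv : v ∈ F ρ W g') : ρ (g * s * g⁻¹) v = v := by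
  obtain ⟨w, hw, rfl⟩ := mem_F.1 hv
  have h1 : ρ (g * s * g⁻¹) (ρ g' w) = ρ g' (ρ ((g'⁻¹ * g) * s * (g'⁻¹ * g)⁻¹) w) := by
    rw [← Module.End.mul_apply, ← Module.End.mul_apply, ← map_mul, ← map_mul]
    congr 2
    group
  rw [h1, h.triv _ _ w hw]
  rw [Subgroup.mem_centralizer_iff]
  intro t ht
  have h2 : g'⁻¹ * g ∉ Subgroup.normalizer (S : Set G) := by
    intro h3
    apply hg
    have h4 := inv_mem h3
    rwa [mul_inv_rev, inv_inv] at h4
  exact (h.comm _ h2 s hs t ht).symm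

theorem act_X (h : Sit ρ S W) {g g₀ : G} (hg : g⁻¹ * g₀ ∈ Subgroup.normalizer (S : Set G))
    {s : G} (hs : s ∈ S) {v : V} (hv : v ∈ X ρ S W g₀) : ρ (g * s * g⁻¹) v = v := by
  have h1 : X ρ S W g₀ ≤ LinearMap.ker (ρ (g * s * g⁻¹) - 1) := by
    refine iSup_le fun g' => iSup_le fun hg' => ?_
    intro x hx
    rw [LinearMap.mem_ker, LinearMap.sub_apply, Module.End.one_apply, sub_eq_zero]
    refine h.act ?_ hs hx
    intro h2
    apply hg'
    have h3 : g₀⁻¹ * g' = (g⁻¹ * g₀)⁻¹ * (g⁻¹ * g') := by group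
    rw [h3]
    exact mul_mem (inv_mem hg) h2
  have h2 := h1 hv
  rwa [LinearMap.mem_ker, LinearMap.sub_apply, Module.End.one_apply, sub_eq_zero] at h2

theorem disj (h : Sit ρ S W) (g₀ : G) : Disjoint (F ρ W g₀) (X ρ S W g₀) := by
  rw [Submodule.disjoint_def]
  intro v h1 h2
  refine h.eq_zero_of_fix fun g s hs => ?_
  by_cases hg : g⁻¹ * g₀ ∈ Subgroup.normalizer (S : Set G)
  · exact h.act_X hg hs h2
  · exact h.act hg hs h1

theorem F_mul (h : Sit ρ S W) (g : G) {i : G} (hi : i ∈ Subgroup.normalizer (S : Set G)) :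
    F ρ W (g * i) = F ρ W g := by
  ext v
  rw [mem_F, mem_F]
  constructor
  · rintro ⟨w, hw, rfl⟩
    exact ⟨ρ i w, h.inv i hi w hw, by rw [map_mul, Module.End.mul_apply]⟩
  · rintro ⟨w, hw, rfl⟩
    refine ⟨ρ i⁻¹ w, h.inv _ (inv_mem hi) w hw, ?_⟩
    rw [← Module.End.mul_apply, ← map_mul, mul_inv_cancel_right]

theorem iSup_F (h : Sit ρ S W) : ⨆ g, F ρ W g = ⊤ := by
  let T : Subrepresentation ρ :=
    { toSubmodule := ⨆ g, F ρ W g
      apply_mem_toSubmodule := by
        intro g x hx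
        have h1 : (⨆ g', F ρ W g') ≤ (⨆ g', F ρ W g').comap (ρ g) := by
          refine iSup_le fun g' => ?_
          intro y hy
          obtain ⟨w, hw, rfl⟩ := mem_F.1 hy
          rw [Submodule.mem_comap]
          refine Submodule.mem_iSup_of_mem (g * g') (mem_F.2 ⟨w, hw, ?_⟩)
          rw [map_mul, Module.End.mul_apply]
        exact h1 hx }
  rcases h.irr.eq_bot_or_eq_top T with hT | hT
  · exfalso
    obtain ⟨s, hs, w, hw, hne⟩ := h.ne
    have h1 : w ∈ T.toSubmodule := Submodule.mem_iSup_of_mem 1 (mem_F.2 ⟨w, hw, by simp⟩)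
    rw [hT] at h1
    have h2 : w = 0 := (Submodule.mem_bot ℂ).mp h1
    apply hne
    rw [h2, map_zero]
  · exact congrArg Subrepresentation.toSubmodule hT

/-- **The dimension formula.** -/
theorem finrank_eq [Finite G] [FiniteDimensional ℂ V] (h : Sit ρ S W) :
    finrank ℂ V = (Subgroup.normalizer (S : Set G)).index * finrank ℂ W := by
  have h0 : ∀ g : G, ∃ i ∈ Subgroup.normalizer (S : Set G),
      g = ((g : G ⧸ Subgroup.normalizer (S : Set G)).out : G) * i := by
    intro g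
    refine ⟨((g : G ⧸ Subgroup.normalizer (S : Set G)).out)⁻¹ * g, ?_, by group⟩
    rw [← QuotientGroup.eq, QuotientGroup.out_eq']
  refine finrank_of_indep (ι := G ⧸ Subgroup.normalizer (S : Set G))
    (A := fun q => F ρ W q.out) ?_ ?_ ?_
  · intro q
    refine (h.disj q.out).mono_right (iSup_le fun q' => iSup_le fun hq' => ?_)
    refine le_iSup₂_of_le (q'.out) ?_ le_rfl
    intro h1
    apply hq'
    rw [← QuotientGroup.eq, QuotientGroup.out_eq', QuotientGroup.out_eq'] at h1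
    exact h1.symm
  · rw [eq_top_iff, ← h.iSup_F]
    refine iSup_le fun g => ?_
    obtain ⟨i, hi, hg⟩ := h0 g
    conv_lhs => rw [hg]
    rw [h.F_mul _ hi]
    exact le_iSup (fun q : G ⧸ Subgroup.normalizer (S : Set G) => F ρ W q.out) _
  · intro q
    have hinj : Function.Injective (ρ q.out) := by
      intro x y hxy
      have h1 := congrArg (ρ (q.out)⁻¹) hxy
      rw [← Module.End.mul_apply, ← Module.End.mul_apply, ← map_mul, inv_mul_cancel, map_one] at h1
      exact h1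
    exact (Submodule.equivMapOfInjective (ρ q.out) hinj W).finrank_eq.symm

theorem F_one : F ρ W 1 = W := by
  ext v
  rw [mem_F]
  constructor
  · rintro ⟨w, hw, rfl⟩
    rwa [map_one, Module.End.one_apply]
  · intro hv
    exact ⟨v, hv, by rw [map_one, Module.End.one_apply]⟩

theorem sup_eq_top (h : Sit ρ S W) : W ⊔ X ρ S W 1 = ⊤ := by
  rw [eq_top_iff, ← h.iSup_F]
  refine iSup_le fun g => ?_
  by_cases hg : g ∈ Subgroup.normalizer (S : Set G)
  · have h1 := h.F_mul 1 hg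
    rw [one_mul, F_one] at h1
    rw [h1]
    exact le_sup_left
  · refine le_trans ?_ le_sup_right
    exact le_iSup₂_of_le g (by rwa [inv_one, one_mul]) le_rfl

theorem X_inv {i : G} (hi : i ∈ Subgroup.normalizer (S : Set G)) {v : V}
    (hv : v ∈ X ρ S W 1) : ρ i v ∈ X ρ S W 1 := by
  have h1 : X ρ S W 1 ≤ (X ρ S W 1).comap (ρ i) := by
    refine iSup_le fun g => iSup_le fun hg => ?_
    intro y hy
    obtain ⟨w, hw, rfl⟩ := mem_F.1 hy
    rw [Submodule.mem_comap]
    refine Submodule.mem_iSup_of_mem (i * g) (Submodule.mem_iSup_of_mem ?_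
      (mem_F.2 ⟨w, hw, ?_⟩))
    · intro h2
      apply hg
      rw [inv_one, one_mul] at h2 ⊢
      have h3 := mul_mem (inv_mem hi) h2
      rwa [inv_mul_cancel_left] at h3
    · rw [map_mul, Module.End.mul_apply]
  exact h1 hv

/-- Elements of distinct conjugates of `S`. -/
theorem rel (h : Sit ρ S W) {g₁ g₂ : G} (hg : g₁⁻¹ * g₂ ∉ Subgroup.normalizer (S : Set G))
    {s t : G} (hs : s ∈ S) (ht : t ∈ S) (v : V) :
    ρ ((g₁ * s * g₁⁻¹) * (g₂ * t * g₂⁻¹)) v =
      ρ (g₁ * s * g₁⁻¹) v + ρ (g₂ * t * g₂⁻¹) v - v := by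
  have hg' : g₂⁻¹ * g₁ ∉ Subgroup.normalizer (S : Set G) := by
    intro h1
    apply hg
    have h2 := inv_mem h1
    rwa [mul_inv_rev, inv_inv] at h2
  have hc : (g₁ * s * g₁⁻¹) * (g₂ * t * g₂⁻¹) = (g₂ * t * g₂⁻¹) * (g₁ * s * g₁⁻¹) := by
    have h1 := h.comm _ hg' s hs t ht
    have h2 := congrArg (fun z => g₂ * z * g₂⁻¹) h1
    simp only [mul_inv_rev, inv_inv] at h2
    calc _ = g₂ * (g₂⁻¹ * g₁ * s * (g₁⁻¹ * g₂) * t) * g₂⁻¹ := by group
      _ = g₂ * (t * (g₂⁻¹ * g₁ * s * (g₁⁻¹ * g₂))) * g₂⁻¹ := h2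
      _ = _ := by group
  have h1 : (⊤ : Submodule ℂ V) ≤ LinearMap.ker (ρ ((g₁ * s * g₁⁻¹) * (g₂ * t * g₂⁻¹)) -
      (ρ (g₁ * s * g₁⁻¹) + ρ (g₂ * t * g₂⁻¹) - 1)) := by
    rw [← h.iSup_F]
    refine iSup_le fun g => ?_
    intro y hy
    rw [LinearMap.mem_ker, LinearMap.sub_apply, LinearMap.sub_apply, LinearMap.add_apply,
      Module.End.one_apply, sub_eq_zero]
    by_cases h2 : g₁⁻¹ * g ∈ Subgroup.normalizer (S : Set G)
    · have h3 : g₂⁻¹ * g ∉ Subgroup.normalizer (S : Set G) := by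
        intro h4
        apply hg
        have h5 := mul_mem h2 (inv_mem h4)
        have h6 : g₁⁻¹ * g * (g₂⁻¹ * g)⁻¹ = g₁⁻¹ * g₂ := by group
        rwa [h6] at h5
      rw [map_mul, Module.End.mul_apply, h.act h3 ht hy, add_sub_cancel_right]
    · rw [hc, map_mul, Module.End.mul_apply, h.act h2 hs hy, add_sub_cancel_left]
  have h2 := h1 (Submodule.mem_top (x := v))
  rwa [LinearMap.mem_ker, LinearMap.sub_apply, LinearMap.sub_apply, LinearMap.add_apply,
      Module.End.one_apply, sub_eq_zero] at h2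

/-- A conjugate of `S` stabilising a line acts trivially on it. -/
theorem fix_of_line (h : Sit ρ S W) {v : V} (hv : v ≠ 0) {g : G}
    (hl : ∀ s ∈ S, ∃ c : ℂ, ρ (g * s * g⁻¹) v = c • v) {s : G} (hs : s ∈ S) :
    ρ (g * s * g⁻¹) v = v := by
  have := h.simple
  have hl' : ∀ s ∈ S, ∃ c : ℂ, (pull ρ (MulAut.conj g).toMonoidHom) s v = c • v := by
    intro s hs
    exact hl s hs
  obtain ⟨lam, hlam⟩ := Cfsg.Agent.Characters.MonomialVec.exists_hom_of_eigenvector _ S hv hl'
  have hk : lam.ker = ⊤ := by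
    rcases (inferInstance : lam.ker.Normal).eq_bot_or_eq_top with hb | ht
    · exfalso
      obtain ⟨a, b, hab⟩ := h.nab
      apply hab
      apply (MonoidHom.ker_eq_bot_iff lam).1 hb
      rw [map_mul, map_mul, mul_comm]
    · exact ht
  have h1 := hlam ⟨s, hs⟩
  have h2 : lam ⟨s, hs⟩ = 1 := by
    rw [← MonoidHom.mem_ker, hk]
    exact Subgroup.mem_top _
  rw [h2, Units.val_one, one_smul] at h1
  exact h1

end Sit

/-- The translates of a stabilised line along the cosets are independent. -/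
theorem indep_of_line [Finite G] [FiniteDimensional ℂ V] {ρ : Representation ℂ G V}
    (hρ : ρ.IsIrreducible) {v : V} {H : Subgroup G} (hv : v ≠ 0)
    (hH : ∀ h ∈ H, ∃ c : ℂ, ρ h v = c • v) (hi : H.index ≤ finrank ℂ V) :
    LinearIndependent ℂ (fun q : G ⧸ H => ρ q.out v) := by
  classical
  have : Fintype (G ⧸ H) := Fintype.ofFinite _
  let b : G ⧸ H → V := fun q => ρ q.out v
  have hx : ∀ x : G, ∃ c : ℂ, ρ x v = c • b (x : G ⧸ H) := by
    intro x
    have h1 : ((x : G ⧸ H).out)⁻¹ * x ∈ H := by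
      rw [← QuotientGroup.eq, QuotientGroup.out_eq']
    obtain ⟨c, hc⟩ := hH _ h1
    refine ⟨c, ?_⟩
    have h2 : x = (x : G ⧸ H).out * (((x : G ⧸ H).out)⁻¹ * x) := by group
    conv_lhs => rw [h2, map_mul, Module.End.mul_apply, hc, map_smul]
  have hspan : Submodule.span ℂ (Set.range b) = ⊤ := by
    let S : Subrepresentation ρ :=
      { toSubmodule := Submodule.span ℂ (Set.range b)
        apply_mem_toSubmodule := by
          intro g w hw
          refine Submodule.span_induction (p := fun w _ => ρ g w ∈ Submodule.span ℂ (Set.range b))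
            ?_ ?_ ?_ ?_ hw
          · rintro _ ⟨q, rfl⟩
            obtain ⟨c, hc⟩ := hx (g * q.out)
            have : ρ g (b q) = c • b ((g * q.out : G) : G ⧸ H) := by
              rw [← hc, map_mul, Module.End.mul_apply]
            rw [this]
            exact Submodule.smul_mem _ _ (Submodule.subset_span ⟨_, rfl⟩)
          · simp
          · intro x y _ _ hx hy
            rw [map_add]
            exact Submodule.add_mem _ hx hy
          · intro a x _ hx
            rw [map_smul]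
            exact Submodule.smul_mem _ _ hx }
    rcases hρ.eq_bot_or_eq_top S with hS | hS
    · exfalso
      apply hv
      have hvS : v ∈ S.toSubmodule := by
        obtain ⟨c, hc⟩ := hx 1
        rw [map_one, Module.End.one_apply] at hc
        rw [hc]
        exact Submodule.smul_mem _ _ (Submodule.subset_span ⟨_, rfl⟩)
      rw [hS] at hvS
      exact (Submodule.mem_bot ℂ).mp hvS
    · exact congrArg Subrepresentation.toSubmodule hS
  have hcard : Fintype.card (G ⧸ H) = finrank ℂ V := by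
    have h1 : finrank ℂ V ≤ Fintype.card (G ⧸ H) := by
      have := finrank_range_le_card (R := ℂ) b
      rw [Set.finrank, hspan, finrank_top] at this
      exact this
    refine le_antisymm ?_ h1
    rw [← Nat.card_eq_fintype_card]
    exact hi
  exact linearIndependent_of_top_le_span_of_card_eq_finrank hspan.ge hcard

/-- If `x v + y v - v = x y v` with `x, y` outside `H`, then `x y` lies in `H`. -/
theorem mem_of_rel [Finite G] [FiniteDimensional ℂ V] {ρ : Representation ℂ G V}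
    (hρ : ρ.IsIrreducible) {v : V} {H : Subgroup G} (hv : v ≠ 0)
    (hH : ∀ h ∈ H, ∃ c : ℂ, ρ h v = c • v) (hi : H.index ≤ finrank ℂ V) {x y : G} (hx : x ∉ H)
    (hy : y ∉ H) (hr : ρ (x * y) v = ρ x v + ρ y v - v) : x * y ∈ H := by
  classical
  by_contra hxy
  have hb := indep_of_line hρ hv hH hi
  have hc : ∀ z : G, ∃ c : ℂ, ρ z v = c • ρ (z : G ⧸ H).out v := by
    intro x
    have h1 : ((x : G ⧸ H).out)⁻¹ * x ∈ H := by
      rw [← QuotientGroup.eq, QuotientGroup.out_eq']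
    obtain ⟨c, hc⟩ := hH _ h1
    refine ⟨c, ?_⟩
    have h2 : x = (x : G ⧸ H).out * (((x : G ⧸ H).out)⁻¹ * x) := by group
    conv_lhs => rw [h2, map_mul, Module.End.mul_apply, hc, map_smul]
  let q₀ : G ⧸ H := ((1 : G) : G ⧸ H)
  have h1 : ∀ z : G, z ∉ H → ρ z v ∈
      Submodule.span ℂ ((fun q : G ⧸ H => ρ q.out v) '' {q | q ≠ q₀}) := by
    intro z hz
    obtain ⟨c, hc⟩ := hc z
    rw [hc]
    refine Submodule.smul_mem _ _ (Submodule.subset_span ⟨(z : G ⧸ H), ?_, rfl⟩)
    intro h2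
    apply hz
    have h3 : ((1 : G) : G ⧸ H) = (z : G ⧸ H) := h2.symm
    rw [QuotientGroup.eq, inv_one, one_mul] at h3
    exact h3
  have h2 : v ∈ Submodule.span ℂ ((fun q : G ⧸ H => ρ q.out v) '' {q | q ≠ q₀}) := by
    have h3 : v = ρ x v + ρ y v - ρ (x * y) v := by
      rw [hr]
      abel
    have h4 := Submodule.sub_mem _ (Submodule.add_mem _ (h1 x hx) (h1 y hy)) (h1 _ hxy)
    rwa [← h3] at h4
  have h3 : ρ q₀.out v ∉ Submodule.span ℂ ((fun q : G ⧸ H => ρ q.out v) '' {q | q ≠ q₀}) :=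
    hb.notMem_span_image (s := {q | q ≠ q₀}) (x := q₀) (fun h => h rfl)
  obtain ⟨c, hc1⟩ := hc 1
  rw [map_one, Module.End.one_apply] at hc1
  have hc0 : c ≠ 0 := by
    rintro rfl
    rw [zero_smul] at hc1
    exact hv hc1
  apply h3
  have h4 : ρ q₀.out v = c⁻¹ • v := by
    have h5 : c⁻¹ • v = c⁻¹ • c • ρ q₀.out v := congrArg (fun z => c⁻¹ • z) hc1
    rw [h5, smul_smul, inv_mul_cancel₀ hc0, one_smul]
  rw [h4]
  exact Submodule.smul_mem _ _ h2

namespace Sit

variable {ρ : Representation ℂ G V} {S : Subgroup G} {W : Submodule ℂ V}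

/-- At most one conjugate of `S` is outside `H`. -/
theorem le_or_le [Finite G] [FiniteDimensional ℂ V] (h : Sit ρ S W) {v : V} {H : Subgroup G}
    (hv : v ≠ 0) (hH : ∀ h ∈ H, ∃ c : ℂ, ρ h v = c • v) (hi : H.index ≤ finrank ℂ V) {g₁ g₂ : G}
    (hg : g₁⁻¹ * g₂ ∉ Subgroup.normalizer (S : Set G)) {s₁ : G} (hs₁ : s₁ ∈ S)
    (h1 : g₁ * s₁ * g₁⁻¹ ∉ H) {t : G} (ht : t ∈ S) : g₂ * t * g₂⁻¹ ∈ H := by
  by_contra h2
  have key : ∀ s ∈ S, g₁ * s * g₁⁻¹ ∉ H → (g₁ * s * g₁⁻¹) * (g₂ * t * g₂⁻¹) ∈ H := by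
    intro s hs h3
    exact mem_of_rel h.irr hv hH hi h3 h2 (h.rel hg hs ht v)
  have key2 : ∀ a ∈ S, ∀ b ∈ S, g₁ * a * g₁⁻¹ ∉ H → g₁ * b * g₁⁻¹ ∉ H →
      g₁ * (a * b⁻¹) * g₁⁻¹ ∈ H := by
    intro a ha b hb h3 h4
    have h5 := mul_mem (key a ha h3) (inv_mem (key b hb h4))
    have h6 : g₁ * a * g₁⁻¹ * (g₂ * t * g₂⁻¹) * (g₁ * b * g₁⁻¹ * (g₂ * t * g₂⁻¹))⁻¹ =
        g₁ * (a * b⁻¹) * g₁⁻¹ := by group
    rwa [h6] at h5
  have := h.simple
  let K : Subgroup S := (H.comap (MulAut.conj g₁).toMonoidHom).subgroupOf S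
  have hK : ∀ a : S, a ∈ K ↔ g₁ * (a : G) * g₁⁻¹ ∈ H := by
    intro a
    rw [Subgroup.mem_subgroupOf, Subgroup.mem_comap]
    rfl
  have key3 : ∀ a b : S, a ∉ K → b ∉ K → a * b⁻¹ ∈ K := by
    intro a b ha hb
    rw [hK] at ha hb ⊢
    exact key2 a a.2 b b.2 ha hb
  have hn : K.Normal := by
    constructor
    intro k hk x
    by_cases hx : x ∈ K
    · exact mul_mem (mul_mem hx hk) (inv_mem hx)
    · refine key3 (x * k) x ?_ hx
      intro h3
      apply hx
      have h4 := mul_mem h3 (inv_mem hk)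
      rwa [mul_inv_cancel_right] at h4
  have hs₁K : (⟨s₁, hs₁⟩ : S) ∉ K := by
    rw [hK]
    exact h1
  rcases hn.eq_bot_or_eq_top with hb | ht
  · obtain ⟨a, b, hab⟩ := h.nab
    apply hab
    by_cases ha : a ∈ K
    · rw [hb, Subgroup.mem_bot] at ha
      rw [ha, one_mul, mul_one]
    by_cases hb' : b ∈ K
    · rw [hb, Subgroup.mem_bot] at hb'
      rw [hb', one_mul, mul_one]
    have h3 := key3 a b ha hb'
    rw [hb, Subgroup.mem_bot, mul_inv_eq_one] at h3
    rw [h3]
  · apply hs₁K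
    rw [ht]
    exact Subgroup.mem_top _

/-- **Descent of stabilised lines to `W`.** -/
theorem exists_line [Finite G] [FiniteDimensional ℂ V] (h : Sit ρ S W) (hm : MonoV ρ) :
    ∃ (w : V) (H : Subgroup G), w ∈ W ∧ w ≠ 0 ∧ H ≤ Subgroup.normalizer (S : Set G) ∧
      (∀ x ∈ H, ∃ c : ℂ, ρ x w = c • w) ∧
      H.relIndex (Subgroup.normalizer (S : Set G)) ≤ finrank ℂ W := by
  obtain ⟨v, H, hv, hH, hi⟩ := hm
  -- some conjugate of `S` is not in `H`
  obtain ⟨g₀, s₀, hs₀, hg₀⟩ : ∃ g₀ : G, ∃ s ∈ S, g₀ * s * g₀⁻¹ ∉ H := by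
    by_contra hcon
    push Not at hcon
    exact hv (h.eq_zero_of_fix fun g s hs => h.fix_of_line hv (fun s hs => hH _ (hcon g s hs)) hs)
  -- conjugate
  let H' : Subgroup G := H.comap (MulAut.conj g₀).toMonoidHom
  have hH'mem : ∀ x : G, x ∈ H' ↔ g₀ * x * g₀⁻¹ ∈ H := fun x => Iff.rfl
  have hv' : ρ g₀⁻¹ v ≠ 0 := by
    intro h1
    apply hv
    have h2 := congrArg (ρ g₀) h1
    rwa [← Module.End.mul_apply, ← map_mul, mul_inv_cancel, map_one, Module.End.one_apply,
      map_zero] at h2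
  have hH' : ∀ x ∈ H', ∃ c : ℂ, ρ x (ρ g₀⁻¹ v) = c • ρ g₀⁻¹ v := by
    intro x hx
    obtain ⟨c, hc⟩ := hH _ ((hH'mem x).1 hx)
    refine ⟨c, ?_⟩
    rw [← map_smul, ← hc, ← Module.End.mul_apply, ← map_mul, ← Module.End.mul_apply, ← map_mul]
    congr 2
    group
  have hi' : H'.index = H.index :=
    Subgroup.index_comap_of_surjective _ (MulAut.conj g₀).surjective
  have hS0 : (s₀ : G) ∉ H' := hg₀
  have hSg : ∀ g, g ∉ Subgroup.normalizer (S : Set G) → ∀ s ∈ S, g * s * g⁻¹ ∈ H' := by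
    intro g hg s hs
    refine h.le_or_le hv' hH' (hi'.le.trans hi) (g₁ := 1) (g₂ := g) (by rwa [inv_one, one_mul])
      hs₀ ?_ hs
    rwa [one_mul, inv_one, mul_one]
  have hle : H' ≤ Subgroup.normalizer (S : Set G) := by
    intro x hx
    by_contra hx1
    have h1 : x⁻¹ ∉ Subgroup.normalizer (S : Set G) := fun h2 => hx1 (by simpa using inv_mem h2)
    apply hS0
    have h2 := hSg x hx1 s₀ hs₀
    have h3 := mul_mem (mul_mem (inv_mem hx) h2) hx
    have h4 : x⁻¹ * (x * s₀ * x⁻¹) * x = s₀ := by group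
    rwa [h4] at h3
  have hfix : ∀ g, g ∉ Subgroup.normalizer (S : Set G) → ∀ s ∈ S,
      ρ (g * s * g⁻¹) (ρ g₀⁻¹ v) = ρ g₀⁻¹ v := by
    intro g hg s hs
    exact h.fix_of_line hv' (fun s hs => hH' _ (hSg g hg s hs)) hs
  obtain ⟨w, hw, w', hw', hww⟩ : ∃ w ∈ W, ∃ w' ∈ X ρ S W 1, w + w' = ρ g₀⁻¹ v := by
    have h1 : ρ g₀⁻¹ v ∈ W ⊔ X ρ S W 1 := by
      rw [h.sup_eq_top]
      exact Submodule.mem_top
    exact Submodule.mem_sup.1 h1
  have hdis : Disjoint W (X ρ S W 1) := by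
    have h1 := h.disj 1
    rwa [F_one] at h1
  refine ⟨w, H', hw, ?_, hle, ?_, ?_⟩
  · rintro rfl
    rw [zero_add] at hww
    apply hv'
    refine h.eq_zero_of_fix fun g s hs => ?_
    by_cases hg : g ∈ Subgroup.normalizer (S : Set G)
    · refine h.act_X (g₀ := 1) ?_ hs (hww ▸ hw')
      rw [mul_one]
      exact inv_mem hg
    · exact hfix g hg s hs
  · intro x hx
    obtain ⟨c, hc⟩ := hH' x hx
    refine ⟨c, ?_⟩
    rw [← hww, map_add, smul_add] at hc
    have h1 : ρ x w - c • w ∈ W := Submodule.sub_mem _ (h.inv x (hle hx) w hw)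
      (Submodule.smul_mem _ _ hw)
    have h2 : ρ x w - c • w ∈ X ρ S W 1 := by
      have h3 : ρ x w - c • w = c • w' - ρ x w' := by
        rw [sub_eq_sub_iff_add_eq_add, hc]
        abel
      rw [h3]
      exact Submodule.sub_mem _ (Submodule.smul_mem _ _ hw') (X_inv (hle hx) hw')
    exact sub_eq_zero.1 (Submodule.disjoint_def.1 hdis _ h1 h2)
  · have h1 : H'.relIndex (Subgroup.normalizer (S : Set G)) *
        (Subgroup.normalizer (S : Set G)).index = H'.index :=
      Subgroup.relIndex_mul_index hle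
    rw [hi'] at h1
    rw [h.finrank_eq] at hi
    have h2 : 0 < (Subgroup.normalizer (S : Set G)).index :=
      Nat.pos_of_ne_zero Subgroup.index_ne_zero_of_finite
    rw [← h1, mul_comm] at hi
    exact Nat.le_of_mul_le_mul_left hi h2

end Sit

end Cfsg.Agent.H649.MN
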