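import Cfsg.Agent.H649.MonoGeo

/-!
# Lifting non-monomial characters from the almost simple section
-/

set_option autoImplicit false

open Cfsg Module Representation
open Cfsg.Agent.Characters.Core

namespace Cfsg.Agent.H649.MN

universe u v

/-- A nonzero character has an irreducible constituent. -/
theorem exists_constituent {G : Type*} [Group G] [Fintype G] {φ : G → ℂ} (hφ : IsCharacter G φ)
    (h0 : φ ≠ 0) : ∃ χ : G → ℂ, IsIrrCharacter G χ ∧ classInner φ χ ≠ 0 := by
  by_contra hcon
  push Not at hcon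
  exact h0 (classFunction_eq_zero (isCharacter_isClassFunction hφ) hcon)

/-- **Lifting.** -/
theorem exists_lift {G : Type*} [Group G] [Fintype G] {S I : Subgroup G} (hS : IsSimpleGroup S)
    (hI : Subgroup.normalizer (S : Set G) = I)
    (hnab : ∃ a b : S, a * b ≠ b * a)
    (hcomm : ∀ g, g ∉ I → ∀ s ∈ S, ∀ t ∈ S, (g * s * g⁻¹) * t = t * (g * s * g⁻¹))
    {A : Type*} [Group A] [Fintype A] (π : I →* A)
    (hπ : Function.Surjective π)
    (hk : ∀ x : I, (x : G) ∈ Subgroup.centralizer (S : Set G) → π x = 1)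
    {χ₀ : A → ℂ} (hχ₀ : IsIrrCharacter A χ₀) (hnm : ¬ Mono A χ₀)
    (hnt : ∃ (s : I), (s : G) ∈ S ∧ χ₀ (π s) ≠ χ₀ 1) :
    ∃ χ : G → ℂ, IsIrrCharacter G χ ∧ ¬ Mono G χ ∧ χ 1 = (I.index : ℂ) * χ₀ 1 := by
  classical
  have : Fintype I := Fintype.ofFinite I
  have hψ := isIrr_comp π hπ hχ₀
  obtain ⟨n, σ, hσ, rfl⟩ := hχ₀
  have hτc : (pull σ π).character = σ.character ∘ π := rfl
  have hτ : (pull σ π).IsIrreducible := isIrreducible_of_isIrrCharacter _ (hτc ▸ hψ)
  -- an irreducible character of `G` above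
  have h1 : IsCharacter G (indFun I (σ.character ∘ π)) :=
    Cfsg.Agent.Characters.Brauer.isCharacter_indFun I (isIrr_isCharacter hψ)
  have h2 : indFun I (σ.character ∘ π) ≠ 0 := by
    intro h0
    have h3 := indFun_one I (σ.character ∘ π)
    rw [h0] at h3
    have h4 : (σ.character ∘ π) 1 ≠ 0 := isIrr_apply_one_ne_zero hψ
    have h5 : (I.index : ℂ) ≠ 0 := Nat.cast_ne_zero.2 Subgroup.index_ne_zero_of_finite
    exact mul_ne_zero h5 h4 h3.symm
  obtain ⟨χ, hχ, h3⟩ := exists_constituent h1 h2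
  rw [Cfsg.Agent.Characters.Brauer.classInner_indFun I _ _ χ (isIrr_isClassFunction hχ)] at h3
  obtain ⟨m, ρ, hρ, rfl⟩ := hχ
  have h4 : classInner (pull ρ I.subtype).character (pull σ π).character ≠ 0 := by
    intro h0
    apply h3
    rw [← classInner_conj_symm]
    have h5 : (fun h : I => ρ.character h) = (pull ρ I.subtype).character := rfl
    rw [h5, ← hτc, h0, map_zero]
  rw [classInner_character] at h4
  have h5 : Nontrivial (IntertwiningMap (pull σ π) (pull ρ I.subtype)) :=
    Module.nontrivial_of_finrank_pos (R := ℂ) (Nat.pos_of_ne_zero fun h0 => h4 (by rw [h0]; simp))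
  obtain ⟨f, hf⟩ := exists_ne (0 : IntertwiningMap (pull σ π) (pull ρ I.subtype))
  have hinj : Function.Injective f.toLinearMap := by
    have := hτ
    rcases IsIrreducible.injective_or_eq_zero f with h6 | h6
    · exact h6
    · exact absurd h6 hf
  have hfx : ∀ (x : I) (w : Fin n → ℂ), ρ (x : G) (f.toLinearMap w) = f.toLinearMap (σ (π x) w) := by
    intro x w
    exact (LinearMap.congr_fun (f.isIntertwining' x) w).symm
  have hsit : Sit ρ S (LinearMap.range f.toLinearMap) := by
    refine ⟨hρ, hS, hnab, hI ▸ hcomm, ?_, ?_, ?_⟩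
    · rintro g hg _ ⟨w, rfl⟩
      rw [hI] at hg
      exact ⟨σ (π ⟨g, hg⟩) w, (hfx ⟨g, hg⟩ w).symm⟩
    · rintro c hc _ ⟨w, rfl⟩
      have hcI : c ∈ I := hI ▸ Subgroup.centralizer_le_normalizer _ hc
      have h6 := hfx ⟨c, hcI⟩ w
      rw [hk ⟨c, hcI⟩ hc, map_one, Module.End.one_apply] at h6
      exact h6
    · obtain ⟨s, hs, hne⟩ := hnt
      by_contra hcon
      push Not at hcon
      apply hne
      have h6 : σ (π s) = 1 := by
        refine LinearMap.ext fun w => ?_
        apply hinj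
        rw [← hfx, Module.End.one_apply]
        exact hcon s hs _ ⟨w, rfl⟩
      show LinearMap.trace ℂ _ (σ _) = LinearMap.trace ℂ _ (σ 1)
      rw [h6, map_one σ]
  have hW : finrank ℂ (LinearMap.range f.toLinearMap) = n := by
    rw [LinearMap.finrank_range_of_inj hinj, Module.finrank_fintype_fun_eq_card, Fintype.card_fin]
  refine ⟨ρ.character, isIrrCharacter_of_rep ρ hρ, ?_, ?_⟩
  · intro hmono
    apply hnm
    apply mono_of_monoV hσ
    apply monoV_of_comp hπ
    obtain ⟨w, H, hw, hw0, hHI, hl, hi⟩ := hsit.exists_line (monoV_of_mono hρ hmono)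
    rw [hI] at hi
    obtain ⟨w₀, rfl⟩ := hw
    refine ⟨w₀, H.subgroupOf I, ?_, ?_, ?_⟩
    · rintro rfl
      exact hw0 (map_zero _)
    · intro x hx
      obtain ⟨c, hc⟩ := hl x hx
      refine ⟨c, hinj ?_⟩
      rw [map_smul, ← hc, hfx]
      rfl
    · rw [Module.finrank_fintype_fun_eq_card, Fintype.card_fin]
      rw [hW] at hi
      exact hi
  · rw [Representation.char_one, hsit.finrank_eq, hI, hW, Representation.char_one,
      Module.finrank_fintype_fun_eq_card, Fintype.card_fin]
    push_cast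
    rfl

end Cfsg.Agent.H649.MN
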