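import Cfsg.Agent.H649.MonoMin
import Cfsg.Agent.H649.MonoGeo
import Cfsg.Agent.H691.StExt
import Cfsg.Agent.H690.LieMix
import Cfsg.Agent.H612.CharTwo
import Cfsg.Agent.S3910
import Cfsg.Agent.FixBN.Transport
import Cfsg.Agent.Characters.Values
import Cfsg.Agent.S0142
import Cfsg.Agent.S0887

/-!
# Groups with a split (B,N)-pair of rank at least two: the row of S4572
-/

set_option autoImplicit false

open Cfsg Cfsg.Agent.Characters.Core Module Representation
open Cfsg.Agent.Blocks.Basic (irr_one_eq_charDegree charDegree_pos)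
open Cfsg.Agent.FixBN Cfsg.Agent.Schreier.BNSch

namespace Cfsg.Agent.H649.MN

/-- A nonabelian simple group has no nontrivial linear character. -/
theorem lin_eq_one {T : Type*} [Group T] [IsSimpleGroup T] (h : ∃ a b : T, a * b ≠ b * a)
    {M : Type*} [CommGroup M] (f : T →* M) : f = 1 := by
  rcases (inferInstance : f.ker.Normal).eq_bot_or_eq_top with hb | ht
  · exfalso
    obtain ⟨a, b, hab⟩ := h
    apply hab
    apply (MonoidHom.ker_eq_bot_iff f).1 hb
    rw [map_mul, map_mul, mul_comm]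
  · ext x
    have h1 : x ∈ f.ker := by rw [ht]; exact Subgroup.mem_top _
    rw [MonoidHom.mem_ker.1 h1]
    rfl

theorem center_eq_bot {T : Type*} [Group T] [IsSimpleGroup T] (hnab : ∃ a b : T, a * b ≠ b * a) :
    Subgroup.center T = ⊥ := by
  rcases (inferInstance : (Subgroup.center T).Normal).eq_bot_or_eq_top with h | h
  · exact h
  · exfalso
    obtain ⟨a, b, hab⟩ := hnab
    apply hab
    have h1 : a ∈ Subgroup.center T := by rw [h]; exact Subgroup.mem_top _
    exact (Subgroup.mem_center_iff.1 h1 b).symm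

/-- In a nonabelian simple group `|θ(z)| < θ(1)` for `z ≠ 1`, `θ ≠ 1` irreducible. -/
theorem norm_ne {T : Type*} [Group T] [Finite T] [IsSimpleGroup T] (hnab : ∃ a b : T, a * b ≠ b * a)
    {n : ℕ} {ρ : Representation ℂ T (Fin n → ℂ)} (hρ : ρ.IsIrreducible) (h1 : ρ.character ≠ 1)
    {z : T} (hz : z ≠ 1) : ‖ρ.character z‖ ≠ (finrank ℂ (Fin n → ℂ) : ℝ) := by
  intro hn
  obtain ⟨w, hw⟩ := (Cfsg.Agent.Characters.Values.norm_character_eq_iff ρ z).1 hn
  have hcomm : ∀ s : T, ρ (z * s * z⁻¹ * s⁻¹) = 1 := by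
    intro s
    have hz' : ρ z * ρ s = ρ s * ρ z := by
      rw [hw]
      ext v
      simp
    have h2 : ρ (z * s) = ρ (s * z) := by rw [map_mul, map_mul, hz']
    calc ρ (z * s * z⁻¹ * s⁻¹) = ρ (z * s) * ρ (z⁻¹ * s⁻¹) := by rw [← map_mul]; congr 1; group
      _ = ρ (s * z) * ρ (z⁻¹ * s⁻¹) := by rw [h2]
      _ = ρ (s * z * (z⁻¹ * s⁻¹)) := (map_mul ρ _ _).symm
      _ = 1 := by rw [← map_one ρ]; congr 1; group
  let f : T →* ((Fin n → ℂ) →ₗ[ℂ] (Fin n → ℂ)) := ρ
  rcases (MonoidHom.normal_ker f).eq_bot_or_eq_top with h3 | h3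
  · apply hz
    have h4 : z ∈ Subgroup.center T := by
      rw [Subgroup.mem_center_iff]
      intro y
      have h5 : (z * y * z⁻¹ * y⁻¹ : T) ∈ f.ker := by
        rw [MonoidHom.mem_ker]
        exact hcomm y
      rw [h3, Subgroup.mem_bot, mul_inv_eq_one, mul_inv_eq_iff_eq_mul] at h5
      exact h5.symm
    rw [center_eq_bot hnab, Subgroup.mem_bot] at h4
    exact h4
  · -- everything acts trivially
    have h4 : ∀ y, ρ y = 1 := by
      intro y
      have h5 : y ∈ f.ker := by rw [h3]; exact Subgroup.mem_top _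
      exact h5
    apply h1
    have hirr := isIrrCharacter_of_rep ρ hρ
    have h5 : ρ.character = (ρ.character 1) • (1 : T → ℂ) := by
      funext y
      show LinearMap.trace ℂ _ (ρ y) = LinearMap.trace ℂ _ (ρ 1) * 1
      rw [h4 y, h4 1, mul_one]
    by_contra hne
    have : Fintype T := Fintype.ofFinite T
    have h6 := classInner_irr_ne hirr isIrr_one hne
    rw [h5, classInner_smul_left, classInner_irr_self isIrr_one, mul_one] at h6
    exact isIrr_apply_one_ne_zero hirr h6

/-- **Vanishing** (Burnside). -/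
theorem eq_zero_of_pow {T : Type*} [Group T] [Finite T] [IsSimpleGroup T]
    (hnab : ∃ a b : T, a * b ≠ b * a) {θ : T → ℂ} (hθ : IsIrrCharacter T θ) (h1 : θ ≠ 1) {p : ℕ}
    (hp : p.Prime) {k : ℕ} (hd : charDegree θ ∣ p ^ k) {z : T} (hz : z ≠ 1)
    (hzc : ¬ p ∣ (Subgroup.centralizer ({z} : Set T)).index) : θ z = 0 := by
  have h0 := irr_one_eq_charDegree hθ
  obtain ⟨n, ρ, hρ, rfl⟩ := hθ
  rw [Representation.char_one] at h0
  have h2 : finrank ℂ (Fin n → ℂ) = charDegree ρ.character := by exact_mod_cast h0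
  have := hρ
  rcases Cfsg.Agent.S0142.result ρ z (by
    rw [h2]
    exact Nat.Coprime.coprime_dvd_left hd
      (Nat.Coprime.pow_left k ((Nat.Prime.coprime_iff_not_dvd hp).2 hzc))) with h3 | h3
  · exact h3
  · exact absurd h3 (norm_ne hnab hρ h1 hz)

/-- An irreducible representation with a stabilised line has dimension at most the index. -/
theorem finrank_le_index {G : Type*} [Group G] [Finite G] {V : Type*} [AddCommGroup V] [Module ℂ V]
    [FiniteDimensional ℂ V] {ρ : Representation ℂ G V} (hρ : ρ.IsIrreducible) {v : V}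
    {H : Subgroup G} (hv : v ≠ 0) (hH : ∀ h ∈ H, ∃ c : ℂ, ρ h v = c • v) :
    finrank ℂ V ≤ H.index := by
  classical
  have : Fintype (G ⧸ H) := Fintype.ofFinite _
  let b : G ⧸ H → V := fun q => ρ q.out v
  have hx : ∀ x : G, ∃ c : ℂ, ρ x v = c • b (x : G ⧸ H) := by
    intro x
    have h1 : ((x : G ⧸ H).out)⁻¹ * x ∈ H := by
      rw [← QuotientGroup.eq, QuotientGroup.out_eq']
    obtain ⟨c, hc⟩ := hH _ h1
    refine ⟨c, ?_⟩
    have h2 : x = (x : G ⧸ H).out * (((x : G ⧸ H).out)⁻¹ * x) := by group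
    conv_lhs => rw [h2, map_mul, Module.End.mul_apply, hc, map_smul]
  have hspan : Submodule.span ℂ (Set.range b) = ⊤ := by
    let S : Subrepresentation ρ :=
      { toSubmodule := Submodule.span ℂ (Set.range b)
        apply_mem_toSubmodule := by
          intro g w hw
          refine Submodule.span_induction (p := fun w _ => ρ g w ∈ Submodule.span ℂ (Set.range b))
            ?_ ?_ ?_ ?_ hw
          · rintro _ ⟨q, rfl⟩
            obtain ⟨c, hc⟩ := hx (g * q.out)
            have : ρ g (b q) = c • b ((g * q.out : G) : G ⧸ H) := by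
              rw [← hc, map_mul, Module.End.mul_apply]
            rw [this]
            exact Submodule.smul_mem _ _ (Submodule.subset_span ⟨_, rfl⟩)
          · simp
          · intro x y _ _ hx hy
            rw [map_add]
            exact Submodule.add_mem _ hx hy
          · intro a x _ hx
            rw [map_smul]
            exact Submodule.smul_mem _ _ hx }
    rcases hρ.eq_bot_or_eq_top S with hS | hS
    · exfalso
      apply hv
      have hvS : v ∈ S.toSubmodule := by
        obtain ⟨c, hc⟩ := hx 1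
        rw [map_one, Module.End.one_apply] at hc
        rw [hc]
        exact Submodule.smul_mem _ _ (Submodule.subset_span ⟨_, rfl⟩)
      rw [hS] at hvS
      exact (Submodule.mem_bot ℂ).mp hvS
    · exact congrArg Subrepresentation.toSubmodule hS
  have := finrank_range_le_card (R := ℂ) b
  rw [Set.finrank, hspan, finrank_top, ← Nat.card_eq_fintype_card] at this
  exact this

/-- A monomial character of `A` which is irreducible on `T` comes from a subgroup of `T` of index
the degree. -/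
theorem exists_index_of_mono {A : Type*} [Group A] [Fintype A] {T : Subgroup A} {χ : A → ℂ}
    (hχ : IsIrrCharacter A χ) (hr : IsIrrCharacter T (fun t : T => χ t)) (h : Mono A χ) :
    ∃ H : Subgroup T, H.index = charDegree χ := by
  obtain ⟨n, ρ, hρ, rfl⟩ := hχ
  obtain ⟨v, H, hv, hH, hi⟩ := monoV_of_mono hρ h
  have h1 : (pull ρ T.subtype).IsIrreducible := isIrreducible_of_isIrrCharacter _ hr
  have h2 := finrank_le_index (H := H.subgroupOf T) h1 hv (fun x hx => hH x hx)
  have h0 : charDegree ρ.character = finrank ℂ (Fin n → ℂ) := by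
    have h3 := irr_one_eq_charDegree (isIrrCharacter_of_rep ρ hρ)
    rw [Representation.char_one] at h3
    exact_mod_cast h3.symm
  refine ⟨H.subgroupOf T, le_antisymm ?_ (h0 ▸ h2)⟩
  rw [h0]
  refine le_trans ?_ hi
  have h3 : (H.subgroupOf T).index = H.relIndex T := rfl
  rw [h3]
  have h4 := Subgroup.relIndex_le_of_le_right (H := H) (K := T) (L := ⊤) le_top (by
    rw [Subgroup.relIndex_top_right]
    exact Subgroup.index_ne_zero_of_finite)
  rwa [Subgroup.relIndex_top_right] at h4

/-- **The core**: in rank at least two, a proper subgroup `H` of a simple group `T` with a split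
(B,N)-pair of characteristic `p` has a nontrivial constituent of its permutation character whose
degree is not a power of `p`. -/
theorem exists_not_pow {T : Type*} [Group T] [Fintype T] [IsSimpleGroup T]
    (hnab : ∃ a b : T, a * b ≠ b * a) {p : ℕ} [hp : Fact p.Prime] {P : Cfsg.BNPair T}
    {U : Subgroup T} (h : Split P p U) {s t : T} (hs : s ∈ P.S) (ht : t ∈ P.S) (hst : s ≠ t)
    {H : Subgroup T} (hH : H ≠ ⊤) (k : ℕ)
    (hc : ∀ θ : T → ℂ, IsIrrCharacter T θ → θ ≠ 1 → classInner (perm H) θ ≠ 0 →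
      charDegree θ ∣ p ^ k) : False := by
  classical
  have : Finite (IrrCharacter T) := finite_irr
  have : Fintype (IrrCharacter T) := Fintype.ofFinite _
  obtain ⟨m, hm⟩ := exists_nat_comb (isCharacter_perm H)
  have hmχ : ∀ χ : IrrCharacter T, classInner (perm H) (χ : T → ℂ) = m χ := by
    intro χ
    rw [hm]
    exact classInner_sum_nsmul_irr m χ
  let a : IrrCharacter T := ⟨1, isIrr_one⟩
  have ha : m a = 1 := by
    have h5 := hmχ a
    rw [show (a : T → ℂ) = 1 from rfl, classInner_perm_one] at h5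
    exact_mod_cast h5.symm
  have hval : ∀ g : T, perm H g = ∑ χ : IrrCharacter T, (m χ : ℂ) * (χ : T → ℂ) g := by
    intro g
    conv_lhs => rw [hm]
    rw [Finset.sum_apply]
    refine Finset.sum_congr rfl fun χ _ => ?_
    rw [Pi.smul_apply, nsmul_eq_mul]
  have hdvd : ∀ χ : IrrCharacter T, χ ≠ a → m χ ≠ 0 → charDegree (χ : T → ℂ) ∣ p ^ k := by
    intro χ hχ h0
    refine hc _ χ.2 (fun h1 => hχ (Subtype.ext h1)) ?_
    rw [hmχ]
    exact_mod_cast h0
  -- the degrees are divisible by `p`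
  have hpd : ∀ χ : IrrCharacter T, χ ≠ a → m χ ≠ 0 → p ∣ charDegree (χ : T → ℂ) := by
    intro χ hχ h0
    obtain ⟨j, -, hj⟩ := (Nat.dvd_prime_pow hp.1).1 (hdvd χ hχ h0)
    rcases Nat.eq_zero_or_pos j with rfl | hj0
    · exfalso
      rw [pow_zero] at hj
      apply hχ
      obtain ⟨f, hf⟩ : ∃ f : T →* ℂˣ, (χ : T → ℂ) = fun x => (f x : ℂ) := by
        obtain ⟨n, ρ, hρ, hχρ⟩ := χ.2
        have h1 : finrank ℂ (Fin n → ℂ) = 1 := by
          have h2 := irr_one_eq_charDegree χ.2
          rw [hj, ← hχρ, Representation.char_one] at h2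
          exact_mod_cast h2
        have : Nontrivial (Fin n → ℂ) := Module.nontrivial_of_finrank_pos (R := ℂ) (by rw [h1]; exact one_pos)
        obtain ⟨v, hv⟩ := exists_ne (0 : Fin n → ℂ)
        have h2 : ∀ g ∈ (⊤ : Subgroup T), ∃ c : ℂ, ρ g v = c • v := by
          intro g _
          obtain ⟨c, hc⟩ := (finrank_eq_one_iff_of_nonzero' v hv).1 h1 (ρ g v)
          exact ⟨c, hc.symm⟩
        obtain ⟨lam, hlam⟩ := Cfsg.Agent.Characters.MonomialVec.exists_hom_of_eigenvector ρ ⊤ hv h2
        refine ⟨lam.comp (Subgroup.topEquiv (G := T)).symm.toMonoidHom, ?_⟩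
        funext x
        have h3 : ρ x = (lam ⟨x, Subgroup.mem_top x⟩ : ℂ) • (LinearMap.id : (Fin n → ℂ) →ₗ[ℂ] (Fin n → ℂ)) := by
          refine LinearMap.ext fun w => ?_
          obtain ⟨c, rfl⟩ := (finrank_eq_one_iff_of_nonzero' v hv).1 h1 w
          rw [map_smul]
          have h4 := hlam ⟨x, Subgroup.mem_top x⟩
          rw [show (ρ x) v = _ from h4]
          simp only [LinearMap.smul_apply, LinearMap.id_apply]
          rw [smul_comm]
        rw [← hχρ]
        show LinearMap.trace ℂ _ (ρ x) = _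
        rw [h3, map_smul, LinearMap.trace_id, h1, Nat.cast_one, smul_eq_mul, mul_one]
        rfl
      have hf1 := lin_eq_one hnab f
      apply Subtype.ext
      rw [hf, hf1]
      rfl
    · rw [hj]
      exact dvd_pow_self p hj0.ne'
  -- the value at `p`-central elements
  have hone : ∀ z : T, z ≠ 1 → ¬ p ∣ (Subgroup.centralizer ({z} : Set T)).index →
      perm H z = 1 := by
    intro z hz hzc
    rw [hval z, Finset.sum_eq_single a]
    · rw [ha, Nat.cast_one, one_mul]
      rfl
    · intro χ _ hχ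
      by_cases h0 : m χ = 0
      · rw [h0, Nat.cast_zero, zero_mul]
      · rw [eq_zero_of_pow hnab χ.2 (fun h1 => hχ (Subtype.ext h1)) hp.1 (hdvd χ hχ h0) hz hzc,
          mul_zero]
    · intro h1
      exact absurd (Finset.mem_univ _) h1
  -- the index is prime to `p`
  have hidx : ¬ p ∣ H.index := by
    have h2 : H.index = ∑ χ : IrrCharacter T, m χ * charDegree (χ : T → ℂ) := by
      have h3 := hval 1
      rw [perm_one] at h3
      have h4 : (H.index : ℂ) = ((∑ χ : IrrCharacter T, m χ * charDegree (χ : T → ℂ) : ℕ) : ℂ) := by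
        rw [h3]
        push_cast
        refine Finset.sum_congr rfl fun χ _ => ?_
        rw [irr_one_eq_charDegree χ.2]
      exact_mod_cast h4
    intro hd
    rw [h2, ← Finset.add_sum_erase Finset.univ _ (Finset.mem_univ a)] at hd
    have h3 : p ∣ ∑ χ ∈ Finset.univ.erase a, m χ * charDegree (χ : T → ℂ) := by
      refine Finset.dvd_sum fun χ hχ => ?_
      by_cases h0 : m χ = 0
      · rw [h0, zero_mul]
        exact dvd_zero p
      · exact Dvd.dvd.mul_left (hpd χ (Finset.ne_of_mem_erase hχ) h0) _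
    have h4 : charDegree (a : T → ℂ) = 1 := by
      have h5 := irr_one_eq_charDegree a.2
      have h6 : (a : T → ℂ) 1 = 1 := rfl
      rw [h6] at h5
      exact_mod_cast h5.symm
    rw [ha, h4, mul_one] at hd
    exact hp.1.one_lt.ne' (Nat.dvd_one.1 ((Nat.dvd_add_left h3).1 hd))
  -- `U` is a Sylow subgroup; a conjugate of `H` contains it
  obtain ⟨Q, hQ⟩ := H612.CharTwo.exists_sylow h
  have hUp : IsPGroup p U := h.isP
  obtain ⟨g, hg⟩ : ∃ g : T, ∀ u ∈ U, g⁻¹ * u * g ∈ H := by
    obtain ⟨R⟩ : Nonempty (Sylow p H) := inferInstance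
    have hR : IsPGroup p (R.1.map H.subtype) := R.2.map _
    obtain ⟨Q', hQ'⟩ := hR.exists_le_sylow
    have hcard : Nat.card (R.1.map H.subtype) = Nat.card Q' := by
      rw [Subgroup.card_map_of_injective H.subtype_injective, Sylow.card_eq_multiplicity,
        Sylow.card_eq_multiplicity]
      congr 1
      rw [← H.card_mul_index, Nat.factorization_mul Nat.card_pos.ne' Subgroup.index_ne_zero_of_finite]
      simp [Nat.factorization_eq_zero_of_not_dvd hidx]
    have h1 : R.1.map H.subtype = Q' := Subgroup.eq_of_le_of_card_ge hQ' hcard.ge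
    obtain ⟨x, hx⟩ := MulAction.exists_smul_eq T Q' Q
    refine ⟨x, fun u hu => ?_⟩
    have h2 : u ∈ (Q : Subgroup T) := by rw [hQ]; exact hu
    rw [← hx, Sylow.coe_subgroup_smul, Subgroup.mem_pointwise_smul_iff_inv_smul_mem] at h2
    have h3 : x⁻¹ * u * x ∈ (Q' : Subgroup T) := by
      simpa [MulAut.smul_def] using h2
    rw [← h1] at h3
    exact Subgroup.map_subtype_le _ h3
  -- the conjugate
  let H₁ : Subgroup T := H.comap (MulAut.conj g⁻¹).toMonoidHom
  have hH₁ : ∀ x : T, x ∈ H₁ ↔ g⁻¹ * x * g ∈ H := by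
    intro x
    show (MulAut.conj g⁻¹) x ∈ H ↔ _
    rw [MulAut.conj_apply, inv_inv]
  have hUH : U ≤ H₁ := fun u hu => (hH₁ u).2 (hg u hu)
  have key : ∀ z ∈ U, z ≠ 1 → (∀ u ∈ U, u * z = z * u) → ∀ y : T, y⁻¹ * z * y ∈ H₁ → y ∈ H₁ := by
    intro z hz hz1 hzc y hy
    have hzi : ¬ p ∣ (Subgroup.centralizer ({z} : Set T)).index := by
      have h1 : (Q : Subgroup T) ≤ Subgroup.centralizer ({z} : Set T) := by
        intro u hu
        rw [hQ] at hu
        rw [Subgroup.mem_centralizer_iff]
        rintro _ rfl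
        exact (hzc u hu).symm
      intro h2
      exact Q.not_dvd_index (h2.trans (Subgroup.index_dvd_of_le h1))
    have h1 := hone z hz1 hzi
    rw [perm_apply] at h1
    have h0 : (Nat.card H : ℂ) ≠ 0 := Nat.cast_ne_zero.2 Nat.card_pos.ne'
    have h2 : Nat.card {x : T // x⁻¹ * z * x ∈ H} = Nat.card H := by
      have h3 : (Nat.card {x : T // x⁻¹ * z * x ∈ H} : ℂ) = Nat.card H := by
        field_simp at h1
        exact h1
      exact_mod_cast h3
    -- the coset `g H`
    have h3 : ∀ x : T, x⁻¹ * z * x ∈ H ↔ g⁻¹ * x ∈ H := by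
      let A₁ : Set T := {x | g⁻¹ * x ∈ H}
      let A₂ : Set T := {x | x⁻¹ * z * x ∈ H}
      have hsub : A₁ ⊆ A₂ := by
        intro x hx
        have h4 := mul_mem (mul_mem (inv_mem (show g⁻¹ * x ∈ H from hx)) (hg z hz))
          (show g⁻¹ * x ∈ H from hx)
        have h5 : (g⁻¹ * x)⁻¹ * (g⁻¹ * z * g) * (g⁻¹ * x) = x⁻¹ * z * x := by group
        rw [h5] at h4
        exact h4
      have hc1 : Nat.card A₁ = Nat.card H := by
        refine Nat.card_congr
          { toFun := fun x => ⟨g⁻¹ * x.1, x.2⟩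
            invFun := fun y => ⟨g * y.1, by
              show g⁻¹ * (g * y.1) ∈ H
              rw [inv_mul_cancel_left]
              exact y.2⟩
            left_inv := fun x => Subtype.ext (by simp)
            right_inv := fun y => Subtype.ext (by simp) }
      have heq : A₁ = A₂ := by
        refine Set.eq_of_subset_of_ncard_le hsub ?_ (Set.toFinite _)
        rw [← Nat.card_coe_set_eq, ← Nat.card_coe_set_eq, hc1]
        exact h2.le
      intro x
      have h4 : x ∈ A₂ ↔ x ∈ A₁ := by rw [heq]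
      exact h4
    rw [hH₁] at hy ⊢
    have h4 : (y * g)⁻¹ * z * (y * g) ∈ H := by
      have h5 : (y * g)⁻¹ * z * (y * g) = g⁻¹ * (y⁻¹ * z * y) * g := by group
      rw [h5]
      exact hy
    have h5 := (h3 _).1 h4
    rwa [← mul_assoc] at h5
  -- central elements of `U`
  have hnil : Group.IsNilpotent U := hUp.isNilpotent
  have hcen : ∀ V : Subgroup T, V ≤ U → V ≠ ⊥ → (∀ b ∈ P.B, ∀ v ∈ V, b * v * b⁻¹ ∈ V) →
      ∃ z ∈ V, z ≠ 1 ∧ ∀ u ∈ U, u * z = z * u := by
    intro V hVU hV hVn
    have hn : (V.subgroupOf U).Normal := by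
      constructor
      intro v hv u
      rw [Subgroup.mem_subgroupOf] at hv ⊢
      exact hVn u (h.le u.2) v hv
    have hne : V.subgroupOf U ≠ ⊥ := by
      intro h1
      apply hV
      rw [Subgroup.subgroupOf_eq_bot] at h1
      rw [eq_bot_iff, ← disjoint_iff.1 h1]
      exact le_inf le_rfl hVU
    have h1 := Cfsg.Agent.S0065.result (V.subgroupOf U) hne
    obtain ⟨⟨z, hz⟩, hz1'⟩ := Subgroup.ne_bot_iff_exists_ne_one.1 h1
    have hz1 : z ≠ 1 := fun h2 => hz1' (Subtype.ext h2)
    refine ⟨z, Subgroup.mem_subgroupOf.1 hz.1, fun h2 => hz1 (Subtype.ext h2), fun u hu => ?_⟩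
    exact congrArg Subtype.val (Subgroup.mem_center_iff.1 hz.2 ⟨u, hu⟩)
  have hU1 : U ≠ ⊥ := by
    obtain ⟨V, hV⟩ := h.node s hs
    obtain ⟨u, hu, huV⟩ := hV.ne
    intro h1
    rw [h1, Subgroup.mem_bot] at hu
    exact huV (hu ▸ one_mem V)
  have hB : P.B ≤ H₁ := by
    intro b hb
    obtain ⟨z, hz, hz1, hzc⟩ := hcen U le_rfl hU1 h.norm
    refine key z hz hz1 hzc b (hUH ?_)
    have h1 := h.norm b⁻¹ (inv_mem hb) z hz
    rwa [inv_inv] at h1
  have hS : ∀ r ∈ P.S, r ∈ H₁ := by
    intro r hr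
    obtain ⟨r', hr', hrr'⟩ : ∃ r' ∈ P.S, r ≠ r' := by
      by_cases h1 : r = s
      · exact ⟨t, ht, h1 ▸ hst⟩
      · exact ⟨s, hs, h1⟩
    obtain ⟨V, hV⟩ := h.node r hr
    have hV1 := H690.LieMix.node_ne_bot h hr hr' hrr' hV
    obtain ⟨z, hz, hz1, hzc⟩ := hcen V hV.le hV1 hV.conj_B
    exact key z (hV.le hz) hz1 hzc r (hUH (hV.le (hV.conj_s z hz)))
  have htop : H₁ = ⊤ := by
    rw [eq_top_iff, ← P.sup_eq_top, ← P.closure_sup]
    refine sup_le hB (sup_le ?_ (inf_le_left.trans hB))
    rw [Subgroup.closure_le]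
    exact hS
  apply hH
  rw [eq_top_iff]
  intro x _
  have h1 : g * x * g⁻¹ ∈ H₁ := by rw [htop]; exact Subgroup.mem_top _
  rw [hH₁] at h1
  have h2 : g⁻¹ * (g * x * g⁻¹) * g = x := by group
  rwa [h2] at h1

end Cfsg.Agent.H649.MN
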