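import Cfsg.Agent.H649.MonoLift
import Cfsg.Agent.H649.MinSimple

/-!
# Reduction of S4572 to almost simple groups
-/

set_option autoImplicit false

open Cfsg Subgroup

namespace Cfsg.Agent.H649.MN

universe u

/-- The almost simple section at `S`, realised in `Type`. -/
theorem exists_section {G : Type u} [Group G] [Finite G] {S I : Subgroup G} [IsSimpleGroup S]
    (hI : normalizer (S : Set G) = I) (hnab : ∃ a b : S, a * b ≠ b * a)
    (hcomm : ∀ g, g ∉ I → ∀ s ∈ S, ∀ t ∈ S, (g * s * g⁻¹) * t = t * (g * s * g⁻¹))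
    (hsol : Group.IsSolvable (G ⧸ normalClosure (S : Set G))) :
    ∃ (A : Type) (_ : Group A) (_ : Fintype A) (π : I →* A) (f : S →* A),
      Function.Surjective π ∧ (∀ x : I, (x : G) ∈ centralizer (S : Set G) → π x = 1) ∧
      (∀ (s : S) (x : I), (x : G) = s → π x = f s) ∧ Function.Injective f ∧
      ∃ _ : f.range.Normal, centralizer (f.range : Set A) = ⊥ ∧ Group.IsSolvable (A ⧸ f.range) := by
  classical
  subst hI
  let A₀ := S.normalizerMonoidHom.range
  let e : Shrink.{0} A₀ ≃* A₀ := Shrink.mulEquiv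
  let π : normalizer (S : Set G) →* Shrink.{0} A₀ :=
    e.symm.toMonoidHom.comp S.normalizerMonoidHom.rangeRestrict
  have hπk : ∀ x, π x = 1 ↔ (x : G) ∈ centralizer (S : Set G) := by
    intro x
    have h1 : π x = 1 ↔ S.normalizerMonoidHom.rangeRestrict x = 1 := by
      show e.symm _ = 1 ↔ _
      rw [EmbeddingLike.map_eq_one_iff]
    rw [h1, ← MonoidHom.mem_ker, MonoidHom.ker_rangeRestrict, normalizerMonoidHom_ker,
      mem_subgroupOf]
  have hπs : Function.Surjective π :=
    e.symm.surjective.comp S.normalizerMonoidHom.rangeRestrict_surjective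
  let ι : S →* normalizer (S : Set G) := Subgroup.inclusion le_normalizer
  let f : S →* Shrink.{0} A₀ := π.comp ι
  have hZ : Subgroup.center S = ⊥ := by
    rcases (inferInstance : (Subgroup.center S).Normal).eq_bot_or_eq_top with h | h
    · exact h
    · exfalso
      obtain ⟨a, b, hab⟩ := hnab
      apply hab
      have h1 : a ∈ Subgroup.center S := by rw [h]; exact mem_top _
      exact (Subgroup.mem_center_iff.1 h1 b).symm
  have hSC : ∀ s ∈ S, s ∈ centralizer (S : Set G) → s = 1 := by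
    intro s hs hc
    have h1 : (⟨s, hs⟩ : S) ∈ Subgroup.center S := by
      rw [Subgroup.mem_center_iff]
      intro t
      exact Subtype.ext (mem_centralizer_iff.1 hc t t.2)
    rw [hZ, mem_bot] at h1
    exact congrArg Subtype.val h1
  have hfi : Function.Injective f := by
    rw [← MonoidHom.ker_eq_bot_iff, eq_bot_iff]
    intro s hs
    rw [MonoidHom.mem_ker] at hs
    have h1 := (hπk (ι s)).1 hs
    rw [mem_bot]
    exact Subtype.ext (hSC s s.2 h1)
  have hn : f.range.Normal := by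
    constructor
    rintro _ ⟨s, rfl⟩ a
    obtain ⟨x, rfl⟩ := hπs a
    have h1 : (x : G) * s * (x : G)⁻¹ ∈ S := (mem_normalizer_iff.1 x.2 s).1 s.2
    refine ⟨⟨_, h1⟩, ?_⟩
    show π (ι _) = π x * π (ι s) * (π x)⁻¹
    rw [← map_mul, ← map_inv, ← map_mul]
    rfl
  have hc : centralizer (f.range : Set (Shrink.{0} A₀)) = ⊥ := by
    rw [eq_bot_iff]
    intro a ha
    obtain ⟨x, rfl⟩ := hπs a
    rw [mem_bot, hπk, mem_centralizer_iff]
    intro s hs
    have h1 : (x : G) * s * (x : G)⁻¹ ∈ S := (mem_normalizer_iff.1 x.2 s).1 hs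
    have h2 := mem_centralizer_iff.1 ha (f ⟨s, hs⟩) ⟨_, rfl⟩
    have h3 : f ⟨_, h1⟩ = f ⟨s, hs⟩ := by
      have h4 : f ⟨_, h1⟩ = π x * f ⟨s, hs⟩ * (π x)⁻¹ := by
        show π (ι _) = π x * π (ι _) * (π x)⁻¹
        rw [← map_mul, ← map_inv, ← map_mul]
        rfl
      rw [h4, ← h2, mul_inv_cancel_right]
    have h4 := congrArg Subtype.val (hfi h3)
    have h5 : (x : G) * s * (x : G)⁻¹ = s := h4
    exact (mul_inv_eq_iff_eq_mul.1 h5).symm
  refine ⟨Shrink.{0} A₀, inferInstance, Fintype.ofFinite _, π, f, hπs, fun x hx => (hπk x).2 hx, ?_,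
    hfi, hn, hc, ?_⟩
  · rintro s x hx
    show π x = π (ι s)
    congr 1
    exact Subtype.ext hx
  · -- solvability
    let N := normalClosure (S : Set G)
    have : Group.IsSolvable (G ⧸ N) := hsol
    let NI := N.subgroupOf (normalizer (S : Set G))
    have hsolI : Group.IsSolvable (normalizer (S : Set G) ⧸ NI) := by
      have hle : NI ≤ N.comap (normalizer (S : Set G)).subtype := le_rfl
      refine Group.isSolvable_of_isSolvable_injective
        (f := QuotientGroup.map NI N (normalizer (S : Set G)).subtype hle) ?_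
      rw [← MonoidHom.ker_eq_bot_iff, eq_bot_iff]
      intro y hy
      obtain ⟨x, rfl⟩ := QuotientGroup.mk_surjective y
      rw [MonoidHom.mem_ker, QuotientGroup.map_mk, QuotientGroup.eq_one_iff] at hy
      rw [mem_bot, QuotientGroup.eq_one_iff]
      exact hy
    let φ : normalizer (S : Set G) →* Shrink.{0} A₀ ⧸ f.range := (QuotientGroup.mk' f.range).comp π
    have hφ : N ≤ φ.ker.map (normalizer (S : Set G)).subtype := by
      show Subgroup.closure _ ≤ _
      rw [Subgroup.closure_le]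
      intro x hx
      rw [Group.mem_conjugatesOfSet_iff] at hx
      obtain ⟨s, hs, hx⟩ := hx
      obtain ⟨g, rfl⟩ := isConj_iff.1 hx
      by_cases hg : g ∈ normalizer (S : Set G)
      · have h1 : g * s * g⁻¹ ∈ S := (mem_normalizer_iff.1 hg s).1 hs
        refine ⟨⟨_, le_normalizer h1⟩, ?_, rfl⟩
        rw [SetLike.mem_coe, MonoidHom.mem_ker]
        show (QuotientGroup.mk' f.range) (π (ι ⟨_, h1⟩)) = 1
        rw [QuotientGroup.mk'_apply, QuotientGroup.eq_one_iff]
        exact ⟨_, rfl⟩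
      · have h1 : g * s * g⁻¹ ∈ centralizer (S : Set G) := by
          rw [mem_centralizer_iff]
          intro t ht
          exact (hcomm g hg s hs t ht).symm
        refine ⟨⟨_, centralizer_le_normalizer _ h1⟩, ?_, rfl⟩
        rw [SetLike.mem_coe, MonoidHom.mem_ker]
        show (QuotientGroup.mk' f.range) (π _) = 1
        rw [(hπk _).2 h1, map_one]
    have hNI : NI ≤ φ.ker := by
      intro x hx
      obtain ⟨y, hy, hyx⟩ := hφ (mem_subgroupOf.1 hx)
      have h1 : y = x := Subtype.ext hyx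
      rw [← h1]
      exact hy
    refine Group.isSolvable_of_surjective (f := QuotientGroup.lift NI φ hNI) ?_
    intro y
    obtain ⟨a, rfl⟩ := QuotientGroup.mk_surjective y
    obtain ⟨x, rfl⟩ := hπs a
    exact ⟨(x : normalizer (S : Set G) ⧸ NI), rfl⟩

/-- **Reduction of S4572 to almost simple groups.** -/
theorem isSolvable_of_eqDeg
    (hgood : ∀ (S : Type u) [Group S] [Finite S] [IsSimpleGroup S], (∃ a b : S, a * b ≠ b * a) →
      GoodMono S) (n : ℕ) :
    ∀ {G : Type u} [Group G] [Fintype G], Nat.card G = n → EqDeg G → Group.IsSolvable G := by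
  induction n using Nat.strong_induction_on with
  | _ n ih =>
    intro G _ _ hn h
    by_contra hG
    have hq : ∀ (M : Subgroup G) [M.Normal], M ≠ ⊥ → Group.IsSolvable (G ⧸ M) := by
      intro M _ hM
      have : Fintype (G ⧸ M) := Fintype.ofFinite _
      refine ih (Nat.card (G ⧸ M)) ?_ rfl (h.quotient (QuotientGroup.mk'_surjective M))
      rw [← hn, ← M.index_mul_card]
      have h1 : 1 < Nat.card M := by
        rw [Subgroup.one_lt_card_iff_ne_bot]
        exact hM
      have h2 : 0 < Nat.card (G ⧸ M) := Nat.card_pos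
      show Nat.card (G ⧸ M) < Nat.card (G ⧸ M) * Nat.card M
      exact lt_mul_of_one_lt_right h2 h1
    obtain ⟨S, hS, hnab, hcomm, hsol⟩ := MinSimple.exists_simple hG hq
    obtain ⟨A, _, _, π, f, hπ, hπc, hπf, hf, hn, hc, hs⟩ := exists_section (S := S) rfl hnab hcomm hsol
    obtain ⟨χ, ψ, h1, h2, h3⟩ := hgood S hnab A f hf hn hc hs
    have key : ∀ χ₀ : A → ℂ, NonMono f χ₀ → ∃ χ : G → ℂ, IsIrrCharacter G χ ∧ ¬ Mono G χ ∧
        χ 1 = ((normalizer (S : Set G)).index : ℂ) * χ₀ 1 := by
      intro χ₀ h0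
      refine exists_lift hS rfl hnab hcomm π hπ hπc h0.irr h0.nm ?_
      obtain ⟨s, hs⟩ := h0.nontriv
      refine ⟨⟨s, le_normalizer s.2⟩, s.2, ?_⟩
      rw [hπf s ⟨s, le_normalizer s.2⟩ rfl]
      exact hs
    obtain ⟨χ', hχ1, hχ2, hχ3⟩ := key χ h1
    obtain ⟨ψ', hψ1, hψ2, hψ3⟩ := key ψ h2
    have h4 := h χ' ψ' hχ1 hψ1 hχ2 hψ2
    rw [hχ3, hψ3] at h4
    have h5 : ((normalizer (S : Set G)).index : ℂ) ≠ 0 :=
      Nat.cast_ne_zero.2 Subgroup.index_ne_zero_of_finite
    exact h3 (mul_left_cancel₀ h5 h4)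

end Cfsg.Agent.H649.MN
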