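import Cfsg.Agent.Characters.MonomialVec
import Cfsg.Agent.Characters.Brauer
import Cfsg.Agent.H649.MonoDefs

/-!
# Monomial characters in terms of stabilised lines
-/

set_option autoImplicit false

open Cfsg Module Representation
open Cfsg.Agent.Characters.Core
open Cfsg.Agent.Characters.MonomialVec (exists_hom_of_eigenvector character_eq_indFun)

namespace Cfsg.Agent.H649.MN

universe u v

variable {G : Type u} [Group G] {V : Type v} [AddCommGroup V] [Module ℂ V]

/-- Some line is stabilised by a subgroup of index at most the dimension. -/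
def MonoV (ρ : Representation ℂ G V) : Prop :=
  ∃ (v : V) (H : Subgroup G), v ≠ 0 ∧ (∀ h ∈ H, ∃ c : ℂ, ρ h v = c • v) ∧ H.index ≤ finrank ℂ V

/-- Pull-back of a representation. -/
def pull {K : Type*} [Group K] (ρ : Representation ℂ K V) (f : G →* K) : Representation ℂ G V :=
  ρ.comp f

theorem mono_of_monoV [Fintype G] [FiniteDimensional ℂ V] {ρ : Representation ℂ G V}
    (hρ : ρ.IsIrreducible) (h : MonoV ρ) : Mono G ρ.character := by
  obtain ⟨v, H, hv, hH, hi⟩ := h
  obtain ⟨lam, hlam⟩ := exists_hom_of_eigenvector ρ H hv hH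
  exact ⟨H, lam, character_eq_indFun ρ hρ H lam hv hlam hi⟩

/-- The value of an induced function at `1`. -/
theorem indFun_one [Fintype G] (H : Subgroup G) (f : H → ℂ) :
    indFun H f 1 = (H.index : ℂ) * f 1 := by
  rw [Cfsg.Agent.Characters.Core.indFun_apply]
  have h1 : ∀ x : G, extendByZero H f (x⁻¹ * 1 * x) = f 1 := by
    intro x
    rw [mul_one, inv_mul_cancel]
    exact extendByZero_of_mem H f (one_mem H)
  simp only [h1, Finset.sum_const, Finset.card_univ, nsmul_eq_mul]
  rw [← H.card_mul_index.symm.symm.trans Nat.card_eq_fintype_card]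
  have h2 : (Nat.card H : ℂ) ≠ 0 := Nat.cast_ne_zero.2 Nat.card_pos.ne'
  push_cast
  field_simp

theorem monoV_of_mono [Fintype G] [FiniteDimensional ℂ V] {ρ : Representation ℂ G V}
    (hρ : ρ.IsIrreducible) (h : Mono G ρ.character) : MonoV ρ := by
  obtain ⟨H, lam, hl⟩ := h
  have : Fintype H := Fintype.ofFinite H
  -- the one-dimensional representation
  let μ : H →* ℂ := (Units.coeHom ℂ).comp lam
  let σ : Representation ℂ H ℂ := (algebraMap ℂ (Module.End ℂ ℂ)).toMonoidHom.comp μ
  have hσ : σ.character = fun h => (lam h : ℂ) := by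
    funext h
    show LinearMap.trace ℂ ℂ (algebraMap ℂ (Module.End ℂ ℂ) (μ h)) = (lam h : ℂ)
    rw [Algebra.algebraMap_eq_smul_one, map_smul]
    simp [μ]
  have h1 : classInner ρ.character ρ.character = 1 :=
    classInner_irr_self (isIrrCharacter_of_rep ρ hρ)
  have h2 : classInner (fun h : H => (lam h : ℂ)) (fun h : H => ρ.character h) = 1 := by
    rw [← Cfsg.Agent.Characters.Brauer.classInner_indFun H _ _ ρ.character
      (isIrr_isClassFunction (isIrrCharacter_of_rep ρ hρ)), ← hl]
    exact h1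
  have h3 : classInner (pull ρ H.subtype).character σ.character = 1 := by
    rw [hσ]
    have h4 : (pull ρ H.subtype).character = fun h : H => ρ.character h := rfl
    rw [h4, ← classInner_conj_symm, h2, map_one]
  rw [classInner_character] at h3
  have h5 : finrank ℂ (IntertwiningMap σ (pull ρ H.subtype)) = 1 := by
    exact_mod_cast h3
  have h6 : Nontrivial (IntertwiningMap σ (pull ρ H.subtype)) :=
    Module.nontrivial_of_finrank_pos (R := ℂ) (by rw [h5]; exact one_pos)
  obtain ⟨f, hf⟩ := exists_ne (0 : IntertwiningMap σ (pull ρ H.subtype))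
  refine ⟨f.toLinearMap 1, H, ?_, ?_, ?_⟩
  · intro h0
    apply hf
    have : f.toLinearMap = 0 := by
      ext
      exact h0
    cases f
    congr
  · intro h hh
    refine ⟨lam ⟨h, hh⟩, ?_⟩
    have h7 := LinearMap.congr_fun (f.isIntertwining' ⟨h, hh⟩) (1 : ℂ)
    have h8 : σ ⟨h, hh⟩ (1 : ℂ) = (lam ⟨h, hh⟩ : ℂ) • (1 : ℂ) := by
      show (algebraMap ℂ (Module.End ℂ ℂ) (μ ⟨h, hh⟩)) 1 = _
      rw [Module.algebraMap_end_apply]
      rfl
    rw [LinearMap.comp_apply, LinearMap.comp_apply, h8, map_smul] at h7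
    exact h7.symm
  · have h9 : ρ.character 1 = (H.index : ℂ) := by
      rw [hl, indFun_one]
      simp
    rw [Representation.char_one] at h9
    have h10 : finrank ℂ V = H.index := by exact_mod_cast h9
    exact h10.ge

theorem mono_iff [Fintype G] [FiniteDimensional ℂ V] {ρ : Representation ℂ G V}
    (hρ : ρ.IsIrreducible) : Mono G ρ.character ↔ MonoV ρ :=
  ⟨monoV_of_mono hρ, mono_of_monoV hρ⟩

/-- `MonoV` passes to quotients. -/
theorem monoV_of_comp {K : Type*} [Group K] [Finite G] {ρ : Representation ℂ K V} {f : G →* K}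
    (hf : Function.Surjective f) (h : MonoV (pull ρ f)) : MonoV ρ := by
  obtain ⟨v, H, hv, hH, hi⟩ := h
  refine ⟨v, H.map f, hv, ?_, ?_⟩
  · rintro _ ⟨h, hh, rfl⟩
    exact hH h hh
  · refine le_trans (Nat.le_of_dvd ?_ (H.index_map_dvd hf)) hi
    exact Nat.pos_of_ne_zero Subgroup.index_ne_zero_of_finite

/-- An inflated irreducible character is monomial only if the character is. -/
theorem mono_of_comp {K : Type*} [Group K] [Fintype G] [Fintype K] {χ : K → ℂ}
    (hχ : IsIrrCharacter K χ) {f : G →* K} (hf : Function.Surjective f) (h : Mono G (χ ∘ f)) :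
    Mono K χ := by
  have h1 := isIrr_comp f hf hχ
  obtain ⟨n, ρ, hρ, rfl⟩ := hχ
  have h2 : (pull ρ f).character = ρ.character ∘ f := rfl
  have h3 : (pull ρ f).IsIrreducible :=
    isIrreducible_of_isIrrCharacter _ (h2 ▸ h1)
  exact mono_of_monoV hρ (monoV_of_comp hf (monoV_of_mono h3 (h2 ▸ h)))

/-- Two characters as in the hypothesis of S4572. -/
def EqDeg (G : Type u) [Group G] [Fintype G] : Prop :=
  ∀ χ ψ : G → ℂ, IsIrrCharacter G χ → IsIrrCharacter G ψ → ¬ Mono G χ → ¬ Mono G ψ → χ 1 = ψ 1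

theorem EqDeg.quotient {K : Type*} [Group K] [Fintype K] [Fintype G] (h : EqDeg G) {f : G →* K}
    (hf : Function.Surjective f) : EqDeg K := by
  intro χ ψ hχ hψ h1 h2
  have h3 := h (χ ∘ f) (ψ ∘ f) (isIrr_comp f hf hχ) (isIrr_comp f hf hψ)
    (fun h3 => h1 (mono_of_comp hχ hf h3)) (fun h3 => h2 (mono_of_comp hψ hf h3))
  simpa using h3

end Cfsg.Agent.H649.MN
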