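import Cfsg.Agent.H649.ThreeRed

/-!
# At most two classes of nontrivial `p`-elements: two components
-/

set_option autoImplicit false
set_option linter.style.haveILetI false

universe u

namespace Cfsg.Agent.H649.ThreeCls

open Subgroup
open Cfsg.Agent.H697.Pk Cfsg.Agent.H697.OneClass
open Cfsg.Agent.Lib.MinNormalNonabelian Cfsg.Agent.Lib.MinNormal

/-- the facts about the components of a nonabelian minimal normal subgroup -/
structure Comps {G : Type*} [Group G] (p : ℕ) (N : Subgroup G) : Prop where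
  sup : sSup (minSet N) = N
  simple : ∀ T ∈ minSet N, IsSimpleGroup T
  cent : ∀ T ∈ minSet N, ∀ z ∈ T, (∀ t ∈ T, Commute z t) → z = 1
  trans : ∀ S ∈ minSet N, ∀ T ∈ minSet N, ∃ g : G, T = S.map (MulAut.conj g).toMonoidHom
  comm : ∀ S ∈ minSet N, ∀ R ∈ minSet N, S ≠ R → ∀ x ∈ S, ∀ y ∈ R, Commute x y
  dvd : ∀ S ∈ minSet N, p ∣ Nat.card S

/-- a non-abelian simple group of order divisible by `p` is not `p`-solvable -/
theorem not_pSolvable {T : Type*} [Group T] [Finite T] [IsSimpleGroup T] {p : ℕ} [hp : Fact p.Prime]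
    (hc : ∀ z : T, (∀ t : T, Commute z t) → z = 1) (hd : p ∣ Nat.card T) : ¬ Cfsg.IsPSolvable p T := by
  intro h
  have : Nontrivial T := IsSimpleGroup.toNontrivial
  rcases Lib.PSolvable.exists_core_ne_bot p h with h1 | h1
  · have hn := Lib.Cores.pCore_normal (G := T) p
    rcases hn.eq_bot_or_eq_top with h2 | h2
    · exact h1 h2
    · have h3 := Lib.Cores.pCore_isPGroup (G := T) p
      rw [h2] at h3
      have h4 : IsPGroup p T := h3.of_equiv Subgroup.topEquiv
      have h5 := h4.center_nontrivial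
      obtain ⟨⟨z, hz⟩, hz1⟩ := exists_ne (1 : Subgroup.center T)
      apply hz1
      apply Subtype.ext
      apply hc
      intro t
      exact (Subgroup.mem_center_iff.1 hz t).symm
  · have hn := Lib.Cores.pPrimeCore_normal (G := T) p
    rcases hn.eq_bot_or_eq_top with h2 | h2
    · exact h1 h2
    · have h3 := Lib.Cores.pPrimeCore_coprime (G := T) p
      rw [h2, Subgroup.card_top, Nat.coprime_comm] at h3
      exact (Nat.Prime.coprime_iff_not_dvd hp.out).1 h3 hd

variable {G : Type u} [Group G] [Finite G] {p : ℕ} [hp : Fact p.Prime] {N : Subgroup G} [N.Normal]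

omit [Finite G] hp [N.Normal] in
theorem Comps.supp_eq (C : Comps p N) {S : Subgroup G} (hS : S ∈ minSet N) {z : G} (hz : z ∈ S) (hz1 : z ≠ 1) :
    supp N z = {S} := by
  ext R
  rw [Set.mem_singleton_iff]
  constructor
  · rintro ⟨hR, hn⟩
    by_contra hne
    exact hn fun t ht => C.comm S hS R hR (Ne.symm hne) z hz t ht
  · rintro rfl
    exact ⟨hS, fun h => hz1 (C.cent R hS z hz h)⟩

omit [Finite G] hp [N.Normal] in
theorem Comps.supp_pair (C : Comps p N) {S R : Subgroup G} (hS : S ∈ minSet N) (hR : R ∈ minSet N) (hne : S ≠ R)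
    {z w : G} (hz : z ∈ S) (hz1 : z ≠ 1) (hw : w ∈ R) (hw1 : w ≠ 1) : supp N (z * w) = {S, R} := by
  ext Q
  rw [Set.mem_insert_iff, Set.mem_singleton_iff]
  constructor
  · rintro hQ
    by_cases h1 : Q = S
    · exact Or.inl h1
    · right
      have h2 : Q ∈ supp N w := (mem_supp_mul_left fun t ht => C.comm S hS Q hQ.1 (Ne.symm h1) z hz t ht).1 hQ
      rw [C.supp_eq hR hw hw1] at h2
      exact h2
  · rintro (rfl | rfl)
    · rw [mem_supp_mul_right fun t ht => C.comm R hR Q hS (Ne.symm hne) w hw t ht, C.supp_eq hS hz hz1]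
      rfl
    · rw [mem_supp_mul_left fun t ht => C.comm S hS Q hR hne z hz t ht, C.supp_eq hR hw hw1]
      rfl

omit [Finite G] hp [N.Normal] in
theorem Comps.supp_triple (C : Comps p N) {S R Q : Subgroup G} (hS : S ∈ minSet N) (hR : R ∈ minSet N)
    (hQ : Q ∈ minSet N) (hSR : S ≠ R) (hSQ : S ≠ Q) (hRQ : R ≠ Q)
    {z w v : G} (hz : z ∈ S) (hz1 : z ≠ 1) (hw : w ∈ R) (hw1 : w ≠ 1) (hv : v ∈ Q) (hv1 : v ≠ 1) :
    supp N (z * w * v) = {S, R, Q} := by
  ext U
  rw [Set.mem_insert_iff, Set.mem_insert_iff, Set.mem_singleton_iff]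
  constructor
  · rintro hU
    by_cases h1 : U = Q
    · exact Or.inr (Or.inr h1)
    · have h2 : U ∈ supp N (z * w) := (mem_supp_mul_right fun t ht => C.comm Q hQ U hU.1 (Ne.symm h1) v hv t ht).1 hU
      rw [C.supp_pair hS hR hSR hz hz1 hw hw1] at h2
      rcases h2 with h2 | h2
      · exact Or.inl h2
      · exact Or.inr (Or.inl h2)
  · rintro (h | h | h)
    · subst h
      rw [mem_supp_mul_right fun t ht => C.comm Q hQ U hS (Ne.symm hSQ) v hv t ht,
        C.supp_pair hS hR hSR hz hz1 hw hw1]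
      exact Or.inl rfl
    · subst h
      rw [mem_supp_mul_right fun t ht => C.comm Q hQ U hR (Ne.symm hRQ) v hv t ht,
        C.supp_pair hS hR hSR hz hz1 hw hw1]
      exact Or.inr rfl
    · subst h
      rw [mem_supp_mul_left fun t ht => (C.comm S hS U hQ hSQ z hz t ht).mul_left (C.comm R hR U hQ hRQ w hw t ht),
        C.supp_eq hQ hv hv1]
      rfl

omit [Finite G] hp in
theorem order_mul {x y : G} (hx : orderOf x = p) (hy : orderOf y = p) (hc : Commute x y) (h1 : x * y ≠ 1)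
    (hp : p.Prime) : ∃ k : ℕ, orderOf (x * y) = p ^ k := by
  have : Fact p.Prime := ⟨hp⟩
  refine ⟨1, ?_⟩
  rw [pow_one]
  refine orderOf_eq_prime ?_ h1
  rw [hc.mul_pow, ← hx, pow_orderOf_eq_one, hx, ← hy, pow_orderOf_eq_one, one_mul]

omit hp in
theorem ne_one_of_order {x : G} (hx : orderOf x = p) (hp : p.Prime) : x ≠ 1 := by
  rintro rfl
  rw [orderOf_one] at hx
  exact hp.one_lt.ne hx

theorem exists_order {S : Subgroup G} (h : p ∣ Nat.card S) : ∃ x ∈ S, orderOf x = p := by
  obtain ⟨⟨x, hxT⟩, hx⟩ := exists_prime_orderOf_dvd_card' (G := S) p h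
  rw [← Subgroup.orderOf_coe] at hx
  exact ⟨x, hxT, hx⟩

/-- there are at most two components -/
theorem Comps.two (C : Comps p N) (h : Two p G) {S R Q : Subgroup G} (hS : S ∈ minSet N) (hR : R ∈ minSet N)
    (hQ : Q ∈ minSet N) (hSR : S ≠ R) (hSQ : S ≠ Q) : Q = R := by
  by_contra hQR
  have hRQ : R ≠ Q := Ne.symm hQR
  have hp' := hp.out
  obtain ⟨x, hxS, hx⟩ := exists_order (C.dvd S hS)
  obtain ⟨y, hyR, hy⟩ := exists_order (C.dvd R hR)
  obtain ⟨z, hzQ, hz⟩ := exists_order (C.dvd Q hQ)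
  have hx1 := ne_one_of_order hx hp'
  have hy1 := ne_one_of_order hy hp'
  have hz1 := ne_one_of_order hz hp'
  have s1 := C.supp_eq hS hxS hx1
  have s2 := C.supp_pair hS hR hSR hxS hx1 hyR hy1
  have s3 := C.supp_triple hS hR hQ hSR hSQ hRQ hxS hx1 hyR hy1 hzQ hz1
  have n1 : (supp N x).ncard = 1 := by rw [s1, Set.ncard_singleton]
  have n2 : (supp N (x * y)).ncard = 2 := by rw [s2, Set.ncard_pair hSR]
  have n3 : (supp N (x * y * z)).ncard = 3 := by
    rw [s3, Set.ncard_eq_three]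
    exact ⟨S, R, Q, hSR, hSQ, hRQ, rfl⟩
  have n0 : (supp N (1 : G)).ncard = 0 := by
    have : supp N (1 : G) = ∅ := by
      rw [Set.eq_empty_iff_forall_notMem]
      rintro U ⟨-, hU⟩
      exact hU fun t _ => Commute.one_left t
    rw [this, Set.ncard_empty]
  have m2 : x * y ≠ 1 := fun h0 => by rw [h0, n0] at n2; omega
  have m3 : x * y * z ≠ 1 := fun h0 => by rw [h0, n0] at n3; omega
  have hcxy : Commute x y := C.comm S hS R hR hSR x hxS y hyR
  have hxyo : orderOf (x * y) = p := orderOf_eq_prime (by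
    rw [hcxy.mul_pow, ← hx, pow_orderOf_eq_one, hx, ← hy, pow_orderOf_eq_one, one_mul]) m2
  have o2 := order_mul hx hy hcxy m2 hp'
  have o3 := order_mul hxyo hz ((C.comm S hS Q hQ hSQ x hxS z hzQ).mul_left (C.comm R hR Q hQ hRQ y hyR z hzQ)) m3 hp'
  have c12 : ¬ IsConj x (x * y) := fun h0 => by
    have := ncard_supp (N := N) h0
    omega
  have c13 : ¬ IsConj x (x * y * z) := fun h0 => by
    have := ncard_supp (N := N) h0
    omega
  have c23 := h.conj hx1 m2 m3 ⟨1, by rw [pow_one]; exact hx⟩ o2 o3 c12 c13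
  have := ncard_supp (N := N) c23
  omega

end Cfsg.Agent.H649.ThreeCls
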