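import Cfsg.Agent.H649.ThreeComp

/-!
# At most two classes of nontrivial `p`-elements: the case of two components
-/

set_option autoImplicit false
set_option linter.style.haveILetI false

universe u

namespace Cfsg.Agent.H649.ThreeCls

open Subgroup
open Cfsg.Agent.H697.Pk Cfsg.Agent.H697.OneClass
open Cfsg.Agent.Lib.MinNormalNonabelian Cfsg.Agent.Lib.MinNormal

variable {G : Type u} [Group G] [Finite G] {p : ℕ} [hp : Fact p.Prime] {N : Subgroup G} [N.Normal]

theorem Comps.two_ge (C : Comps p N) (h : Two p G) (h1 : RowNC.{u} p) (h2 : RowIM.{u} p) {S T : Subgroup G}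
    (hT : T ∈ minSet N) (hS : S ∈ minSet N) (hTS : T ≠ S) : p ≤ 2 * Nat.card (PReg p G) := by
  classical
  have hp' := hp.out
  have hmem : ∀ R ∈ minSet N, R = T ∨ R = S := by
    intro R hR
    by_cases hRT : R = T
    · exact Or.inl hRT
    · exact Or.inr (C.two h hT hS hR hTS (Ne.symm hRT))
  obtain ⟨x, hxT, hx⟩ := exists_order (C.dvd T hT)
  obtain ⟨y, hyS, hy⟩ := exists_order (C.dvd S hS)
  have hx1 := ne_one_of_order hx hp'
  have hy1 := ne_one_of_order hy hp'
  have hcxy : Commute x y := C.comm T hT S hS hTS x hxT y hyS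
  have s2 := C.supp_pair hT hS hTS hxT hx1 hyS hy1
  have n2 : (supp N (x * y)).ncard = 2 := by rw [s2, Set.ncard_pair hTS]
  have n0 : (supp N (1 : G)).ncard = 0 := by
    have : supp N (1 : G) = ∅ := by
      rw [Set.eq_empty_iff_forall_notMem]
      rintro U ⟨-, hU⟩
      exact hU fun t _ => Commute.one_left t
    rw [this, Set.ncard_empty]
  have m2 : x * y ≠ 1 := fun h0 => by rw [h0, n0] at n2; omega
  have o2 := order_mul hx hy hcxy m2 hp'
  have hTN : T ≤ N := hT.1
  have hSN : S ≤ N := hS.1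
  have hNn : N.Normal := inferInstance
  -- the `p`-elements of `T`
  have hclT : ∀ z ∈ T, z ≠ 1 → (∃ k : ℕ, orderOf z = p ^ k) → IsConj x z := by
    intro z hz hz1 hzk
    by_contra hno
    have c12 : ¬ IsConj x (x * y) := fun h0 => by
      have := ncard_supp (N := N) h0
      rw [C.supp_eq hT hxT hx1, Set.ncard_singleton] at this
      omega
    have h3 := h.conj hx1 hz1 m2 ⟨1, by rw [pow_one]; exact hx⟩ hzk o2 hno c12
    have h4 := ncard_supp (N := N) h3
    rw [C.supp_eq hT hz hz1, Set.ncard_singleton] at h4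
    omega
  -- all `p`-elements are in `N`
  have hpN : ∀ z : G, z ≠ 1 → (∃ k : ℕ, orderOf z = p ^ k) → z ∈ N := by
    intro z hz1 hzk
    have c12 : ¬ IsConj x (x * y) := fun h0 => by
      have := ncard_supp (N := N) h0
      rw [C.supp_eq hT hxT hx1, Set.ncard_singleton] at this
      omega
    by_cases hxz : IsConj x z
    · obtain ⟨c, rfl⟩ := isConj_iff.1 hxz
      exact hNn.conj_mem x (hTN hxT) c
    · obtain ⟨c, rfl⟩ := isConj_iff.1 (h.conj hx1 m2 hz1 ⟨1, by rw [pow_one]; exact hx⟩ o2 hzk c12 hxz)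
      exact hNn.conj_mem _ (N.mul_mem (hTN hxT) (hSN hyS)) c
  -- elements of `N`
  have hNmul : ∀ z ∈ N, ∃ t ∈ T, ∃ s ∈ S, t * s = z := by
    intro z hz
    have h3 : sSup (minSet N) ≤ T ⊔ S := by
      apply sSup_le
      intro R hR
      rcases hmem R hR with rfl | rfl
      · exact le_sup_left
      · exact le_sup_right
    rw [C.sup] at h3
    have h4 : T ≤ normalizer (S : Set G) := hTN.trans hS.2.2.1
    have h5 := coe_mul_of_left_le_normalizer_right T S h4
    have h6 : z ∈ ((T ⊔ S : Subgroup G) : Set G) := h3 hz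
    rw [h5] at h6
    obtain ⟨t, ht, s, hs, rfl⟩ := h6
    exact ⟨t, ht, s, hs, rfl⟩
  -- the normaliser
  set H : Subgroup G := normalizer (T : Set G) with hHdef
  have hHmem : ∀ g : G, g ∈ H ↔ T.map (MulAut.conj g).toMonoidHom = T := fun g => mem_normalizer_iff_map_conj_eq
  obtain ⟨g₀, hg₀⟩ := C.trans T hT S hS
  have hinj : ∀ g : G, ∀ R Q : Subgroup G, R.map (MulAut.conj g).toMonoidHom = Q.map (MulAut.conj g).toMonoidHom →
      R = Q := fun g R Q h => Subgroup.map_injective (MulAut.conj g).injective h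
  have hcase : ∀ g : G, g ∈ H ∨ T.map (MulAut.conj g).toMonoidHom = S := by
    intro g
    rcases hmem _ (map_conj_mem_minSet hT g) with h3 | h3
    · exact Or.inl ((hHmem g).2 h3)
    · exact Or.inr h3
  have hH2 : ∀ g : G, g ∈ H ∨ g₀⁻¹ * g ∈ H := by
    intro g
    rcases hcase g with h3 | h3
    · exact Or.inl h3
    · right
      rw [hHmem, ← map_conj_map_conj, h3, hg₀, map_conj_map_conj, inv_mul_cancel, map_conj_one]
  have hgS : S.map (MulAut.conj g₀).toMonoidHom = T := by
    rcases hmem _ (map_conj_mem_minSet hS g₀) with h3 | h3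
    · exact h3
    · exfalso
      apply hTS
      apply hinj g₀
      rw [h3]
      exact hg₀.symm
  have hHn : ∀ k ∈ H, g₀ * k * g₀⁻¹ ∈ H := by
    intro k hk
    have hkT := (hHmem k).1 hk
    have hkS : S.map (MulAut.conj k).toMonoidHom = S := by
      rcases hmem _ (map_conj_mem_minSet hS k) with h3 | h3
      · exfalso
        apply hTS
        apply hinj k
        rw [h3]
        exact hkT
      · exact h3
    have h4 : T.map (MulAut.conj g₀⁻¹).toMonoidHom = S := by
      apply hinj g₀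
      rw [map_conj_map_conj, mul_inv_cancel, map_conj_one, hgS]
    rw [hHmem, ← map_conj_map_conj, h4, ← map_conj_map_conj, hkS, hgS]
  refine le_trans ?_ (card_le_two_mul H g₀ hH2 hHn)
  -- the automizer
  let f : H →* MulAut T := T.normalizerMonoidHom
  have hf : ∀ (n : H) (t : T), ((f n t : T) : G) = n * t * (n : G)⁻¹ := fun _ _ => rfl
  refine le_trans ?_ (card_le_of_surjective f.rangeRestrict f.rangeRestrict_surjective)
  have hTH : T ≤ H := le_normalizer
  have hfone : ∀ k (hk : k ∈ H), (∀ t ∈ T, Commute k t) → f ⟨k, hk⟩ = 1 := by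
    intro k hk hkc
    apply MulEquiv.ext
    intro t
    apply Subtype.ext
    rw [hf]
    show k * t * k⁻¹ = t
    rw [(hkc t t.2).eq, mul_inv_cancel_right]
  refine one_ge h1 h2 ?_ ?_
  · intro hsol
    have hsimp := C.simple T hT
    refine not_pSolvable (T := T) (p := p) ?_ (C.dvd T hT) ?_
    · intro z hz
      apply Subtype.ext
      exact C.cent T hT z z.2 fun t ht => congrArg Subtype.val (hz ⟨t, ht⟩).eq
    · refine Lib.PSolvable.IsPSolvable_of_injective p hsol (f.rangeRestrict.comp (Subgroup.inclusion hTH)) ?_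
      rw [← MonoidHom.ker_eq_bot_iff, eq_bot_iff]
      intro z hz
      rw [Subgroup.mem_bot]
      have h3 : f (Subgroup.inclusion hTH z) = 1 := congrArg Subtype.val (MonoidHom.mem_ker.1 hz)
      apply Subtype.ext
      apply C.cent T hT z z.2
      intro t ht
      have h4 := congrArg (fun φ : MulAut T => ((φ ⟨t, ht⟩ : T) : G)) h3
      have h5 : (z : G) * t * (z : G)⁻¹ = t := h4
      exact mul_inv_eq_iff_eq_mul.1 h5
  · -- one class
    have key : ∀ α : f.range, α ≠ 1 → (∃ k : ℕ, orderOf α = p ^ k) →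
        ∃ t : T, t ≠ 1 ∧ (∃ k : ℕ, orderOf (t : G) = p ^ k) ∧ f.rangeRestrict ⟨t, hTH t.2⟩ = α := by
      intro α hα hαk
      obtain ⟨⟨u, huH⟩, rfl, hu⟩ := Cfsg.Agent.H697.PSolvA.exists_lift_pow f.rangeRestrict
        f.rangeRestrict_surjective hαk
      have hu1 : u ≠ 1 := by
        rintro rfl
        exact hα (map_one _)
      obtain ⟨k, hk⟩ := hu
      have hk' : orderOf u = p ^ k := by
        rw [← hk]
        exact (Subgroup.orderOf_coe (⟨u, huH⟩ : H))
      obtain ⟨t, ht, s, hs, hts⟩ := hNmul u (hpN u hu1 ⟨k, hk'⟩)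
      have hcts : Commute t s := C.comm T hT S hS hTS t ht s hs
      have hsC : ∀ t ∈ T, Commute s t := fun t ht => (C.comm T hT S hS hTS t ht s hs).symm
      have hsH : s ∈ H := by
        have h3 : s = t⁻¹ * u := by rw [← hts, inv_mul_cancel_left]
        rw [h3]
        exact H.mul_mem (H.inv_mem (hTH ht)) huH
      have hfu : f.rangeRestrict ⟨u, huH⟩ = f.rangeRestrict ⟨t, hTH ht⟩ := by
        have h3 : (⟨u, huH⟩ : H) = ⟨t, hTH ht⟩ * ⟨s, hsH⟩ := Subtype.ext hts.symm
        rw [h3, map_mul]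
        have h4 : f.rangeRestrict ⟨s, hsH⟩ = 1 := Subtype.ext (hfone s hsH hsC)
        rw [h4, mul_one]
      refine ⟨⟨t, ht⟩, ?_, ?_, hfu.symm⟩
      · intro h0
        apply hα
        rw [hfu]
        have h30 : t = 1 := congrArg (fun w : T => (w : G)) h0
        have h3 : (⟨t, hTH ht⟩ : H) = 1 := Subtype.ext h30
        rw [h3, map_one]
      · have h3 : (t * s) ^ p ^ k = 1 := by rw [hts, ← hk', pow_orderOf_eq_one]
        rw [hcts.mul_pow] at h3
        have h4 : t ^ p ^ k = 1 := by
          apply C.cent T hT _ (T.pow_mem ht _)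
          intro r hr
          rw [mul_eq_one_iff_eq_inv.1 h3]
          exact ((hsC r hr).pow_left _).inv_left
        obtain ⟨j, -, hj⟩ := (Nat.dvd_prime_pow hp').1 (orderOf_dvd_of_pow_eq_one h4)
        exact ⟨j, hj⟩
    intro α β hα hβ hαk hβk
    obtain ⟨t, ht1, htk, rfl⟩ := key α hα hαk
    obtain ⟨s, hs1, hsk, rfl⟩ := key β hβ hβk
    have e1 := hclT t t.2 (fun h0 => ht1 (Subtype.ext h0)) htk
    have e2 := hclT s s.2 (fun h0 => hs1 (Subtype.ext h0)) hsk
    obtain ⟨g, hg⟩ := isConj_iff.1 (e1.symm.trans e2)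
    have hgH : g ∈ H := by
      rw [hHmem]
      by_contra hne
      apply hs1
      apply Subtype.ext
      apply C.cent T hT s s.2
      intro r hr
      have hmm : (s : G) ∈ T.map (MulAut.conj g).toMonoidHom := ⟨t, t.2, hg⟩
      exact C.comm _ (map_conj_mem_minSet hT g) T hT hne s hmm r hr
    refine isConj_iff.2 ⟨f.rangeRestrict ⟨g, hgH⟩, ?_⟩
    rw [← map_inv, ← map_mul, ← map_mul]
    congr 1
    exact Subtype.ext hg

end Cfsg.Agent.H649.ThreeCls
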