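import Cfsg.Agent.H649.ThreeBase
import Cfsg.Agent.H970.CycOne

/-!
# A Sylow subgroup of order `p` with two classes of nontrivial `p`-elements
-/

set_option autoImplicit false
set_option linter.style.haveILetI false

universe u

namespace Cfsg.Agent.H649.ThreeCls

open Subgroup MulAction Cfsg Cfsg.Agent.H608.BlockRank
open Cfsg.Agent.H697.Pk Cfsg.Agent.H970.CycOne

variable {G : Type*} [Group G] [Finite G] {p : ℕ} [hp : Fact p.Prime]

theorem rank_add_one_le (P : Sylow p G) (hP : Nat.card (P : Subgroup G) = p) (M : Ideal Cfsg.AlgInt)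
    (hM : Cfsg.IsPModular p M) (χ : Cfsg.IrrCharacter G)
    (hχ : p ∣ Cfsg.charDegree (χ : G → ℂ)) :
    Cfsg.blockRank p (Cfsg.principalBlock M G) + 1 ≤ Nat.card (PReg p G) := by
  have hMp := Cfsg.Agent.Blocks.Local.isPrime_of_isPModular hM
  obtain ⟨hd1, hd0, hdd⟩ := S0914.degree_spec χ
  have hpp : ¬ p ∣ Nat.card G / Cfsg.charDegree (χ : G → ℂ) := by
    intro h
    have h1 : p ^ 2 ∣ Nat.card G := by
      rw [← Nat.mul_div_cancel' hdd, pow_two]
      exact mul_dvd_mul hχ h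
    have h2 := P.pow_dvd_card_of_pow_dvd_card h1
    rw [hP] at h2
    have h3 := Nat.le_of_dvd hp.out.pos h2
    have h4 := hp.out.two_le
    nlinarith
  have hs := (S0914.result p M hM χ).1 hpp
  have hblk : IsPBlock M ({χ} : Set (IrrCharacter G)) := ⟨χ, hs.symm⟩
  have hprin := Cfsg.Agent.Blocks.PrincipalSection.isPBlock_principalBlock (K := G) (M := M)
  have hdisj : Disjoint (Cfsg.principalBlock M G) {χ} := by
    rw [Set.disjoint_singleton_right]
    intro h
    have h1 := Cfsg.Agent.Blocks.Basic.isPBlock_eq_of_mem hprin hblk h (Set.mem_singleton χ)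
    have h2 := Cfsg.Agent.Blocks.PrincipalSection.one_mem_principalBlock (K := G) (M := M)
    rw [h1, Set.mem_singleton_iff] at h2
    rw [← h2] at hd1 hχ
    have h3 : Cfsg.charDegree (((⟨fun _ => 1, Cfsg.Agent.Blocks.Basic.isIrrCharacter_one⟩ : IrrCharacter G)) : G → ℂ) = 1 := by
      have h4 : ((Cfsg.charDegree (((⟨fun _ => 1, Cfsg.Agent.Blocks.Basic.isIrrCharacter_one⟩ :
        IrrCharacter G)) : G → ℂ) : ℕ) : ℂ) = 1 := hd1.symm
      exact_mod_cast h4
    rw [h3, Nat.dvd_one] at hχ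
    exact hp.out.one_lt.ne' hχ
  have h1 := blockRank_union hM (isUnion_of_isPBlock hprin) (isUnion_of_isPBlock hblk) hdisj
  have h2 := blockRank_mono p (Set.subset_univ (Cfsg.principalBlock M G ∪ {χ}))
  have h3 := blockRank_pos p (Set.mem_singleton χ)
  have h4 : _ ≤ Nat.card (PReg p G) := blockRank_univ_le (G := G) p
  omega

theorem sylow_order (P : Sylow p G) {z : G} (hz : z ∈ P) : ∃ k : ℕ, orderOf z = p ^ k := by
  obtain ⟨k, hk⟩ := IsPGroup.iff_orderOf.1 P.isPGroup' ⟨z, hz⟩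
  exact ⟨k, by rw [← hk]; exact (Subgroup.orderOf_coe (⟨z, hz⟩ : (P : Subgroup G)))⟩

theorem exists_conj_mem (P : Sylow p G) {z : G} (hz1 : z ≠ 1) (hz : ∃ k : ℕ, orderOf z = p ^ k) :
    ∃ z' ∈ P, z' ≠ 1 ∧ IsConj z z' := by
  obtain ⟨k, hk⟩ := hz
  have hZ : IsPGroup p (zpowers z) := IsPGroup.of_card (n := k) (by rw [Nat.card_zpowers, hk])
  obtain ⟨S, hS⟩ := hZ.exists_le_sylow
  obtain ⟨g, hg⟩ := MulAction.exists_smul_eq G S P
  refine ⟨g * z * g⁻¹, ?_, ?_, isConj_iff.2 ⟨g, rfl⟩⟩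
  · rw [← hg]
    exact Subgroup.smul_mem_pointwise_smul z (MulAut.conj g) (S : Subgroup G) (hS (mem_zpowers z))
  · intro h
    exact hz1 (conj_eq_one_iff.1 h)

theorem cyc_case (P : Sylow p G) (hP : Nat.card (P : Subgroup G) = p) (h : Two p G) (χ : Cfsg.IrrCharacter G)
    (hχ : p ∣ Cfsg.charDegree (χ : G → ℂ)) : p ≤ 2 * Nat.card (PReg p G) := by
  classical
  by_cases hall : ∀ x y : G, x ≠ 1 → y ≠ 1 → (∃ k : ℕ, orderOf x = p ^ k) → (∃ k : ℕ, orderOf y = p ^ k) →
      IsConj x y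
  · have h1 : p ≤ Nat.card (PReg p G) := card_of_degree p P hP (relIndex_eq p P hP hall) χ hχ
    omega
  push Not at hall
  obtain ⟨a, b, ha1, hb1, hak, hbk, hab⟩ := hall
  obtain ⟨x, hx, hx1, hax⟩ := exists_conj_mem P ha1 hak
  obtain ⟨y, hy, hy1, hby⟩ := exists_conj_mem P hb1 hbk
  have hxy : ¬ IsConj x y := fun h0 => hab (hax.trans (h0.trans hby.symm))
  have hxk := sylow_order P hx
  have hyk := sylow_order P hy
  have hcov : ∀ z : G, z ≠ 1 → (∃ k : ℕ, orderOf z = p ^ k) → IsConj z x ∨ IsConj z y := by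
    intro z hz1 hzk
    by_cases hxz : IsConj x z
    · exact Or.inl hxz.symm
    · exact Or.inr (h.conj hx1 hz1 hy1 hxk hzk hyk hxz hxy)
  set e := (centralizer ((P : Subgroup G) : Set G)).relIndex (normalizer ((P : Subgroup G) : Set G)) with he
  have : IsCyclic (P : Subgroup G) := isCyclic_of_prime_card hP
  have : IsMulCommutative (P : Subgroup G) := ⟨⟨IsCyclic.commGroup.mul_comm⟩⟩
  have hburn : ∀ u ∈ P, ∀ v ∈ P, IsConj u v →
      v ∈ {y : G | ∃ n ∈ normalizer ((P : Subgroup G) : Set G), n * u * n⁻¹ = y} := by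
    intro u hu v hv huv
    obtain ⟨g, hg⟩ := isConj_iff.1 huv
    have h1 : (g⁻¹)⁻¹ * u * g⁻¹ = v := by rw [inv_inv, hg]
    obtain ⟨n, hn, hn2⟩ := P.conj_eq_normalizer_conj_of_mem u g⁻¹ hu (by rw [h1]; exact hv)
    refine ⟨n⁻¹, inv_mem hn, ?_⟩
    rw [inv_inv, ← hn2, h1]
  -- counting
  have h2e : p - 1 = 2 * e := by
    have hu : ((P : Subgroup G) : Set G) \ {1} =
        {z : G | ∃ n ∈ normalizer ((P : Subgroup G) : Set G), n * x * n⁻¹ = z} ∪
        {z : G | ∃ n ∈ normalizer ((P : Subgroup G) : Set G), n * y * n⁻¹ = z} := by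
      apply Set.Subset.antisymm
      · rintro z ⟨hz, hz1⟩
        rcases hcov z hz1 (sylow_order P hz) with h1 | h1
        · exact Or.inl (hburn x hx z hz h1.symm)
        · exact Or.inr (hburn y hy z hz h1.symm)
      · exact Set.union_subset (sub_compl hx hx1) (sub_compl hy hy1)
    have hd : Disjoint {z : G | ∃ n ∈ normalizer ((P : Subgroup G) : Set G), n * x * n⁻¹ = z}
        {z : G | ∃ n ∈ normalizer ((P : Subgroup G) : Set G), n * y * n⁻¹ = z} := by
      rw [Set.disjoint_left]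
      rintro z ⟨n, -, hn⟩ ⟨m, -, hm⟩
      exact hxy ((isConj_iff.2 ⟨n, hn⟩).trans (isConj_iff.2 ⟨m, hm⟩).symm)
    rw [← ncard_diff hP, hu, Set.ncard_union_eq hd, orbit_card hP hx hx1, orbit_card hP hy hy1, two_mul]
  have hp3 : p ≠ 2 := by
    intro h0
    rw [h0] at h2e
    omega
  have he0 : 0 < e := by
    rcases Nat.eq_zero_or_pos e with h0 | h0
    · rw [h0] at h2e
      have := hp.out.two_le
      omega
    · exact h0
  obtain ⟨M, hM⟩ := Cfsg.Agent.Blocks.Knorr.exists_isPModular p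
  have h1o : ∃ k : ℕ, orderOf (1 : G) = p ^ k := ⟨0, by simp⟩
  have hx1' : (1 : G) ∉ ({x, y} : Finset G) := by
    rw [Finset.mem_insert, Finset.mem_singleton, not_or]
    exact ⟨Ne.symm hx1, Ne.symm hy1⟩
  have hxy' : x ≠ y := fun h0 => hxy (h0 ▸ IsConj.refl x)
  have hcard := H634.Cols.card_principal_eq (G := G) hM ({1, x, y} : Finset G) (by
    intro z hz
    simp only [Finset.mem_insert, Finset.mem_singleton] at hz
    rcases hz with rfl | rfl | rfl
    · exact h1o
    · exact hxk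
    · exact hyk) (by
    intro g hg
    by_cases hg1 : g = 1
    · subst hg1
      refine ⟨1, ⟨by simp, IsConj.refl _⟩, ?_⟩
      rintro z ⟨-, hz⟩
      exact isConj_one_right.1 hz
    · rcases hcov g hg1 hg with h1 | h1
      · refine ⟨x, ⟨by simp, h1⟩, ?_⟩
        rintro z ⟨hz, hgz⟩
        simp only [Finset.mem_insert, Finset.mem_singleton] at hz
        rcases hz with rfl | rfl | rfl
        · exact absurd (isConj_one_right.1 hgz.symm) hg1
        · rfl
        · exact absurd (h1.symm.trans hgz) hxy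
      · refine ⟨y, ⟨by simp, h1⟩, ?_⟩
        rintro z ⟨hz, hgz⟩
        simp only [Finset.mem_insert, Finset.mem_singleton] at hz
        rcases hz with rfl | rfl | rfl
        · exact absurd (isConj_one_right.1 hgz.symm) hg1
        · exact absurd (hgz.symm.trans h1) hxy
        · rfl)
  rw [Finset.sum_insert hx1', Finset.sum_pair hxy', rank_cent p P hP M hM hx hx1,
    rank_cent p P hP M hM hy hy1] at hcard
  have h3 : Cfsg.blockRank p (Cfsg.principalBlock M ↥(Subgroup.centralizer ({(1 : G)} : Set G))) =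
      Cfsg.blockRank p (Cfsg.principalBlock M G) := by
    rw [← H634.Cols.finrank_secMap_principal hM h1o, H634.Cols.finrank_secMap_one]
  have h4 := (S0960.result p M hM hp3 P hP e rfl).1
  have h5 : (p - 1) / e = 2 := by
    rw [h2e]
    exact Nat.mul_div_cancel 2 he0
  rw [h3, h4, h5] at hcard
  have h6 := rank_add_one_le P hP M hM χ hχ
  have := hp.out.two_le
  omega

end Cfsg.Agent.H649.ThreeCls
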