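import Cfsg.Agent.H649.ThreeComp2
import Cfsg.Agent.H649.ThreeCyc
import Cfsg.Agent.H455.ExtraIndexP
import Cfsg.Agent.H571.SylowNumber

/-!
# Groups that are not `p`-solvable with at most two classes of nontrivial `p`-elements:
`2 k_{p'}(G) ≥ p`
-/

set_option autoImplicit false
set_option linter.style.haveILetI false

universe u

namespace Cfsg.Agent.H649.ThreeCls

open Subgroup
open Cfsg.Agent.H697.Pk Cfsg.Agent.H697.OneClass
open Cfsg.Agent.Lib.MinNormalNonabelian Cfsg.Agent.Lib.MinNormal

variable {G : Type u} [Group G] [Finite G] {p : ℕ} [hp : Fact p.Prime]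

/-- Cyclic Sylow subgroups have order `p`. -/
theorem cyclic_card (P : Sylow p G) (hcyc : IsCyclic (P : Subgroup G)) (h : Two p G) (hdiv : p ∣ Nat.card G) :
    Nat.card (P : Subgroup G) = p := by
  have hp' := hp.out
  obtain ⟨⟨u, huP⟩, hu⟩ := IsCyclic.exists_ofOrder_eq_natCard (α := (P : Subgroup G))
  rw [← Subgroup.orderOf_coe] at hu
  have hu2 : orderOf u = Nat.card (P : Subgroup G) := hu
  obtain ⟨a, ha⟩ := (IsPGroup.iff_card).1 P.isPGroup'
  have h1 := P.dvd_card_of_dvd_card hdiv
  rcases Nat.lt_or_ge a 2 with ha2 | ha2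
  · have : a = 0 ∨ a = 1 := by omega
    rcases this with rfl | rfl
    · rw [ha, pow_zero] at h1
      exact absurd (Nat.dvd_one.1 h1) hp'.one_lt.ne'
    · rw [ha, pow_one]
  · exfalso
    have hzP : zpowers u = (P : Subgroup G) := by
      refine Subgroup.eq_of_le_of_card_ge (zpowers_le.2 huP) ?_
      rw [Nat.card_zpowers, hu2]
    have huo : orderOf u = p ^ a := by rw [hu2, ha]
    set x := u ^ p ^ (a - 1) with hx
    have hxo : orderOf x = p := by
      rw [hx, orderOf_pow_of_dvd (pow_ne_zero _ hp'.ne_zero) (by rw [huo]; exact pow_dvd_pow p (by omega)), huo,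
        Nat.pow_div (by omega) hp'.pos]
      have : a - (a - 1) = 1 := by omega
      rw [this, pow_one]
    have hx1 : x ≠ 1 := ne_one_of_order hxo hp'
    have hcux : Commute u x := (Commute.refl u).pow_right _
    have hu1 : u ≠ 1 := by
      intro h0
      rw [hx, h0, one_pow] at hx1
      exact hx1 rfl
    have hxpow : x ^ p ^ (a - 1) = 1 := by
      have h2 : p ^ (a - 1) = p * p ^ (a - 2) := by
        rw [← pow_succ']
        congr 1
        omega
      rw [h2, pow_mul, ← hxo, pow_orderOf_eq_one, one_pow]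
    have hup : ∀ m : ℕ, u ^ m = 1 → p ^ a ∣ m := fun m hm => by
      rw [← huo]
      exact orderOf_dvd_of_pow_eq_one hm
    have hpp : ¬ p ^ a ∣ p := by
      intro h2
      have h3 := Nat.le_of_dvd hp'.pos h2
      have h4 : p ^ 2 ≤ p ^ a := Nat.pow_le_pow_right hp'.pos ha2
      have := hp'.two_le
      nlinarith
    have hvP : u * x ∈ (P : Subgroup G) := by
      rw [← hzP]
      exact (zpowers u).mul_mem (mem_zpowers u) ((zpowers u).pow_mem (mem_zpowers u) _)
    have hvp : (u * x) ^ p ≠ 1 := by
      intro h2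
      rw [hcux.mul_pow, ← hxo, pow_orderOf_eq_one, mul_one, hxo] at h2
      exact hpp (hup p h2)
    have hv1 : u * x ≠ 1 := by
      intro h2
      rw [h2, one_pow] at hvp
      exact hvp rfl
    have hxu : ¬ IsConj x u := by
      intro h2
      obtain ⟨c, hc⟩ := isConj_iff.1 h2
      have h3 : orderOf u = orderOf x := by
        rw [← hc]
        exact (MulAut.conj c).orderOf_eq x
      rw [huo, hxo] at h3
      exact hpp (by rw [h3])
    have hxv : ¬ IsConj x (u * x) := by
      intro h2
      obtain ⟨c, hc⟩ := isConj_iff.1 h2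
      apply hvp
      rw [← hc, conj_pow, ← hxo, pow_orderOf_eq_one]
      group
    obtain ⟨g, hg⟩ := isConj_iff.1 (h.conj hx1 hu1 hv1 ⟨1, by rw [pow_one]; exact hxo⟩ ⟨a, huo⟩
      (sylow_order P hvP) hxu hxv)
    have : IsMulCommutative (P : Subgroup G) := ⟨⟨IsCyclic.commGroup.mul_comm⟩⟩
    have h2 : (g⁻¹)⁻¹ * u * g⁻¹ = u * x := by rw [inv_inv, hg]
    obtain ⟨n', hn', hn2⟩ := P.conj_eq_normalizer_conj_of_mem u g⁻¹ huP (by rw [h2]; exact hvP)
    rw [h2] at hn2
    set n := n'⁻¹ with hndef
    have hn : n ∈ normalizer ((P : Subgroup G) : Set G) := inv_mem hn'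
    have hnu : n * u * n⁻¹ = u * x := by rw [hndef, inv_inv, ← hn2]
    have hnx : n * x * n⁻¹ = x := by
      rw [hx, ← conj_pow, hnu, hcux.mul_pow, hxpow, mul_one]
    have hk : ∀ k : ℕ, n ^ k * u * (n ^ k)⁻¹ = u * x ^ k := by
      intro k
      induction k with
      | zero => simp
      | succ k ih =>
        have h3 : n * x ^ k * n⁻¹ = x ^ k := by rw [← conj_pow, hnx]
        calc n ^ (k + 1) * u * (n ^ (k + 1))⁻¹ = n * (n ^ k * u * (n ^ k)⁻¹) * n⁻¹ := by
              rw [pow_succ' n k]; group
          _ = n * (u * x ^ k) * n⁻¹ := by rw [ih]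
          _ = (n * u * n⁻¹) * (n * x ^ k * n⁻¹) := by group
          _ = u * x ^ (k + 1) := by rw [hnu, h3, mul_assoc, ← pow_succ']
    set C := centralizer ((P : Subgroup G) : Set G) with hC
    set Nn := normalizer ((P : Subgroup G) : Set G) with hNn
    have hnorm : (C.subgroupOf Nn).Normal := by
      rw [hC, hNn]
      have := (P : Subgroup G).normalizerMonoidHom_ker
      rw [← this]
      infer_instance
    have h4 := Subgroup.pow_index_mem (C.subgroupOf Nn) ⟨n, hn⟩
    set m := (C.subgroupOf Nn).index with hm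
    have h5 : n ^ m ∈ C := by
      have := Subgroup.mem_subgroupOf.1 h4
      exact this
    have h6 : n ^ m * u * (n ^ m)⁻¹ = u := by
      rw [mul_inv_eq_iff_eq_mul]
      exact (Subgroup.mem_centralizer_iff.1 h5 u huP).symm
    rw [hk m] at h6
    have h7 : x ^ m = 1 := mul_eq_left.1 h6
    have h8 : p ∣ m := by
      rw [← hxo]
      exact orderOf_dvd_of_pow_eq_one h7
    have hPC : (P : Subgroup G) ≤ C := by
      intro z hz
      rw [hC, Subgroup.mem_centralizer_iff]
      intro w hw
      exact congrArg Subtype.val (‹IsMulCommutative (P : Subgroup G)›.is_comm.comm ⟨w, hw⟩ ⟨z, hz⟩)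
    have hCN : C ≤ Nn := Subgroup.centralizer_le_normalizer _
    have h9 : m ∣ (P : Subgroup G).index := by
      have e1 := Subgroup.relIndex_mul_relIndex (P : Subgroup G) C Nn hPC hCN
      have e2 := Subgroup.relIndex_mul_index (hPC.trans hCN)
      rw [← e2, ← e1]
      exact Dvd.dvd.mul_right (Dvd.intro_left _ rfl) _
    exact P.not_dvd_index (h8.trans h9)

/-- The theorem of Gross. -/
def Gross (p : ℕ) : Prop :=
  ∀ (T : Type u) [Group T] [Finite T], Cfsg.pPrimeCore p T = ⊥ → ∀ (P : Sylow p T) (α : MulAut T),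
    (∃ j : ℕ, orderOf α = p ^ j) → (∀ x ∈ (P : Subgroup T), α x = x) → ∃ g : T, ∀ x : T, α x = g * x * g⁻¹

theorem one_le_card : 1 ≤ Nat.card (PReg p G) := by
  have : Nonempty (PReg p G) := ⟨mkReg 1 (by rw [orderOf_one]; exact hp.out.one_lt.ne' ∘ Nat.dvd_one.1)⟩
  exact Nat.card_pos

/-- the almost simple case -/
theorem single (h1 : RowNC.{u} p) (h2 : RowIM.{u} p) (hGr : p ≠ 2 → Gross.{u} p) (T : Subgroup G) [hTn : T.Normal]
    [hTs : IsSimpleGroup T] (hTc : ∀ z ∈ T, (∀ t ∈ T, Commute z t) → z = 1)
    (hTC : ∀ g : G, (∀ t ∈ T, Commute g t) → g = 1) (hd : p ∣ Nat.card T) (h : Two p G) :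
    p ≤ 2 * Nat.card (PReg p G) := by
  classical
  have hp' := hp.out
  by_cases hp2 : p = 2
  · have := one_le_card (G := G) (p := p)
    omega
  have hTna : ¬ IsMulCommutative T := by
    intro h
    have : Nontrivial T := hTs.toNontrivial
    obtain ⟨z, hz⟩ := exists_ne (1 : T)
    apply hz
    apply Subtype.ext
    apply hTc z z.2
    intro t ht
    exact congrArg Subtype.val (h.is_comm.comm z ⟨t, ht⟩)
  by_cases hcyc : ∀ P : Sylow p T, IsCyclic (P : Subgroup T)
  · by_cases hout : ∀ z : G, (∃ k : ℕ, orderOf z = p ^ k) → z ∈ T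
    · obtain ⟨P⟩ : Nonempty (Sylow p G) := inferInstance
      have hPT : (P : Subgroup G) ≤ T := fun x hx => hout x (sylow_order P hx)
      have hPc : IsCyclic (P : Subgroup G) := by
        have h4 := hcyc (P.subtype hPT)
        have h5 : ((P.subtype hPT : Sylow p T) : Subgroup T) = (P : Subgroup G).subgroupOf T := rfl
        rw [h5] at h4
        exact isCyclic_of_surjective (Subgroup.subgroupOfEquivOfLe hPT).toMonoidHom
          (Subgroup.subgroupOfEquivOfLe hPT).surjective
      have hPcard := cyclic_card P hPc h (hd.trans (Subgroup.card_subgroup_dvd_card T))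
      have hPn : ¬ (P : Subgroup G).Normal := by
        intro hn
        have h4 : ((P : Subgroup G).subgroupOf T).Normal := inferInstance
        rcases hTs.eq_bot_or_eq_top_of_normal _ h4 with h5 | h5
        · rw [Subgroup.subgroupOf_eq_bot] at h5
          have h6 : (P : Subgroup G) = ⊥ := by
            rw [eq_bot_iff]
            intro x hx
            exact Subgroup.disjoint_def.1 h5 hx (hPT hx)
          rw [h6, Subgroup.card_bot] at hPcard
          exact hp'.one_lt.ne hPcard
        · rw [Subgroup.subgroupOf_eq_top] at h5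
          apply hTna
          refine ⟨⟨fun a b => Subtype.ext ?_⟩⟩
          have h6 := congrArg Subtype.val ((IsCyclic.commGroup (α := (P : Subgroup G))).mul_comm
            ⟨a, h5 a.2⟩ ⟨b, h5 b.2⟩)
          exact h6
      obtain ⟨χ, hχ⟩ := h2 G P hPn
      exact cyc_case P hPcard h χ hχ
    · exfalso
      push Not at hout
      obtain ⟨y, ⟨k, hyk⟩, hyT⟩ := hout
      have hy1 : y ≠ 1 := by
        rintro rfl
        exact hyT T.one_mem
      obtain ⟨x, hxT, hx⟩ := exists_order hd
      have hx1 := ne_one_of_order hx hp'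
      have hordT : ∀ q ∈ T, q ≠ 1 → (∃ k : ℕ, orderOf q = p ^ k) → orderOf q = p := by
        intro q hq hq1 hqk
        have c1 : ∀ w ∈ T, ¬ IsConj y w := by
          intro w hw h0
          obtain ⟨c, hc⟩ := isConj_iff.1 h0.symm
          exact hyT (hc ▸ hTn.conj_mem w hw c)
        obtain ⟨c, hc⟩ := isConj_iff.1 (h.conj hy1 hx1 hq1 ⟨k, hyk⟩ ⟨1, by rw [pow_one]; exact hx⟩ hqk
          (c1 x hxT) (c1 q hq))
        rw [← hc, ← hx]
        exact (MulAut.conj c).orderOf_eq x
      have hZ : IsPGroup p (zpowers y) := IsPGroup.of_card (n := k) (by rw [Nat.card_zpowers, hyk])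
      obtain ⟨P, hPy⟩ := hZ.exists_le_sylow
      have hyP : y ∈ P := hPy (mem_zpowers y)
      obtain ⟨Q, hQ⟩ := Cfsg.Agent.H571.SylowNumber.exists_sylow_inf P T
      have hQcyc := hcyc Q
      have hQcard : Nat.card (Q : Subgroup T) = p := by
        obtain ⟨q, hq⟩ := IsCyclic.exists_ofOrder_eq_natCard (α := (Q : Subgroup T))
        have h3 : orderOf ((q : T) : G) = Nat.card (Q : Subgroup T) := by
          rw [← hq, Subgroup.orderOf_coe, Subgroup.orderOf_coe]
        obtain ⟨j, hj⟩ := (IsPGroup.iff_card).1 Q.isPGroup'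
        have h4 : ((q : T) : G) ≠ 1 := by
          intro h0
          rw [h0, orderOf_one] at h3
          have h5 := Q.dvd_card_of_dvd_card hd
          rw [← h3] at h5
          exact hp'.one_lt.ne' (Nat.dvd_one.1 h5)
        rw [← h3]
        exact hordT _ (q : T).2 h4 ⟨j, by rw [h3, hj]⟩
      have hTPcard : Nat.card (T.subgroupOf (P : Subgroup G)) = p := by
        rw [hQ] at hQcard
        refine Eq.trans ?_ hQcard
        exact Nat.card_congr
          { toFun := fun z => ⟨⟨z.1.1, z.2⟩, z.1.2⟩
            invFun := fun z => ⟨⟨z.1.1, z.2⟩, z.1.2⟩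
            left_inv := fun _ => rfl
            right_inv := fun _ => rfl }
      have hcen := Cfsg.Agent.H455.ExtraIndexP.le_center_of_card P.isPGroup' (T.subgroupOf (P : Subgroup G)) hTPcard
      have hfix : ∀ q ∈ (Q : Subgroup T), (MulAut.conjNormal y : MulAut T) q = q := by
        intro q hq
        rw [hQ] at hq
        have hqP : (q : G) ∈ (P : Subgroup G) := hq
        have h3 : (⟨q, hqP⟩ : (P : Subgroup G)) ∈ T.subgroupOf (P : Subgroup G) := q.2
        have h4 := Subgroup.mem_center_iff.1 (hcen h3) ⟨y, hyP⟩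
        have h5 : y * (q : G) = q * y := congrArg Subtype.val h4
        apply Subtype.ext
        rw [MulAut.conjNormal_apply, h5, mul_inv_cancel_right]
      have hαk : ∃ j : ℕ, orderOf (MulAut.conjNormal y : MulAut T) = p ^ j := by
        have h3 : (MulAut.conjNormal y : MulAut T) ^ p ^ k = 1 := by
          rw [← map_pow, ← hyk, pow_orderOf_eq_one, map_one]
        obtain ⟨j, -, hj⟩ := (Nat.dvd_prime_pow hp').1 (orderOf_dvd_of_pow_eq_one h3)
        exact ⟨j, hj⟩
      have hcoreT : Cfsg.pPrimeCore p T = ⊥ := by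
        have hn := Lib.Cores.pPrimeCore_normal (G := T) p
        rcases hn.eq_bot_or_eq_top with h3 | h3
        · exact h3
        · exfalso
          have h4 := Lib.Cores.pPrimeCore_coprime (G := T) p
          rw [h3, Subgroup.card_top, Nat.coprime_comm] at h4
          exact (Nat.Prime.coprime_iff_not_dvd hp').1 h4 hd
      obtain ⟨g, hg⟩ := hGr hp2 T hcoreT Q (MulAut.conjNormal y) hαk hfix
      have h3 : (g : G)⁻¹ * y = 1 := by
        apply hTC
        intro t ht
        have h4 := congrArg Subtype.val (hg ⟨t, ht⟩)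
        rw [MulAut.conjNormal_apply] at h4
        have h5 : y * t * y⁻¹ = (g : G) * t * (g : G)⁻¹ := h4
        show (g : G)⁻¹ * y * t = t * ((g : G)⁻¹ * y)
        have h6 : y * t = (g : G) * t * (g : G)⁻¹ * y := by rw [← h5]; group
        rw [mul_assoc, h6]
        group
      have h4 : y = g := by
        rw [inv_mul_eq_one] at h3
        exact h3.symm
      exact hyT (h4 ▸ g.2)
  · push Not at hcyc
    obtain ⟨P, hP⟩ := hcyc
    let φ : G →* MulAut T := MulAut.conjNormal
    have hφ : Function.Injective φ := by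
      rw [← MonoidHom.ker_eq_bot_iff, eq_bot_iff]
      intro g hg
      rw [Subgroup.mem_bot]
      apply hTC
      intro t ht
      have h4 : φ g ⟨t, ht⟩ = ⟨t, ht⟩ := by
        rw [MonoidHom.mem_ker] at hg
        rw [hg]
        rfl
      have h5 : g * t * g⁻¹ = t := by
        have := congrArg Subtype.val h4
        rwa [MulAut.conjNormal_apply] at this
      exact mul_inv_eq_iff_eq_mul.1 h5
    have hle : (MulAut.conj : T →* MulAut T).range ≤ φ.range := by
      rintro _ ⟨t, rfl⟩
      refine ⟨t, ?_⟩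
      apply MulEquiv.ext
      intro s
      apply Subtype.ext
      rw [MulAut.conjNormal_apply]
      rfl
    have h3 := h1 T hTna P hP φ.range hle
    rw [← card_congr (MonoidHom.ofInjective hφ)] at h3
    omega

end Cfsg.Agent.H649.ThreeCls
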