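import Cfsg.Agent.H649.ThreeBase
import Cfsg.Agent.H970.CycRow

/-!
# Groups with at most two classes of nontrivial `p`-elements: the group-theoretic reduction
-/

set_option autoImplicit false
set_option linter.style.haveILetI false

universe u

namespace Cfsg.Agent.H649.ThreeCls

open Subgroup
open Cfsg.Agent.H697.Pk Cfsg.Agent.H697.OneClass
open Cfsg.Agent.Lib.MinNormalNonabelian Cfsg.Agent.Lib.MinNormal

section one

variable {p : ℕ} [hp : Fact p.Prime]

/-- one class of nontrivial `p`-elements, not `p`-solvable -/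
theorem one_ge {G : Type u} [Group G] [Finite G] (h1 : RowNC.{u} p) (h2 : RowIM.{u} p)
    (hns : ¬ Cfsg.IsPSolvable p G)
    (hconj : ∀ x y : G, x ≠ 1 → y ≠ 1 → (∃ k : ℕ, orderOf x = p ^ k) →
      (∃ k : ℕ, orderOf y = p ^ k) → IsConj x y) : p ≤ Nat.card (PReg p G) := by
  have hf : Function.Surjective (QuotientGroup.mk' (Cfsg.pPrimeCore p G)) :=
    QuotientGroup.mk'_surjective _
  refine le_trans ?_ (card_le_of_surjective (QuotientGroup.mk' (Cfsg.pPrimeCore p G)) hf)
  apply core_case h1 h2 (Cfsg.Agent.H970.CycRow.rowCyc p)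
  · intro h
    exact hns (Lib.PSolvable.IsPSolvable_of_quotient p (Cfsg.pPrimeCore p G)
      (Or.inr (Lib.Cores.pPrimeCore_coprime p)) h)
  · exact Lib.Cores.pPrimeCore_quotient_pPrimeCore p
  · exact Cfsg.Agent.H697.PSolvA.hconj_map _ hf hconj

/-- the case of a nontrivial `p`-core -/
theorem pcore_case {G : Type u} [Group G] [Finite G] (h1 : RowNC.{u} p) (h2 : RowIM.{u} p)
    (hns : ¬ Cfsg.IsPSolvable p G) (hc : Cfsg.pCore p G ≠ ⊥) (h : Two p G) : p ≤ Nat.card (PReg p G) := by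
  obtain ⟨⟨a, haM⟩, ha1⟩ := (Subgroup.ne_bot_iff_exists_ne_one).1 hc
  have ha1' : a ≠ 1 := fun h => ha1 (Subtype.ext h)
  have hPG := Lib.Cores.pCore_isPGroup (G := G) p
  have hMn := Lib.Cores.pCore_normal (G := G) p
  have hak : ∃ k : ℕ, orderOf a = p ^ k := by
    obtain ⟨k, hk⟩ := (IsPGroup.iff_orderOf.1 hPG) ⟨a, haM⟩
    rw [← Subgroup.orderOf_coe] at hk
    exact ⟨k, hk⟩
  have hf : Function.Surjective (QuotientGroup.mk' (Cfsg.pCore p G)) := QuotientGroup.mk'_surjective _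
  refine le_trans ?_ (card_le_of_surjective (QuotientGroup.mk' (Cfsg.pCore p G)) hf)
  refine one_ge h1 h2 ?_ ?_
  · intro hs
    exact hns (Lib.PSolvable.IsPSolvable_of_quotient p (Cfsg.pCore p G) (Or.inl (IsPGroup.iff_card.1 hPG)) hs)
  · intro x y hx hy hxk hyk
    obtain ⟨g, rfl, hg⟩ := Cfsg.Agent.H697.PSolvA.exists_lift_pow _ hf hxk
    obtain ⟨k, rfl, hk⟩ := Cfsg.Agent.H697.PSolvA.exists_lift_pow _ hf hyk
    have hnot : ∀ z : G, QuotientGroup.mk' (Cfsg.pCore p G) z ≠ 1 → z ≠ 1 ∧ ¬ IsConj a z := by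
      intro z hz
      refine ⟨fun h0 => hz (by rw [h0, map_one]), fun hcj => ?_⟩
      obtain ⟨c, hc⟩ := isConj_iff.1 hcj
      apply hz
      rw [QuotientGroup.mk'_apply, QuotientGroup.eq_one_iff, ← hc]
      exact hMn.conj_mem a haM c
    obtain ⟨c, hc⟩ := isConj_iff.1 (h.conj ha1' (hnot g hx).1 (hnot k hy).1 hak hg hk (hnot g hx).2 (hnot k hy).2)
    exact isConj_iff.2 ⟨QuotientGroup.mk' _ c, by rw [← hc, map_mul, map_mul, map_inv]⟩

end one

section supp

variable {G : Type*} [Group G]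

/-- the components not centralised by `z` -/
def supp (N : Subgroup G) (z : G) : Set (Subgroup G) := {S | S ∈ minSet N ∧ ¬ ∀ t ∈ S, Commute z t}

theorem supp_conj (N : Subgroup G) [N.Normal] (z g : G) :
    supp N (g * z * g⁻¹) = (fun S : Subgroup G => S.map (MulAut.conj g).toMonoidHom) '' supp N z := by
  have key : ∀ (z g : G) (S : Subgroup G), S ∈ supp N z →
      S.map (MulAut.conj g).toMonoidHom ∈ supp N (g * z * g⁻¹) := by
    intro z g S hS
    refine ⟨map_conj_mem_minSet hS.1 g, fun h => hS.2 fun t ht => ?_⟩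
    have h1 := h (g * t * g⁻¹) ⟨t, ht, rfl⟩
    have h2 : g * z * g⁻¹ * (g * t * g⁻¹) = g * t * g⁻¹ * (g * z * g⁻¹) := h1
    show z * t = t * z
    have h3 : g * (z * t) * g⁻¹ = g * (t * z) * g⁻¹ := by
      rw [show g * (z * t) * g⁻¹ = g * z * g⁻¹ * (g * t * g⁻¹) by group, h2]
      group
    exact mul_left_cancel (mul_right_cancel h3)
  apply Set.Subset.antisymm
  · intro S hS
    have h1 := key _ g⁻¹ S hS
    rw [show g⁻¹ * (g * z * g⁻¹) * (g⁻¹)⁻¹ = z by group] at h1
    refine ⟨_, h1, ?_⟩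
    show (S.map (MulAut.conj g⁻¹).toMonoidHom).map (MulAut.conj g).toMonoidHom = S
    rw [Subgroup.map_map]
    ext x
    constructor
    · rintro ⟨y, hy, rfl⟩
      show g * (g⁻¹ * y * (g⁻¹)⁻¹) * g⁻¹ ∈ S
      rwa [show g * (g⁻¹ * y * (g⁻¹)⁻¹) * g⁻¹ = y by group]
    · intro hx
      refine ⟨x, hx, ?_⟩
      show g * (g⁻¹ * x * (g⁻¹)⁻¹) * g⁻¹ = x
      group
  · rintro _ ⟨S, hS, rfl⟩
    exact key z g S hS

theorem ncard_supp {N : Subgroup G} [N.Normal] {z w : G} (h : IsConj z w) :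
    (supp N z).ncard = (supp N w).ncard := by
  obtain ⟨g, rfl⟩ := isConj_iff.1 h
  rw [supp_conj, Set.ncard_image_of_injective]
  exact Subgroup.map_injective (MulAut.conj g).injective

theorem mem_supp_mul_left {N S : Subgroup G} {z w : G} (hz : ∀ t ∈ S, Commute z t) :
    S ∈ supp N (z * w) ↔ S ∈ supp N w := by
  refine and_congr_right fun _ => not_congr ⟨fun h t ht => ?_, fun h t ht => (hz t ht).mul_left (h t ht)⟩
  have := (hz t ht).inv_left.mul_left (h t ht)
  rwa [inv_mul_cancel_left] at this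

theorem mem_supp_mul_right {N S : Subgroup G} {z w : G} (hw : ∀ t ∈ S, Commute w t) :
    S ∈ supp N (z * w) ↔ S ∈ supp N z := by
  refine and_congr_right fun _ => not_congr ⟨fun h t ht => ?_, fun h t ht => (h t ht).mul_left (hw t ht)⟩
  have := (h t ht).mul_left (hw t ht).inv_left
  rwa [mul_inv_cancel_right] at this

end supp

end Cfsg.Agent.H649.ThreeCls
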